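import Cfsg.Agent.H65.MetaP
import Cfsg.Agent.H11.Act
import Cfsg.Agent.Solv.Frattini
import Cfsg.Agent.S4143
import Cfsg.Agent.MaxClass.TwoGroups
import Cfsg.Prelude.Def_CaseTheorems

set_option autoImplicit false

/-!
# metacyclic 2-groups containing a normal subgroup with an automorphism of order 3 (helper71)
-/

namespace Cfsg.Agent.H71

open Subgroup

universe u

/-- metacyclic: Frattini quotient of order at most `4` -/
theorem index_frattini_le {X : Type u} [Group X] [Finite X] (hX : IsPGroup 2 X) (hm : Cfsg.IsMetacyclic X) :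
    (frattini X).index ≤ 4 := by
  have hp : Fact (Nat.Prime 2) := ⟨Nat.prime_two⟩
  have h1 := H65.index_closure_pow_le (p := 2) hm 1
  have h2 : closure {x : X | ∃ y : X, y ^ 2 ^ 1 = x} ≤ frattini X := by
    rw [closure_le]
    rintro _ ⟨y, rfl⟩
    rw [pow_one]
    exact Solv.pow_mem_frattini_of_pGroup hX y
  exact (index_antitone h2).trans h1

/-- generators modulo the Frattini subgroup -/
theorem closure_pair_eq_top {X : Type u} [Group X] [Finite X] (hQ : (frattini X).index ≤ 4)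
    {x y : X} (hx : x ∉ frattini X) (hy : y ∉ frattini X) (hxy : y * x⁻¹ ∉ frattini X) :
    closure {x, y} = ⊤ := by
  apply frattini_nongenerating
  set Q := frattini X with hQd
  set K := closure {x, y} with hK
  have hxK : x ∈ K := subset_closure (by simp)
  have hyK : y ∈ K := subset_closure (by simp)
  -- count in the quotient
  let K' : Subgroup (X ⧸ Q) := K.map (QuotientGroup.mk' Q)
  have h1 : ((x : X) : X ⧸ Q) ∈ K' := ⟨x, hxK, rfl⟩
  have h2 : ((y : X) : X ⧸ Q) ∈ K' := ⟨y, hyK, rfl⟩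
  have n1 : ((x : X) : X ⧸ Q) ≠ 1 := fun h => hx ((QuotientGroup.eq_one_iff x).1 h)
  have n2 : ((y : X) : X ⧸ Q) ≠ 1 := fun h => hy ((QuotientGroup.eq_one_iff y).1 h)
  have n3 : ((y : X) : X ⧸ Q) ≠ x := fun h => hxy (by
    rw [← QuotientGroup.eq_one_iff, QuotientGroup.mk_mul, QuotientGroup.mk_inv, h, mul_inv_cancel])
  have hfin : Finite (X ⧸ Q) := inferInstance
  have hcard : Nat.card (X ⧸ Q) ≤ 4 := hQ
  have h3 : 3 ≤ Nat.card K' := by
    have hsub : ({1, ((x : X) : X ⧸ Q), ((y : X) : X ⧸ Q)} : Set (X ⧸ Q)) ⊆ K' := by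
      intro z hz
      rcases hz with rfl | rfl | rfl
      · exact K'.one_mem
      · exact h1
      · exact h2
    have h4 : ({1, ((x : X) : X ⧸ Q), ((y : X) : X ⧸ Q)} : Set (X ⧸ Q)).ncard = 3 := by
      rw [Set.ncard_eq_three]
      exact ⟨1, _, _, Ne.symm n1, Ne.symm n2, Ne.symm n3, rfl⟩
    have h5 := Set.ncard_le_ncard hsub (Set.toFinite _)
    rw [h4] at h5
    exact h5
  have h4 : Nat.card K' ∣ Nat.card (X ⧸ Q) := card_subgroup_dvd_card K'
  have h5 : K' = ⊤ := by
    apply eq_top_of_card_eq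
    obtain ⟨c, hc⟩ := h4
    have h6 : 0 < Nat.card (X ⧸ Q) := Nat.card_pos
    rcases Nat.eq_zero_or_pos c with rfl | hc0
    · omega
    rcases Nat.lt_or_ge c 2 with hc1 | hc1
    · have : c = 1 := by omega
      rw [hc, this, mul_one]
    · nlinarith
  have h6 : (K.map (QuotientGroup.mk' Q)).comap (QuotientGroup.mk' Q) = ⊤ := by
    show K'.comap _ = ⊤
    rw [h5, comap_top]
  rw [comap_map_eq, QuotientGroup.ker_mk'] at h6
  exact h6

/-- a power with odd exponent of an element of 2-power order generates -/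
theorem mem_zpowers_of_odd {G : Type u} [Group G] [Finite G] (hG : IsPGroup 2 G) {x : G} {i : ℤ} (hi : Odd i) :
    x ∈ zpowers (x ^ i) := by
  obtain ⟨n, hn⟩ := hG x
  have hcop : IsCoprime i ((2 : ℤ) ^ n) := by
    apply IsCoprime.pow_right
    rw [Int.isCoprime_iff_gcd_eq_one]
    obtain ⟨k, rfl⟩ := hi
    rw [show (2 * k + 1 : ℤ) = 1 + 2 * k by ring]
    simp
  obtain ⟨u, v, huv⟩ := hcop
  refine ⟨u, ?_⟩
  show (x ^ i) ^ u = x
  rw [← zpow_mul]
  have h1 : i * u = 1 - v * 2 ^ n := by linarith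
  rw [h1, zpow_sub, zpow_one, mul_comm v, zpow_mul]
  have h2 : x ^ ((2 : ℤ) ^ n) = 1 := by
    rw [show ((2 : ℤ) ^ n) = ((2 ^ n : ℕ) : ℤ) by push_cast; rfl, zpow_natCast, hn]
  rw [h2, one_zpow, inv_one, mul_one]

/-- if `⟨a⟩` is normalized by `b`, then `[b, a^i]` is a square in `⟨a⟩` -/
theorem comm_eq_sq {G : Type u} [Group G] [Finite G] (hG : IsPGroup 2 G) {a b : G} (h : b * a * b⁻¹ ∈ zpowers a)
    (i : ℤ) : ∃ j : ℤ, b * a ^ i * b⁻¹ * (a ^ i)⁻¹ = a ^ (2 * j) := by
  obtain ⟨k, hk⟩ := h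
  replace hk : a ^ k = b * a * b⁻¹ := hk
  have h1 : b * a ^ i * b⁻¹ = a ^ (k * i) := by
    rw [← conj_zpow, ← hk, zpow_mul]
  rw [h1, ← zpow_neg, ← zpow_add]
  rcases Int.even_or_odd k with hk2 | hk2
  · -- then `a = 1`
    obtain ⟨l, hl⟩ := hk2
    have ha : a = 1 := by
      by_contra ha
      have h2 : orderOf (a ^ k) = orderOf a := by
        rw [hk]
        have : orderOf (MulAut.conj b a) = orderOf a := orderOf_injective (MulAut.conj b).toMonoidHom (MulAut.conj b).injective a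
        exact this
      -- a ^ k has smaller order
      obtain ⟨n, hn⟩ := (IsPGroup.iff_orderOf (p := 2)).1 hG a
      rcases n with _ | n
      · rw [pow_zero, orderOf_eq_one_iff] at hn
        exact ha hn
      · have h3 : (a ^ k) ^ (2 ^ n) = 1 := by
          have : (a ^ k) ^ (2 ^ n) = (a ^ (2 ^ (n + 1) : ℕ)) ^ l := by
            rw [← zpow_natCast, ← zpow_natCast, ← zpow_mul, ← zpow_mul, hl]
            congr 1
            push_cast
            ring
          rw [this, ← hn, pow_orderOf_eq_one, one_zpow]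
        have h4 := orderOf_dvd_of_pow_eq_one h3
        rw [h2, hn] at h4
        have := Nat.le_of_dvd (by positivity) h4
        rw [pow_succ] at this
        have : 0 < 2 ^ n := by positivity
        omega
    exact ⟨0, by rw [ha]; simp⟩
  · obtain ⟨l, hl⟩ := hk2
    exact ⟨l * i, by congr 1; rw [hl]; ring⟩

theorem exists_eight {T : Type u} [Group T] [Finite T] (hT : IsPGroup 2 T) (hm : Cfsg.IsMetacyclic T)
    {X : Subgroup T} [hXn : X.Normal] (hXT : X ≠ ⊤) (α : MulAut X)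
    (h1 : ∀ t : T, (∀ x : X, t * x * t⁻¹ * (x : T)⁻¹ ∈ (frattini X).map X.subtype) → t ∈ X)
    (h2 : ∀ x : X, α x * x⁻¹ ∈ frattini X → x ∈ frattini X) :
    ∃ B : Subgroup T, Nat.card B = 8 ∧ ¬ IsMulCommutative B := by
  have hp : Fact (Nat.Prime 2) := ⟨Nat.prime_two⟩
  have hXp : IsPGroup 2 X := hT.to_subgroup X
  have hXm := H65.isMetacyclic_subgroup hm X
  have hidx := index_frattini_le hXp hXm
  obtain ⟨N, hN, hNc, hTN⟩ := hm
  obtain ⟨⟨a, haN⟩, ha⟩ := hNc.exists_generator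
  have hNa : ∀ x ∈ N, ∃ i : ℤ, a ^ i = x := by
    intro x hx
    obtain ⟨i, hi⟩ := ha ⟨x, hx⟩
    exact ⟨i, congrArg Subtype.val hi⟩
  obtain ⟨b', hb'⟩ := hTN.exists_generator
  obtain ⟨b, rfl⟩ := QuotientGroup.mk_surjective b'
  have hb : ∀ t : T, ∃ j : ℤ, t * (b ^ j)⁻¹ ∈ N := by
    intro t
    obtain ⟨j, hj⟩ := hb' (t : T ⧸ N)
    refine ⟨j, ?_⟩
    rw [← QuotientGroup.eq_one_iff, QuotientGroup.mk_mul, QuotientGroup.mk_inv, QuotientGroup.mk_zpow]
    rw [mul_inv_eq_one]
    exact hj.symm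
  set Q : Subgroup T := (frattini X).map X.subtype with hQd
  have hQmem : ∀ x : X, (x : T) ∈ Q ↔ x ∈ frattini X := by
    intro x
    constructor
    · rintro ⟨y, hy, hyx⟩
      have : y = x := Subtype.ext hyx
      rwa [← this]
    · intro h
      exact ⟨x, h, rfl⟩
  have hsq : ∀ x ∈ X, x ^ 2 ∈ Q := by
    intro x hx
    exact ⟨(⟨x, hx⟩ : X) ^ 2, Solv.pow_mem_frattini_of_pGroup hXp _, rfl⟩
  have hsqz : ∀ x ∈ X, ∀ j : ℤ, x ^ (2 * j) ∈ Q := by
    intro x hx j
    rw [zpow_mul]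
    exact Q.zpow_mem (by exact_mod_cast hsq x hx) j
  -- Step A
  have haX : a ∉ X := by
    intro haX
    have hNX : N ≤ X := by
      intro x hx
      obtain ⟨i, rfl⟩ := hNa x hx
      exact X.zpow_mem haX i
    have hbX : b ∈ X := by
      apply h1
      intro x
      obtain ⟨j, hj⟩ := hb (x : T)
      obtain ⟨i, hi⟩ := hNa _ hj
      have hx : (x : T) = a ^ i * b ^ j := by rw [hi]; group
      have hbab : b * a * b⁻¹ ∈ zpowers a := by
        obtain ⟨k, hk⟩ := hNa _ (hN.conj_mem a haN b)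
        exact ⟨k, hk⟩
      obtain ⟨l, hl⟩ := comm_eq_sq hT hbab i
      have : b * x * b⁻¹ * (x : T)⁻¹ = a ^ (2 * l) := by
        rw [← hl, hx]
        group
      rw [this]
      exact hsqz a haX l
    apply hXT
    rw [eq_top_iff]
    intro t _
    obtain ⟨j, hj⟩ := hb t
    have := X.mul_mem (hNX hj) (X.zpow_mem hbX j)
    rwa [inv_mul_cancel_right] at this
  -- Step B
  have hcomm : ∀ x ∈ X, a * x * a⁻¹ * x⁻¹ ∈ X ∧ ∃ k : ℤ, a ^ k = a * x * a⁻¹ * x⁻¹ := by
    intro x hx
    refine ⟨X.mul_mem (hXn.conj_mem x hx a) (X.inv_mem hx), ?_⟩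
    apply hNa
    have : a * x * a⁻¹ * x⁻¹ = a * (x * a⁻¹ * x⁻¹) := by group
    rw [this]
    exact N.mul_mem haN (hN.conj_mem _ (N.inv_mem haN) x)
  have ha2X : a ^ 2 ∈ X := by
    apply h1
    intro x
    obtain ⟨hc, k, hk⟩ := hcomm x x.2
    have : a ^ 2 * x * (a ^ 2)⁻¹ * (x : T)⁻¹ = (a * x * a⁻¹ * (x : T)⁻¹) ^ 2 := by
      have h3 : a * (a * x * a⁻¹ * (x : T)⁻¹) = (a * x * a⁻¹ * (x : T)⁻¹) * a := by
        rw [← hk]; group
      calc a ^ 2 * x * (a ^ 2)⁻¹ * (x : T)⁻¹ = a * (a * x * a⁻¹ * (x : T)⁻¹) * x * a⁻¹ * (x : T)⁻¹ := by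
            rw [sq]; group
        _ = (a * x * a⁻¹ * (x : T)⁻¹) * a * x * a⁻¹ * (x : T)⁻¹ := by rw [h3]
        _ = _ := by rw [sq]; group
    rw [this]
    exact hsq _ hc
  -- Step C : powers of `a` in `X`
  have hapow : ∀ k : ℤ, a ^ k ∈ X → ∃ i : ℤ, k = 2 * i := by
    intro k hk
    rcases Int.even_or_odd k with ⟨i, hi⟩ | hodd
    · exact ⟨i, by rw [hi]; ring⟩
    · exfalso
      apply haX
      exact (zpowers_le.2 hk) (mem_zpowers_of_odd hT hodd)
  have hcomm2 : ∀ x ∈ X, ∃ i : ℤ, a * x * a⁻¹ * x⁻¹ = (a ^ 2) ^ i := by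
    intro x hx
    obtain ⟨hc, k, hk⟩ := hcomm x hx
    obtain ⟨i, rfl⟩ := hapow k (by rw [hk]; exact hc)
    refine ⟨i, ?_⟩
    rw [← hk, zpow_mul]
    norm_cast
  let x1 : X := ⟨a ^ 2, ha2X⟩
  obtain ⟨x2, hx2⟩ : ∃ x2 : X, x2 = α x1 := ⟨_, rfl⟩
  have hx1 : x1 ∉ frattini X := by
    intro hx1
    apply haX
    apply h1
    intro x
    obtain ⟨i, hi⟩ := hcomm2 x x.2
    rw [hi]
    exact Q.zpow_mem ((hQmem x1).2 hx1) i
  have hx2n : x2 ∉ frattini X := by
    intro h
    apply hx1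
    have hchar : (frattini X).Characteristic := inferInstance
    have := (characteristic_iff_comap_eq.1 hchar) α
    rw [← this]
    show α x1 ∈ frattini X
    rw [← hx2]; exact h
  have hx12 : x2 * x1⁻¹ ∉ frattini X := by
    intro h
    exact hx1 (h2 x1 (hx2 ▸ h))
  have hgen := closure_pair_eq_top hidx hx1 hx2n hx12
  -- `[a, x2] ∉ Q`
  have hQn : Q.Normal := by
    have : (frattini X).Characteristic := inferInstance
    exact inferInstance
  have hax2 : a * x2 * a⁻¹ * (x2 : T)⁻¹ ∉ Q := by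
    intro hax2
    apply haX
    apply h1
    intro x
    have hxm : x ∈ closure {x1, x2} := by rw [hgen]; trivial
    induction hxm using closure_induction with
    | mem y hy =>
      rcases hy with rfl | rfl
      · have : a * (a ^ 2) * a⁻¹ * (a ^ 2)⁻¹ = 1 := by group
        show a * (a ^ 2) * a⁻¹ * (a ^ 2)⁻¹ ∈ Q
        rw [this]; exact Q.one_mem
      · exact hax2
    | one => simp [Q.one_mem]
    | mul y z _ _ hy hz =>
      have : a * ((y * z : X) : T) * a⁻¹ * ((y * z : X) : T)⁻¹ =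
          (a * y * a⁻¹ * (y : T)⁻¹) * ((y : T) * (a * z * a⁻¹ * (z : T)⁻¹) * (y : T)⁻¹) := by
        rw [coe_mul]; group
      rw [this]
      exact Q.mul_mem hy (hQn.conj_mem _ hz _)
    | inv y _ hy =>
      have : a * ((y⁻¹ : X) : T) * a⁻¹ * ((y⁻¹ : X) : T)⁻¹ = (y : T)⁻¹ * (a * y * a⁻¹ * (y : T)⁻¹)⁻¹ * (y : T)⁻¹⁻¹ := by
        rw [coe_inv]; group
      rw [this]
      exact hQn.conj_mem _ (Q.inv_mem hy) _
  obtain ⟨i, hi⟩ := hcomm2 x2 x2.2
  have hiodd : Odd i := by
    rw [← Int.not_even_iff_odd]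
    rintro ⟨j, hj⟩
    apply hax2
    rw [hi, hj, ← two_mul]
    exact hsqz _ ha2X j
  -- `⟨a²⟩` and `⟨x2⟩` are normal
  have hN1 : ∀ t : T, ∃ i : ℤ, t * a ^ 2 * t⁻¹ = (a ^ 2) ^ i := by
    intro t
    obtain ⟨k, hk⟩ := hNa _ (hN.conj_mem _ (N.pow_mem haN 2) t)
    obtain ⟨i, rfl⟩ := hapow k (by rw [hk]; exact hXn.conj_mem _ ha2X t)
    refine ⟨i, ?_⟩
    rw [← hk, zpow_mul]
    norm_cast
  have hN2 : ∀ x : X, (x : T) * x2 * (x : T)⁻¹ ∈ zpowers (x2 : T) := by
    intro x
    obtain ⟨j, hj⟩ := hN1 ((α⁻¹ x : X) : T)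
    have h3 : (α⁻¹ x) * x1 * (α⁻¹ x)⁻¹ = x1 ^ j := Subtype.ext (by
      rw [coe_mul, coe_mul, coe_inv, coe_zpow]; exact hj)
    have h4 := congrArg α h3
    rw [map_mul, map_mul, map_inv, map_zpow, MulAut.apply_inv_self, ← hx2] at h4
    refine ⟨j, ?_⟩
    show (x2 : T) ^ j = _
    rw [← coe_zpow, ← h4]
    rfl
  have hax : a * x2 * a⁻¹ = (a ^ 2) ^ i * x2 := by rw [← hi]; group
  have ha2x : a ^ 2 * x2 * (a ^ 2)⁻¹ = (a ^ 2) ^ (2 * i) * x2 := by
    have h3 : a ^ 2 * x2 * (a ^ 2)⁻¹ = a * (a * x2 * a⁻¹) * a⁻¹ := by rw [sq]; group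
    rw [h3, hax]
    have h4 : a * ((a ^ 2) ^ i * (x2 : T)) * a⁻¹ = (a ^ 2) ^ i * (a * x2 * a⁻¹) := by
      have : a * (a ^ 2) ^ i = (a ^ 2) ^ i * a := by
        rw [← zpow_natCast a 2, ← zpow_mul]; group
      rw [← mul_assoc, this]; group
    rw [h4, hax, ← mul_assoc, ← zpow_add, ← two_mul]
  have ha4 : a ^ 4 ∈ zpowers (x2 : T) := by
    have h3 : (a ^ 2) ^ (2 * i) ∈ zpowers (x2 : T) := by
      have h5 := mul_mem (hN2 x1) (inv_mem (mem_zpowers (x2 : T)))
      have h6 : (x1 : T) * x2 * (x1 : T)⁻¹ * (x2 : T)⁻¹ = (a ^ 2) ^ (2 * i) := by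
        show a ^ 2 * x2 * (a ^ 2)⁻¹ * (x2 : T)⁻¹ = _
        rw [ha2x]; group
      rwa [h6] at h5
    have h4 : (a ^ 2) ^ (2 * i) = (a ^ 4) ^ i := by
      rw [zpow_mul]; norm_cast; rw [← pow_mul]
    rw [h4] at h3
    exact (zpowers_le.2 h3) (mem_zpowers_of_odd hT hiodd)
  have ha4c : a ^ 4 * x2 * (a ^ 4)⁻¹ = x2 := by
    obtain ⟨j, hj⟩ := ha4
    rw [← hj]
    show (x2 : T) ^ j * x2 * ((x2 : T) ^ j)⁻¹ = x2
    group
  have ha8 : a ^ 8 = 1 := by
    have h3 : a ^ 4 * x2 * (a ^ 4)⁻¹ = (a ^ 2) ^ (4 * i) * x2 := by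
      have h4 : a ^ 4 * x2 * (a ^ 4)⁻¹ = a ^ 2 * (a ^ 2 * x2 * (a ^ 2)⁻¹) * (a ^ 2)⁻¹ := by
        rw [show a ^ 4 = a ^ 2 * a ^ 2 by rw [← pow_add]]; group
      rw [h4, ha2x]
      have h5 : a ^ 2 * ((a ^ 2) ^ (2 * i) * (x2 : T)) * (a ^ 2)⁻¹ = (a ^ 2) ^ (2 * i) * (a ^ 2 * x2 * (a ^ 2)⁻¹) := by
        have : a ^ 2 * (a ^ 2) ^ (2 * i) = (a ^ 2) ^ (2 * i) * a ^ 2 := by group
        rw [← mul_assoc, this]; group
      rw [h5, ha2x, ← mul_assoc, ← zpow_add]
      congr 2; ring
    rw [ha4c] at h3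
    have h4 : (a ^ 2) ^ (4 * i) = 1 := by
      have := h3.symm
      rwa [mul_eq_right] at this
    have h5 : (a ^ 2) ^ (4 * i) = (a ^ 8) ^ i := by
      rw [zpow_mul]; norm_cast; rw [← pow_mul]
    rw [h5] at h4
    have h6 := mem_zpowers_of_odd hT (x := a ^ 8) hiodd
    rw [h4, zpowers_one_eq_bot, mem_bot] at h6
    exact h6
  have ha2ne : a ^ 2 ≠ 1 := by
    intro h
    apply hx1
    have : x1 = 1 := Subtype.ext h
    rw [this]; exact one_mem _
  have hNz : N = zpowers a := by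
    apply le_antisymm
    · intro x hx
      exact hNa x hx
    · exact zpowers_le.2 haN
  by_cases ha41 : a ^ 4 = 1
  · -- `a` of order 4
    have hx2sq : (x2 : T) ^ 2 = 1 := by
      have : x2 ^ 2 = 1 := by
        rw [hx2, ← map_pow]
        have : x1 ^ 2 = 1 := Subtype.ext (by
          show (a ^ 2) ^ 2 = 1
          rw [← pow_mul]; exact ha41)
        rw [this, map_one]
      exact congrArg Subtype.val this
    have hx2ne : (x2 : T) ≠ 1 := by
      intro h
      apply hx2n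
      have : x2 = 1 := Subtype.ext h
      rw [this]; exact one_mem _
    have ho : orderOf a = 4 := by
      have := orderOf_eq_prime_pow (x := a) (p := 2) (n := 1) (by simpa using ha2ne) (by simpa using ha41)
      simpa using this
    have ho2 : orderOf (x2 : T) = 2 := orderOf_eq_prime hx2sq hx2ne
    have hx2N : (x2 : T) ∉ N := by
      intro h
      obtain ⟨k, hk⟩ := hNa _ h
      obtain ⟨j, rfl⟩ := hapow k (by rw [hk]; exact x2.2)
      rw [zpow_mul] at hk
      -- x2 = (a^2)^j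
      rcases Int.even_or_odd j with ⟨l, hl⟩ | ⟨l, hl⟩
      · apply hx2ne
        rw [← hk, hl, ← two_mul, zpow_mul]
        have : (a ^ (2 : ℤ)) ^ (2 : ℤ) = 1 := by
          rw [← zpow_mul]; norm_num; exact_mod_cast ha41
        rw [this, one_zpow]
      · apply hx12
        have : (x2 : T) = a ^ 2 := by
          rw [← hk, hl, zpow_add, zpow_mul]
          have : (a ^ (2 : ℤ)) ^ (2 : ℤ) = 1 := by
            rw [← zpow_mul]; norm_num; exact_mod_cast ha41
          rw [this, one_zpow, one_mul, zpow_one]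
          norm_cast
        have : x2 = x1 := Subtype.ext this
        rw [this, mul_inv_cancel]
        exact one_mem _
    have hinf : N ⊓ zpowers (x2 : T) = ⊥ := by
      rw [eq_bot_iff]
      rintro z ⟨hz1, hz2⟩
      rw [mem_bot]
      obtain ⟨k, rfl⟩ := hz2
      replace hz1 : (x2 : T) ^ k ∈ N := hz1
      show (x2 : T) ^ k = 1
      rcases Int.even_or_odd k with ⟨l, hl⟩ | hk
      · rw [hl, ← two_mul, zpow_mul]
        have : (x2 : T) ^ (2 : ℤ) = 1 := by exact_mod_cast hx2sq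
        rw [this, one_zpow]
      · exact absurd ((zpowers_le.2 hz1) (mem_zpowers_of_odd hT hk)) hx2N
    refine ⟨zpowers (x2 : T) ⊔ N, ?_, ?_⟩
    · rw [H11.card_sup_of_disjoint (by rw [normalizer_eq_top]; exact le_top) (by rw [inf_comm]; exact hinf),
        Nat.card_zpowers, ho2, hNz, Nat.card_zpowers, ho]
    · intro hcom
      have h3 : a * x2 = x2 * a := by
        have := hcom.is_comm.comm (⟨a, le_sup_right (a := zpowers (x2 : T)) haN⟩ : ↥(zpowers (x2 : T) ⊔ N))
          ⟨x2, le_sup_left (b := N) (mem_zpowers _)⟩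
        exact congrArg Subtype.val this
      apply hax2
      rw [h3]
      simp [Q.one_mem]
  · -- `a` of order 8
    have ho : orderOf (a ^ 2) = 4 := by
      have := orderOf_eq_prime_pow (x := a ^ 2) (p := 2) (n := 1) (by simpa [← pow_mul] using ha41)
        (by simpa [← pow_mul] using ha8)
      simpa using this
    have ho2 : orderOf (x2 : T) = 4 := by
      rw [Subgroup.orderOf_coe, hx2]
      have h3 : orderOf (α x1) = orderOf x1 := orderOf_injective α.toMonoidHom α.injective x1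
      rw [h3, ← Subgroup.orderOf_coe]
      exact ho
    have hN1n : (zpowers (a ^ 2)).Normal := by
      constructor
      rintro _ ⟨k, rfl⟩ g
      obtain ⟨j, hj⟩ := hN1 g
      show g * (a ^ 2) ^ k * g⁻¹ ∈ _
      rw [← conj_zpow, hj]
      exact zpow_mem (zpow_mem (mem_zpowers _) _) _
    have hx1K : a ^ 2 ∉ zpowers (x2 : T) := by
      intro h
      have h3 : zpowers x2 = ⊤ := by
        rw [eq_top_iff, ← hgen, closure_le]
        intro y hy
        rcases hy with rfl | rfl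
        · obtain ⟨k, hk⟩ := h
          exact ⟨k, Subtype.ext (by
            show (x2 ^ k : X).1 = a ^ 2
            rw [coe_zpow]; exact hk)⟩
        · exact mem_zpowers _
      -- `x1` is a power of `x2`
      have h4 : x1 ∈ zpowers x2 := by rw [h3]; trivial
      obtain ⟨k, hk⟩ := h4
      replace hk : x2 ^ k = x1 := hk
      rcases Int.even_or_odd k with ⟨l, hl⟩ | ⟨l, hl⟩
      · apply hx1
        rw [← hk, hl, ← two_mul, zpow_mul]
        exact Subgroup.zpow_mem _ (by exact_mod_cast Solv.pow_mem_frattini_of_pGroup hXp _) _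
      · apply hx12
        rw [← hk, hl, ← zpow_neg, ← zpow_one_add, show (1 + -(2 * l + 1) : ℤ) = 2 * (-l) by ring, zpow_mul]
        exact Subgroup.zpow_mem _ (by exact_mod_cast Solv.pow_mem_frattini_of_pGroup hXp _) _
    have hinf : Nat.card ↥(zpowers (x2 : T) ⊓ zpowers (a ^ 2)) = 2 := by
      have h3 : Nat.card ↥(zpowers (x2 : T) ⊓ zpowers (a ^ 2)) ∣ 4 := by
        rw [← ho, ← Nat.card_zpowers]
        exact card_dvd_of_le inf_le_right
      have h4 : Nat.card ↥(zpowers (x2 : T) ⊓ zpowers (a ^ 2)) ≠ 1 := by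
        intro h
        rw [card_eq_one] at h
        apply ha41
        rw [← mem_bot, ← h]
        refine ⟨ha4, 2, ?_⟩
        show (a ^ 2) ^ (2 : ℤ) = a ^ 4
        norm_cast
        rw [← pow_mul]
      have h5 : Nat.card ↥(zpowers (x2 : T) ⊓ zpowers (a ^ 2)) ≠ 4 := by
        intro h
        apply hx1K
        have h6 : zpowers (x2 : T) ⊓ zpowers (a ^ 2) = zpowers (a ^ 2) := by
          apply eq_of_le_of_card_ge inf_le_right
          rw [h, Nat.card_zpowers, ho]
        have : a ^ 2 ∈ zpowers (x2 : T) ⊓ zpowers (a ^ 2) := by rw [h6]; exact mem_zpowers _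
        exact this.1
      obtain ⟨k, hk, hk2⟩ := (Nat.dvd_prime_pow Nat.prime_two).1 (show _ ∣ 2 ^ 2 from h3)
      rw [hk2] at h4 h5 ⊢
      interval_cases k
      · exact absurd rfl h4
      · rfl
      · exact absurd rfl h5
    refine ⟨zpowers (x2 : T) ⊔ zpowers (a ^ 2), ?_, ?_⟩
    · have h3 := H11.card_sup_mul_card_inf (H := zpowers (x2 : T)) (K := zpowers (a ^ 2))
        (by rw [normalizer_eq_top]; exact le_top)
      rw [hinf, Nat.card_zpowers, Nat.card_zpowers, ho, ho2] at h3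
      omega
    · intro hcom
      have h3 : a ^ 2 * x2 = x2 * a ^ 2 := by
        have := hcom.is_comm.comm (⟨a ^ 2, le_sup_right (a := zpowers (x2 : T)) (mem_zpowers (a ^ 2))⟩ :
          ↥(zpowers (x2 : T) ⊔ zpowers (a ^ 2))) ⟨x2, le_sup_left (b := zpowers (a ^ 2)) (mem_zpowers _)⟩
        exact congrArg Subtype.val this
      rw [h3, mul_assoc, mul_inv_cancel, mul_one] at ha2x
      have h4 : (a ^ 2) ^ (2 * i) = 1 := by
        have := ha2x.symm
        rwa [mul_eq_right] at this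
      have h5 : (a ^ 2) ^ (2 * i) = (a ^ 4) ^ i := by
        rw [zpow_mul]; norm_cast; rw [← pow_mul]
      rw [h5] at h4
      have h6 := mem_zpowers_of_odd hT (x := a ^ 4) hiodd
      rw [h4, zpowers_one_eq_bot, mem_bot] at h6
      exact ha41 h6

/-- In a metacyclic 2-group, a nonabelian subgroup of order 8 is self-centralizing. -/
theorem centralizer_le_of_eight {P : Type u} [Group P] [Finite P] (hP : IsPGroup 2 P) (hm : Cfsg.IsMetacyclic P)
    (B : Subgroup P) (hB : Nat.card B = 8) (hBn : ¬ IsMulCommutative B) :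
    Subgroup.centralizer (B : Set P) ≤ B := by
  have hp : Fact (Nat.Prime 2) := ⟨Nat.prime_two⟩
  intro c hc
  by_contra hcB
  -- a power of `c` outside `B` whose square is in `B`
  obtain ⟨d, hdc, hdB, hd2⟩ : ∃ d : P, d ∈ Subgroup.centralizer (B : Set P) ∧ d ∉ B ∧ d ^ 2 ∈ B := by
    obtain ⟨n, hn⟩ := hP c
    have hex : ∃ k : ℕ, c ^ 2 ^ k ∈ B := ⟨n, by rw [hn]; exact B.one_mem⟩
    classical
    set k := Nat.find hex with hk
    have h1 : c ^ 2 ^ k ∈ B := Nat.find_spec hex
    have hk0 : k ≠ 0 := by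
      intro h0
      rw [h0, pow_zero, pow_one] at h1
      exact hcB h1
    refine ⟨c ^ 2 ^ (k - 1), Subgroup.pow_mem _ hc _, Nat.find_min hex (m := k - 1) (by omega), ?_⟩
    rw [← pow_mul, ← pow_succ, Nat.sub_add_cancel (by omega)]
    exact h1
  set H : Subgroup P := B ⊔ zpowers d with hH
  have hdn : zpowers d ≤ Subgroup.centralizer (B : Set P) := zpowers_le.2 hdc
  have hBd : ∀ b ∈ B, ∀ k : ℤ, b * d ^ k = d ^ k * b := by
    intro b hb k
    have := (mem_centralizer_iff.1 (hdn (zpow_mem (mem_zpowers d) k))) b hb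
    exact this
  have hBnorm : B ≤ Subgroup.normalizer (zpowers d : Set P) := by
    intro b hb
    rw [mem_normalizer_iff]
    intro z
    constructor
    · rintro ⟨k, rfl⟩
      refine ⟨k, ?_⟩
      show d ^ k = b * d ^ k * b⁻¹
      rw [hBd b hb k]; group
    · rintro ⟨k, hk⟩
      refine ⟨k, ?_⟩
      show d ^ k = z
      replace hk : d ^ k = b * z * b⁻¹ := hk
      have : z = b⁻¹ * d ^ k * b := by rw [hk]; group
      rw [this, mul_assoc, ← hBd b hb k]; group
  have hcardH : 16 ≤ Nat.card H := by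
    have h1 : B < H := lt_of_le_of_ne le_sup_left fun h => hdB (by rw [h]; exact le_sup_right (a := B) (mem_zpowers d))
    have h2 : Nat.card B ∣ Nat.card H := card_dvd_of_le h1.le
    have h3 : Nat.card B ≠ Nat.card H := fun h => h1.ne (eq_of_le_of_card_ge h1.le h.ge)
    rw [hB] at h2 h3
    obtain ⟨m, hm⟩ := h2
    have : 0 < Nat.card H := Nat.card_pos
    rcases m with _ | _ | m
    · omega
    · omega
    · rw [hm]; omega
  obtain ⟨k, hk0, hk⟩ := IsPGroup.card_center_eq_prime_pow (p := 2) (n := 3) (G := B) hB (by norm_num)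
  have hkB := (center B).card_mul_index
  rw [hk, hB] at hkB
  have hk1 : k = 1 := by
    have hk3 : k ≤ 3 := by
      by_contra hlt
      have h1 : 2 ^ 4 ≤ 2 ^ k := Nat.pow_le_pow_right (by norm_num) (by omega)
      have h2 : 0 < (center B).index := Nat.pos_of_ne_zero index_ne_zero_of_finite
      nlinarith
    interval_cases k
    · rfl
    · -- index 2
      exfalso
      apply hBn
      have h2 : Nat.card (B ⧸ center B) = 2 := by
        show (center B).index = 2
        omega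
      have hc : IsCyclic (B ⧸ center B) := isCyclic_of_prime_card h2
      exact MonoidHom.isMulCommutative_of_isCyclic_of_ker_le_center (QuotientGroup.mk' (center B)) (by simp)
    · exfalso
      apply hBn
      have h2 : center B = ⊤ := by
        apply eq_top_of_card_eq
        rw [hk, hB]; norm_num
      refine ⟨⟨fun a b => ?_⟩⟩
      have : b ∈ center B := by rw [h2]; trivial
      exact mem_center_iff.1 this a
  subst hk1
  have hsqB : ∀ b : B, b ^ 2 ∈ center B := by
    intro b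
    rw [← QuotientGroup.eq_one_iff, QuotientGroup.mk_pow]
    by_contra hne
    -- otherwise `B / Z` is cyclic of order 4
    apply hBn
    have h4 : Nat.card (B ⧸ center B) = 4 := by
      show (center B).index = 4
      omega
    have ho : orderOf ((b : B) : B ⧸ center B) = 4 := by
      have h5 : orderOf ((b : B) : B ⧸ center B) ∣ 4 := by
        rw [← h4]; exact orderOf_dvd_natCard _
      obtain ⟨k, hk, hk2⟩ := (Nat.dvd_prime_pow Nat.prime_two).1 (show _ ∣ 2 ^ 2 from h5)
      interval_cases k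
      · exfalso; apply hne
        rw [pow_zero, orderOf_eq_one_iff] at hk2
        rw [hk2, one_pow]
      · exfalso; apply hne
        rw [← pow_orderOf_eq_one ((b : B) : B ⧸ center B), hk2, pow_one]
      · rw [hk2]; norm_num
    have hc : IsCyclic (B ⧸ center B) := isCyclic_of_orderOf_eq_card _ (by rw [ho, h4])
    exact MonoidHom.isMulCommutative_of_isCyclic_of_ker_le_center (QuotientGroup.mk' (center B)) (by simp)
  -- all squares of `H` are in `Z(B)`
  set V : Subgroup P := (center B).map B.subtype with hV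
  have hVc : Nat.card V = 2 := by
    rw [hV, card_subtype, hk]; norm_num
  have hdV : d ^ 2 ∈ V := by
    refine ⟨⟨d ^ 2, hd2⟩, ?_, rfl⟩
    rw [SetLike.mem_coe, mem_center_iff]
    intro b
    apply Subtype.ext
    have := hBd b b.2 2
    norm_cast at this
  have hsq : ∀ h ∈ H, h ^ 2 ∈ V := by
    intro h hh
    obtain ⟨b, hb, z, ⟨k, rfl⟩, rfl⟩ := (H11.mem_sup_of_le_normalizer hBnorm).1 hh
    show (b * d ^ k) ^ 2 ∈ V
    have h1 : (b * d ^ k) ^ 2 = b ^ 2 * (d ^ 2) ^ k := by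
      have h2 := hBd b hb k
      rw [(show Commute b (d ^ k) from h2).mul_pow]
      congr 1
      rw [← zpow_natCast, ← zpow_natCast, ← zpow_mul, ← zpow_mul, mul_comm]
    rw [h1]
    exact V.mul_mem ⟨(⟨b, hb⟩ : B) ^ 2, hsqB _, rfl⟩ (V.zpow_mem hdV k)
  have h1 := H65.index_closure_pow_le (p := 2) (H65.isMetacyclic_subgroup hm H) 1
  set U := closure {x : H | ∃ y : H, y ^ 2 ^ 1 = x} with hU
  have h2 : Nat.card U ≤ 2 := by
    rw [← hVc, ← card_subtype H U]
    apply card_le_of_le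
    rw [map_le_iff_le_comap, hU, closure_le]
    rintro _ ⟨y, rfl⟩
    rw [pow_one]
    exact hsq y y.2
  have h3 := U.card_mul_index
  have h5 : Nat.card U * U.index ≤ 2 * 4 := Nat.mul_le_mul h2 (by simpa using h1)
  omega

/-- A metacyclic 2-group with a nonabelian subgroup of order 8 is dihedral, quaternion or semidihedral. -/
theorem cases_of_eight {P : Type u} [Group P] [Finite P] (hP : IsPGroup 2 P) (hm : Cfsg.IsMetacyclic P)
    (B : Subgroup P) (hB : Nat.card B = 8) (hBn : ¬ IsMulCommutative B) :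
    (∃ m : ℕ, Nonempty (P ≃* DihedralGroup m)) ∨ (∃ m : ℕ, Nonempty (P ≃* QuaternionGroup m)) ∨
      Cfsg.IsQuasiDihedral P := by
  have hp : Fact (Nat.Prime 2) := ⟨Nat.prime_two⟩
  obtain ⟨n, hn⟩ := IsPGroup.iff_card.1 hP
  have hn3 : 3 ≤ n := by
    have h1 : 2 ^ 3 ∣ 2 ^ n := by rw [← hn, ← show Nat.card B = 2 ^ 3 by rw [hB]; norm_num]; exact card_subgroup_dvd_card B
    exact (Nat.pow_dvd_pow_iff_le_right (by norm_num)).1 h1
  have hcl := S4143.result n hn B (by rw [hB]; norm_num) hBn (centralizer_le_of_eight hP hm B hB hBn)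
  have hidx := MaxClass.index_commutator_of_maxClass (by omega) hn hcl
  obtain ⟨a, b, ha, hb, h⟩ := MaxClass.structure_of_index_commutator hn3 hn (by rw [hidx]; norm_num)
  rcases h with ⟨h1, h2⟩ | ⟨h1, h2⟩ | ⟨h4, h1, h2⟩
  · left
    refine ⟨2 ^ (n - 1), MaxClass.nonempty_mulEquiv_dihedral (by positivity) ha hb h1 h2 ?_⟩
    rw [hn, ← pow_succ']; congr 1; omega
  · right; left
    refine ⟨2 ^ (n - 2), MaxClass.nonempty_mulEquiv_quaternion (by positivity) ?_ hb h1 h2 ?_⟩
    · rw [ha, ← pow_succ']; congr 1; omega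
    · rw [hn, show (4 : ℕ) = 2 ^ 2 by norm_num, ← pow_add]; congr 1; omega
  · right; right
    refine ⟨n - 1, by omega, by rw [hn]; congr 1; omega, a, b, ha, ?_, ?_⟩
    · exact orderOf_eq_prime h1 (fun h => hb (h ▸ one_mem _))
    · rw [h2, show n - 1 - 1 = n - 2 by omega]


theorem frattini_equiv {A B : Type*} [Group A] [Group B] (e : A ≃* B) (x : A) :
    e x ∈ frattini B ↔ x ∈ frattini A := by
  constructor
  · intro h
    have := frattini_le_comap_frattini_of_surjective (φ := e.symm.toMonoidHom) e.symm.surjective h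
    rw [mem_comap] at this
    simpa using this
  · intro h
    exact frattini_le_comap_frattini_of_surjective (φ := e.toMonoidHom) e.surjective h

theorem exists_eight' {Ω : Type u} [Group Ω] {X T : Subgroup Ω} [Finite T] (hXT : X ≤ T)
    (hn : T ≤ normalizer (X : Set Ω)) (hT : IsPGroup 2 T) (hm : Cfsg.IsMetacyclic T) (hne : X ≠ T) (β : MulAut X)
    (h1 : ∀ t ∈ T, (∀ x ∈ X, t * x * t⁻¹ * x⁻¹ ∈ (frattini X).map X.subtype) → t ∈ X)
    (h2 : ∀ x : X, β x * x⁻¹ ∈ frattini X → x ∈ frattini X) :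
    ∃ B : Subgroup Ω, B ≤ T ∧ Nat.card B = 8 ∧ ¬ IsMulCommutative B := by
  have hXn : (X.subgroupOf T).Normal := normal_subgroupOf_of_le_normalizer hn
  let e := subgroupOfEquivOfLe hXT
  have he : ∀ x : X.subgroupOf T, ((e x : X) : Ω) = ((x : T) : Ω) := fun x => rfl
  let α : MulAut (X.subgroupOf T) := (e.trans β).trans e.symm
  have hα : ∀ x, e (α x) = β (e x) := by
    intro x
    simp [α]
  have htop : X.subgroupOf T ≠ ⊤ := by
    intro h
    rw [subgroupOf_eq_top] at h
    exact hne (le_antisymm hXT h)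
  obtain ⟨B, hB, hBn⟩ := exists_eight hT hm htop α (by
    intro t ht
    rw [mem_subgroupOf]
    apply h1 t t.2
    intro x hx
    have h3 := ht (e.symm ⟨x, hx⟩)
    obtain ⟨y, hy, hyx⟩ := h3
    refine ⟨e y, (frattini_equiv e y).2 hy, ?_⟩
    have h4 := congrArg Subtype.val hyx
    have h5 : (((e.symm ⟨x, hx⟩ : X.subgroupOf T) : T) : Ω) = x := by
      rw [← he, e.apply_symm_apply]
    rw [coe_mul, coe_mul, coe_mul, coe_inv, coe_inv, h5] at h4
    exact h4) (by
    intro x hx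
    rw [← frattini_equiv e]
    apply h2
    rw [← hα, ← map_inv, ← map_mul, frattini_equiv e]
    exact hx)
  refine ⟨B.map T.subtype, map_subtype_le B, by rw [card_subtype]; exact hB, ?_⟩
  intro hc
  apply hBn
  refine ⟨⟨fun a b => ?_⟩⟩
  have := hc.is_comm.comm (⟨((a : T) : Ω), ⟨a, a.2, rfl⟩⟩ : B.map T.subtype) ⟨((b : T) : Ω), ⟨b, b.2, rfl⟩⟩
  have h3 : ((a : T) : Ω) * ((b : T) : Ω) = ((b : T) : Ω) * ((a : T) : Ω) := congrArg Subtype.val this
  exact Subtype.ext (Subtype.ext h3)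

/-- an automorphism of a group with Frattini quotient of order at most four, fixing a nontrivial coset of the
Frattini subgroup: its square acts trivially on the Frattini quotient -/
theorem sq_trivial_of_fix {X : Type u} [Group X] [Finite X] (hX : IsPGroup 2 X) (hi : (frattini X).index ≤ 4)
    (β : MulAut X) (x : X) (hx : x ∉ frattini X) (hβx : β x * x⁻¹ ∈ frattini X) (y : X) :
    β (β y) * y⁻¹ ∈ frattini X := by
  have hp : Fact (Nat.Prime 2) := ⟨Nat.prime_two⟩
  have hchar : (frattini X).Characteristic := inferInstance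
  have hβ : ∀ z, β z ∈ frattini X ↔ z ∈ frattini X := fun z => frattini_equiv β z
  have hmk : ∀ a b : X, ((a : X) : X ⧸ frattini X) = b ↔ a * b⁻¹ ∈ frattini X := by
    intro a b
    rw [← QuotientGroup.eq_one_iff, QuotientGroup.mk_mul, QuotientGroup.mk_inv, mul_inv_eq_one]
  let Y : Subgroup X := MonoidHom.eqLocus ((QuotientGroup.mk' (frattini X)).comp β.toMonoidHom)
    (QuotientGroup.mk' (frattini X))
  have hYmem : ∀ z, z ∈ Y ↔ β z * z⁻¹ ∈ frattini X := fun z => hmk _ _
  by_cases hY : Y = ⊤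
  · have h1 : β (β y) * (β y)⁻¹ ∈ frattini X := (hYmem _).1 (by rw [hY]; trivial)
    have h2 : β y * y⁻¹ ∈ frattini X := (hYmem _).1 (by rw [hY]; trivial)
    have := mul_mem h1 h2
    rwa [mul_assoc, inv_mul_cancel_left] at this
  · have hΦY : frattini X ≤ Y := by
      intro z hz
      rw [hYmem]
      exact mul_mem ((hβ z).2 hz) (inv_mem hz)
    have h1 := relIndex_mul_index hΦY
    have h2 : Y.index ≠ 1 := fun h => hY (index_eq_one.1 h)
    have h3 : (frattini X).relIndex Y ≠ 1 := fun h => hx ((relIndex_eq_one.1 h) ((hYmem x).2 hβx))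
    have h4 : Y.index ≠ 0 := index_ne_zero_of_finite
    have h5 : (frattini X).relIndex Y ≠ 0 := by
      intro h0
      rw [h0, zero_mul] at h1
      exact index_ne_zero_of_finite h1.symm
    have h6 : Y.index = 2 := by
      have h7 : 2 ≤ (frattini X).relIndex Y := by omega
      have h8 : 2 ≤ Y.index := by omega
      rw [← h1] at hi
      nlinarith
    have hβY : ∀ z, β z ∈ Y ↔ z ∈ Y := by
      intro z
      rw [hYmem, hYmem, ← map_inv, ← map_mul, hβ]
    have h9 : β y * y⁻¹ ∈ Y := by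
      rw [mul_mem_iff_of_index_two h6, inv_mem_iff]
      exact hβY y
    have h10 := (hYmem _).1 h9
    have h11 : β (β y * y⁻¹) * (β y * y⁻¹) ∈ frattini X := by
      have h12 := mul_mem h10 (Solv.pow_mem_frattini_of_pGroup hX (β y * y⁻¹))
      have h13 : β (β y * y⁻¹) * (β y * y⁻¹)⁻¹ * (β y * y⁻¹) ^ 2 = β (β y * y⁻¹) * (β y * y⁻¹) := by
        rw [sq]; group
      rwa [h13] at h12
    rwa [map_mul, map_inv, mul_assoc, inv_mul_cancel_left] at h11

end Cfsg.Agent.H71
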