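import Mathlib
import Cfsg.Prelude.Def_Involutions
import Cfsg.Agent.S1224
import Cfsg.Agent.S1225
import Cfsg.Agent.S0224
import Cfsg.Agent.Frob.Complement
import Cfsg.Agent.Cop.Basic

/-!
Frobenius systems: a subgroup `M` of `G` with a normal subgroup `F` such that the elements of `M`
outside `F` act without fixed points on `F`, and `F` is a TI subgroup with normaliser `M`.
If `|F|` is even then `M` is strongly embedded, and `G` is 2-transitive on the cosets of `M`.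
-/

set_option autoImplicit false

namespace Cfsg.Agent.H71.FrobSys

open Subgroup
open scoped Pointwise

variable {G : Type*} [Group G]

theorem card_mul_relIndex {A B : Subgroup G} (h : A ≤ B) : Nat.card A * A.relIndex B = Nat.card B := by
  rw [Subgroup.relIndex, ← Subgroup.card_mul_index (A.subgroupOf B),
    Nat.card_congr (Subgroup.subgroupOfEquivOfLe h).toEquiv]

structure Sys (M F : Subgroup G) : Prop where
  le : F ≤ M
  conj : ∀ m ∈ M, ∀ x ∈ F, m * x * m⁻¹ ∈ F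
  fpf : ∀ a ∈ M, a ∉ F → ∀ x ∈ F, x * a = a * x → x = 1
  ti : ∀ g, g ∉ M → ∀ x ∈ F, g⁻¹ * x * g ∈ F → x = 1

namespace Sys

variable {M F : Subgroup G} (h : Sys M F)
include h

theorem cent {x y : G} (hx : x ∈ F) (hx1 : x ≠ 1) (hxy : x * y = y * x) : y ∈ F := by
  have hy : y ∈ M := by
    by_contra hy
    apply hx1
    apply h.ti y hy x hx
    have : y⁻¹ * x * y = x := by rw [mul_assoc, hxy, inv_mul_cancel_left]
    rwa [this]
  by_contra hyF
  exact hx1 (h.fpf y hy hyF x hx hxy)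

theorem le_normalizer : M ≤ normalizer (F : Set G) := by
  intro m hm
  rw [Subgroup.mem_normalizer_iff]
  intro x
  refine ⟨fun hx => h.conj m hm x hx, fun hx => ?_⟩
  have := h.conj m⁻¹ (inv_mem hm) _ hx
  have e : m⁻¹ * (m * x * m⁻¹) * m⁻¹⁻¹ = x := by group
  rwa [e] at this

theorem p_mem [Finite G] {p n : ℕ} (hp : p.Prime) (hpF : p ∣ Nat.card F) {a : G} (ha : a ∈ M)
    (hpow : a ^ p ^ n = 1) : a ∈ F := by
  have hn : zpowers a ≤ normalizer (F : Set G) := (zpowers_le.2 ha).trans h.le_normalizer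
  have hpf := Fact.mk hp
  let _ : MulAction (zpowers a) F := MulAction.compHom F (Frob.conjAct (zpowers a) F hn)
  have hP : IsPGroup p (zpowers a) := by
    rw [IsPGroup.iff_card]
    rw [Nat.card_zpowers]
    obtain ⟨k, -, hk⟩ := (Nat.dvd_prime_pow hp).1 (orderOf_dvd_of_pow_eq_one hpow)
    exact ⟨k, hk⟩
  have h1 : (1 : F) ∈ MulAction.fixedPoints (zpowers a) F := fun g => map_one (Frob.conjAct (zpowers a) F hn g)
  obtain ⟨b, hb, hb1⟩ := hP.exists_fixed_point_of_prime_dvd_card_of_fixed_point F hpF h1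
  by_contra haF
  have h2 := hb ⟨a, mem_zpowers a⟩
  have h3 : a * b * a⁻¹ = b := congrArg Subtype.val h2
  apply hb1
  have h4 := h.fpf a ha haF b b.2 (mul_inv_eq_iff_eq_mul.1 h3).symm
  exact (Subtype.ext h4).symm

theorem sq_mem [Finite G] (he : Even (Nat.card F)) {a : G} (ha : a ∈ M) (haa : a * a = 1) : a ∈ F :=
  h.p_mem (n := 1) Nat.prime_two he.two_dvd ha (by rw [pow_one, pow_two, haa])

theorem ti' [Finite G] {g : G} (hg : g ∉ M) {x : G} (hx : x ∈ F) (hgx : g⁻¹ * x * g ∈ M) : x = 1 := by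
  by_contra hx1
  have h1 : orderOf x ≠ 1 := fun h' => hx1 (orderOf_eq_one_iff.1 h')
  obtain ⟨p, hp, hpx⟩ := Nat.exists_prime_and_dvd h1
  obtain ⟨k, hk⟩ := hpx
  have hk0 : 0 < k := by
    rcases Nat.eq_zero_or_pos k with h0 | h0
    · rw [h0, mul_zero] at hk
      exact absurd hk (orderOf_pos x).ne'
    · exact h0
  have hpF : p ∣ Nat.card F := by
    have h2 : orderOf x ∣ Nat.card F := by
      have := orderOf_dvd_natCard (⟨x, hx⟩ : F)
      rwa [Subgroup.orderOf_mk] at this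
    exact (Dvd.intro k hk.symm).trans h2
  have e : g⁻¹ * x ^ k * g = (g⁻¹ * x * g) ^ k := by
    have := conj_pow (i := k) (a := g⁻¹) (b := x)
    rw [inv_inv] at this
    exact this.symm
  have h3 : g⁻¹ * x ^ k * g ∈ F := by
    apply h.p_mem (n := 1) hp hpF
    · rw [e]; exact pow_mem hgx k
    · rw [e, ← pow_mul, pow_one, mul_comm k p, ← hk]
      have := conj_pow (i := orderOf x) (a := g⁻¹) (b := x)
      rw [inv_inv] at this
      rw [this, pow_orderOf_eq_one]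
      group
  have h4 := h.ti g hg (x ^ k) (pow_mem hx k) h3
  have h5 := orderOf_dvd_of_pow_eq_one h4
  rw [hk] at h5
  have h6 := Nat.le_of_dvd hk0 h5
  have := hp.two_le
  nlinarith

theorem strong [Finite G] (he : Even (Nat.card F)) (hM : M ≠ ⊤) : Cfsg.IsStronglyEmbedded M := by
  refine ⟨hM, ?_, ?_⟩
  · exact even_iff_two_dvd.2 (he.two_dvd.trans (Subgroup.card_dvd_of_le h.le))
  · intro g hg
    by_contra hodd
    rw [Nat.not_odd_iff_even] at hodd
    obtain ⟨⟨t, ht⟩, ht2⟩ := exists_prime_orderOf_dvd_card' (p := 2) hodd.two_dvd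
    rw [Subgroup.orderOf_mk] at ht2
    obtain ⟨htM, hs⟩ := Subgroup.mem_inf.1 ht
    obtain ⟨s, hsM, hst⟩ := Subgroup.mem_map.1 hs
    have hst' : g * s * g⁻¹ = t := hst
    have htt : t * t = 1 := by
      have := pow_orderOf_eq_one t
      rwa [ht2, pow_two] at this
    have htF := h.sq_mem he htM htt
    have e : g⁻¹ * t * g = s := by rw [← hst']; group
    have := h.ti' hg htF (by rw [e]; exact hsM)
    rw [this, orderOf_one] at ht2
    omega

omit h in
theorem mem_map_conj {u x : G} : x ∈ M.map (MulAut.conj u).toMonoidHom ↔ u⁻¹ * x * u ∈ M := by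
  rw [Subgroup.mem_map]
  constructor
  · rintro ⟨y, hy, rfl⟩
    have : u⁻¹ * ((MulAut.conj u).toMonoidHom y) * u = y := by
      show u⁻¹ * (u * y * u⁻¹) * u = y
      group
    rwa [this]
  · intro hx
    refine ⟨_, hx, ?_⟩
    show u * (u⁻¹ * x * u) * u⁻¹ = x
    group

theorem inf_D [Finite G] {u : G} (hu : u ∉ M) : F ⊓ (M ⊓ M.map (MulAut.conj u).toMonoidHom) = ⊥ := by
  rw [eq_bot_iff]
  intro x hx
  obtain ⟨hxF, hxD⟩ := Subgroup.mem_inf.1 hx
  obtain ⟨-, hxu⟩ := Subgroup.mem_inf.1 hxD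
  exact Subgroup.mem_bot.2 (h.ti' hu hxF (mem_map_conj.1 hxu))

theorem card_D_le [Finite G] {u : G} (hu : u ∉ M) :
    Nat.card ↥(M ⊓ M.map (MulAut.conj u).toMonoidHom) ≤ F.relIndex M := by
  set D := M ⊓ M.map (MulAut.conj u).toMonoidHom with hD
  have h1 : F.relIndex D = Nat.card D := by
    rw [← Subgroup.inf_relIndex_right, h.inf_D hu, Subgroup.relIndex_bot_left]
  rw [← h1]
  apply Subgroup.relIndex_le_of_le_right
  · exact inf_le_left
  · exact Subgroup.index_ne_zero_of_finite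

omit h in
theorem relIndex_cent_le [Finite G] {z : G} (hz : orderOf z = 2) (hzM : z ∈ M) :
    (centralizer ({z} : Set G)).relIndex M ≤ Nat.card {t : G // orderOf t = 2 ∧ t ∈ M} := by
  let f : M ⧸ (centralizer ({z} : Set G)).subgroupOf M → {t : G // orderOf t = 2 ∧ t ∈ M} :=
    Quotient.lift (fun m : M => ⟨(m : G) * z * (m : G)⁻¹, by
      refine ⟨?_, mul_mem (mul_mem m.2 hzM) (inv_mem m.2)⟩
      rw [← hz]
      exact orderOf_injective (MulAut.conj (m : G)).toMonoidHom (MulAut.conj (m : G)).injective z⟩) (by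
      intro a b hab
      have h1 : a⁻¹ * b ∈ (centralizer ({z} : Set G)).subgroupOf M := QuotientGroup.leftRel_apply.1 hab
      rw [Subgroup.mem_subgroupOf, Subgroup.mem_centralizer_singleton_iff] at h1
      apply Subtype.ext
      show (a : G) * z * (a : G)⁻¹ = b * z * (b : G)⁻¹
      have h2 : (a : G)⁻¹ * b * z = z * ((a : G)⁻¹ * b) := h1
      calc (a : G) * z * (a : G)⁻¹ = a * (z * ((a : G)⁻¹ * b)) * (b : G)⁻¹ := by group
        _ = a * ((a : G)⁻¹ * b * z) * (b : G)⁻¹ := by rw [h2]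
        _ = b * z * (b : G)⁻¹ := by group)
  have hf : Function.Injective f := by
    intro x y
    induction x using Quotient.inductionOn with
    | _ a =>
    induction y using Quotient.inductionOn with
    | _ b =>
    intro hab
    have h1 : (a : G) * z * (a : G)⁻¹ = b * z * (b : G)⁻¹ := congrArg Subtype.val hab
    apply Quotient.sound
    refine QuotientGroup.leftRel_apply.2 ?_
    rw [Subgroup.mem_subgroupOf, Subgroup.mem_centralizer_singleton_iff]
    show (a : G)⁻¹ * b * z = z * ((a : G)⁻¹ * b)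
    calc (a : G)⁻¹ * b * z = (a : G)⁻¹ * (b * z * (b : G)⁻¹) * b := by group
      _ = (a : G)⁻¹ * (a * z * (a : G)⁻¹) * b := by rw [h1]
      _ = z * ((a : G)⁻¹ * b) := by group
  exact Nat.card_le_card_of_injective f hf

theorem cent_inf_le {z : G} (hz : orderOf z = 2) (hzF : z ∈ F) :
    centralizer ({z} : Set G) ⊓ M ≤ F := by
  intro y hy
  have h1 := Subgroup.mem_centralizer_singleton_iff.1 (Subgroup.mem_inf.1 hy).1
  refine h.cent hzF ?_ h1.symm
  rintro rfl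
  rw [orderOf_one] at hz
  omega

theorem relIndex_le_J [Finite G] (he : Even (Nat.card F)) :
    F.relIndex M ≤ Nat.card {t : G // orderOf t = 2 ∧ t ∈ M} := by
  obtain ⟨⟨z, hzF⟩, hz2⟩ := exists_prime_orderOf_dvd_card' (p := 2) he.two_dvd
  rw [Subgroup.orderOf_mk] at hz2
  refine le_trans ?_ (relIndex_cent_le hz2 (h.le hzF))
  rw [← Subgroup.inf_relIndex_right (centralizer ({z} : Set G))]
  apply Nat.le_of_dvd
  · exact Nat.pos_of_ne_zero Subgroup.index_ne_zero_of_finite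
  · exact Subgroup.relIndex_dvd_of_le_left M (h.cent_inf_le hz2 hzF)

theorem J_le_card_D [Finite G] (he : Even (Nat.card F)) (hM : M ≠ ⊤) {u : G} (hu : orderOf u = 2)
    (huM : u ∉ M) : Nat.card {t : G // orderOf t = 2 ∧ t ∈ M} ≤
      Nat.card ↥(M ⊓ M.map (MulAut.conj u).toMonoidHom) := by
  obtain ⟨⟨z, hzF⟩, hz2⟩ := exists_prime_orderOf_dvd_card' (p := 2) he.two_dvd
  rw [Subgroup.orderOf_mk] at hz2
  have hzM := h.le hzF
  let f : ↥(M ⊓ M.map (MulAut.conj u).toMonoidHom) → {t : G // orderOf t = 2 ∧ t ∈ M} :=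
    fun d => ⟨(d : G) * z * (d : G)⁻¹, by
      have hdM : (d : G) ∈ M := (Subgroup.mem_inf.1 d.2).1
      refine ⟨?_, mul_mem (mul_mem hdM hzM) (inv_mem hdM)⟩
      rw [← hz2]
      exact orderOf_injective (MulAut.conj (d : G)).toMonoidHom (MulAut.conj (d : G)).injective z⟩
  apply Nat.card_le_card_of_surjective f
  rintro ⟨t, ht, htM⟩
  obtain ⟨⟨d, hd, hdt⟩, -⟩ := S1225.result M (h.strong he hM) u hu huM z t hz2 hzM ht htM
  exact ⟨⟨d, hd⟩, Subtype.ext hdt⟩

/-- the three numbers coincide -/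
theorem card_D [Finite G] (he : Even (Nat.card F)) (hM : M ≠ ⊤) {u : G} (hu : orderOf u = 2)
    (huM : u ∉ M) : Nat.card ↥(M ⊓ M.map (MulAut.conj u).toMonoidHom) = F.relIndex M :=
  le_antisymm (h.card_D_le huM) ((h.relIndex_le_J he).trans (h.J_le_card_D he hM hu huM))

/-- an involution outside `M` -/
theorem exists_u [Finite G] (he : Even (Nat.card F)) (hM : M ≠ ⊤) : ∃ u, orderOf u = 2 ∧ u ∉ M := by
  obtain ⟨⟨z, hzF⟩, hz2⟩ := exists_prime_orderOf_dvd_card' (p := 2) he.two_dvd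
  rw [Subgroup.orderOf_mk] at hz2
  obtain ⟨g, hg⟩ : ∃ g, g ∉ M := by
    by_contra hcon
    push Not at hcon
    exact hM ((Subgroup.eq_top_iff' M).2 hcon)
  refine ⟨g⁻¹ * z * g, ?_, ?_⟩
  · have := orderOf_injective (MulAut.conj g⁻¹).toMonoidHom (MulAut.conj g⁻¹).injective z
    rw [hz2] at this
    simpa using this
  · intro hcon
    have := h.ti' hg hzF hcon
    rw [this, orderOf_one] at hz2
    omega

theorem card_J [Finite G] (he : Even (Nat.card F)) (hM : M ≠ ⊤) :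
    Nat.card {t : G // orderOf t = 2 ∧ t ∈ M} = F.relIndex M := by
  obtain ⟨u, hu, huM⟩ := h.exists_u he hM
  exact le_antisymm ((h.J_le_card_D he hM hu huM).trans (h.card_D_le huM)) (h.relIndex_le_J he)

theorem central [Finite G] (he : Even (Nat.card F)) (hM : M ≠ ⊤) {z : G} (hz : orderOf z = 2)
    (hzM : z ∈ M) {x : G} (hx : x ∈ F) : x * z = z * x := by
  have hzF : z ∈ F := h.sq_mem he hzM (by
    have := pow_orderOf_eq_one z
    rwa [hz, pow_two] at this)
  have h1 := relIndex_cent_le hz hzM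
  rw [h.card_J he hM] at h1
  have h2 : centralizer ({z} : Set G) ⊓ M = F := by
    apply Subgroup.eq_of_le_of_card_ge (h.cent_inf_le hz hzF)
    have h3 : (centralizer ({z} : Set G)).relIndex M * Nat.card ↥(centralizer ({z} : Set G) ⊓ M) =
        Nat.card M := by
      rw [← Subgroup.inf_relIndex_right, mul_comm]
      exact card_mul_relIndex inf_le_right
    have h4 : F.relIndex M * Nat.card F = Nat.card M := by
      rw [mul_comm]
      exact card_mul_relIndex h.le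
    have h5 : 0 < (centralizer ({z} : Set G)).relIndex M :=
      Nat.pos_of_ne_zero Subgroup.index_ne_zero_of_finite
    by_contra hlt
    push Not at hlt
    have h6 : (centralizer ({z} : Set G)).relIndex M * Nat.card ↥(centralizer ({z} : Set G) ⊓ M) <
        F.relIndex M * Nat.card F := by
      calc _ < (centralizer ({z} : Set G)).relIndex M * Nat.card F := Nat.mul_lt_mul_of_pos_left hlt h5
        _ ≤ _ := Nat.mul_le_mul_right _ h1
    omega
  rw [← h2] at hx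
  exact Subgroup.mem_centralizer_singleton_iff.1 (Subgroup.mem_inf.1 hx).1


/-- the intersection of `M` with its conjugate under `u` -/
local notation "DD(" M ", " u ")" => M ⊓ Subgroup.map (MulEquiv.toMonoidHom (MulAut.conj u)) M

theorem exists_fac [Finite G] (he : Even (Nat.card F)) (hM : M ≠ ⊤) {u : G} (hu : orderOf u = 2)
    (huM : u ∉ M) {m : G} (hm : m ∈ M) : ∃ f ∈ F, ∃ d ∈ DD(M, u), m = f * d := by
  let φ : F × ↥(DD(M, u)) → M := fun x => ⟨x.1 * x.2, mul_mem (h.le x.1.2) (Subgroup.mem_inf.1 x.2.2).1⟩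
  have hφ : Function.Injective φ := by
    rintro ⟨f, d⟩ ⟨f', d'⟩ hfd
    have h1 : (f : G) * d = f' * d' := congrArg Subtype.val hfd
    have h2 : (f' : G)⁻¹ * f = d' * (d : G)⁻¹ := by
      rw [inv_mul_eq_iff_eq_mul, ← mul_assoc, ← h1, mul_inv_cancel_right]
    have h3 : (f' : G)⁻¹ * f ∈ F ⊓ DD(M, u) := by
      refine Subgroup.mem_inf.2 ⟨mul_mem (inv_mem f'.2) f.2, ?_⟩
      rw [h2]
      exact mul_mem d'.2 (inv_mem d.2)
    rw [h.inf_D huM, Subgroup.mem_bot] at h3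
    have h4 : (f : G) = f' := (inv_mul_eq_one.1 h3).symm
    have h5 : (d : G) = d' := by
      rw [h3] at h2
      exact (mul_inv_eq_one.1 h2.symm).symm
    exact Prod.ext (Subtype.ext h4) (Subtype.ext h5)
  have hcard : Nat.card M ≤ Nat.card (F × ↥(DD(M, u))) := by
    rw [Nat.card_prod, h.card_D he hM hu huM, card_mul_relIndex h.le]
  obtain ⟨⟨f, d⟩, hfd⟩ := (hφ.bijective_of_nat_card_le hcard).2 ⟨m, hm⟩
  exact ⟨f, f.2, d, d.2, (congrArg Subtype.val hfd).symm⟩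

omit h in
theorem smul_one_eq_iff {i u : G} : i • ((1 : G) : G ⧸ M) = u • ((1 : G) : G ⧸ M) ↔ u⁻¹ * i ∈ M := by
  rw [MulAction.Quotient.smul_coe, MulAction.Quotient.smul_coe, smul_eq_mul, smul_eq_mul,
    mul_one, mul_one, eq_comm, QuotientGroup.eq]

omit h in
theorem mul_self_of_two {u : G} (hu : orderOf u = 2) : u * u = 1 := by
  have := pow_orderOf_eq_one u
  rwa [hu, pow_two] at this

omit h in
theorem inv_eq_of_two {u : G} (hu : orderOf u = 2) : u⁻¹ = u :=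
  inv_eq_of_mul_eq_one_left (mul_self_of_two hu)

theorem inv_D [Finite G] (he : Even (Nat.card F)) (hM : M ≠ ⊤) {u : G} (hu : orderOf u = 2)
    (huM : u ∉ M) {d : G} (hd : d ∈ DD(M, u)) : u * d * u⁻¹ = d⁻¹ := by
  have hui := inv_eq_of_two hu
  have hne : ((1 : G) : G ⧸ M) ≠ u • ((1 : G) : G ⧸ M) := by
    intro e
    apply huM
    have e2 : (1 : G) • ((1 : G) : G ⧸ M) = u • ((1 : G) : G ⧸ M) := by rw [one_smul]; exact e
    have := smul_one_eq_iff.1 e2
    rw [mul_one] at this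
    exact inv_mem_iff.1 this
  have hcard := S1224.result M (h.strong he hM) _ _ hne
  rw [h.card_J he hM, ← h.card_D he hM hu huM] at hcard
  let φ : {i : G // orderOf i = 2 ∧ i • ((1 : G) : G ⧸ M) = u • ((1 : G) : G ⧸ M)} → ↥(DD(M, u)) :=
    fun i => ⟨u⁻¹ * i, by
      have h1 := smul_one_eq_iff.1 i.2.2
      have hi := inv_eq_of_two i.2.1
      refine Subgroup.mem_inf.2 ⟨h1, mem_map_conj.2 ?_⟩
      have e : u⁻¹ * (u⁻¹ * (i : G)) * u = (u⁻¹ * (i : G))⁻¹ := by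
        rw [mul_inv_rev, inv_inv, hi, ← mul_assoc]
        have : u⁻¹ * u⁻¹ = 1 := by rw [hui, mul_self_of_two hu]
        rw [this, one_mul]
      rw [e]
      exact inv_mem h1⟩
  have hφ : Function.Injective φ := by
    intro i j hij
    exact Subtype.ext (mul_left_cancel (congrArg Subtype.val hij))
  obtain ⟨i, hi⟩ := (hφ.bijective_of_nat_card_le hcard.ge).2 ⟨d, hd⟩
  have h1 : u⁻¹ * (i : G) = d := congrArg Subtype.val hi
  have hii := inv_eq_of_two i.2.1
  rw [← h1, mul_inv_rev, inv_inv, hii, hui, ← mul_assoc, mul_self_of_two hu, one_mul]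

theorem inv_D' [Finite G] (he : Even (Nat.card F)) (hM : M ≠ ⊤) {u : G} (hu : orderOf u = 2)
    (huM : u ∉ M) {d : G} (hd : d ∈ DD(M, u)) : u⁻¹ * d * u = d⁻¹ := by
  have := h.inv_D he hM hu huM hd
  rw [inv_eq_of_two hu] at this ⊢
  exact this

theorem comm_D [Finite G] (he : Even (Nat.card F)) (hM : M ≠ ⊤) {u : G} (hu : orderOf u = 2)
    (huM : u ∉ M) {d d' : G} (hd : d ∈ DD(M, u)) (hd' : d' ∈ DD(M, u)) : d * d' = d' * d := by
  have h1 := h.inv_D he hM hu huM hd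
  have h2 := h.inv_D he hM hu huM hd'
  have h3 := h.inv_D he hM hu huM (mul_mem hd hd')
  have h4 : u * (d * d') * u⁻¹ = (u * d * u⁻¹) * (u * d' * u⁻¹) := by group
  rw [h1, h2, h3, mul_inv_rev] at h4
  have h5 := congrArg (fun x => x⁻¹) h4
  simp only [mul_inv_rev, inv_inv] at h5
  exact h5

theorem card_D_odd [Finite G] (he : Even (Nat.card F)) (hM : M ≠ ⊤) {u : G} (huM : u ∉ M) :
    Odd (Nat.card ↥(DD(M, u))) :=
  (h.strong he hM).2.2 u huM

theorem eq_one_of_sq [Finite G] (he : Even (Nat.card F)) (hM : M ≠ ⊤) {u : G}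
    (huM : u ∉ M) {d : G} (hd : d ∈ DD(M, u)) (hdd : d * d = 1) : d = 1 := by
  have h1 := h.card_D_odd he hM huM
  have h2 : orderOf d ∣ 2 := orderOf_dvd_of_pow_eq_one (by rw [pow_two, hdd])
  have h3 : orderOf d ∣ Nat.card ↥(DD(M, u)) := by
    have := orderOf_dvd_natCard (⟨d, hd⟩ : ↥(DD(M, u)))
    rwa [Subgroup.orderOf_mk] at this
  rcases (Nat.dvd_prime Nat.prime_two).1 h2 with h4 | h4
  · exact orderOf_eq_one_iff.1 h4
  · rw [h4] at h3
    exact absurd (even_iff_two_dvd.2 h3) (Nat.not_even_iff_odd.2 h1)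

theorem not_mem_F [Finite G] {u : G} (huM : u ∉ M) {d : G} (hd : d ∈ DD(M, u)) (hd1 : d ≠ 1) : d ∉ F := by
  intro hdF
  have : d ∈ F ⊓ DD(M, u) := Subgroup.mem_inf.2 ⟨hdF, hd⟩
  rw [h.inf_D huM, Subgroup.mem_bot] at this
  exact hd1 this

theorem cent_D [Finite G] (he : Even (Nat.card F)) (hM : M ≠ ⊤) {u : G} (hu : orderOf u = 2)
    (huM : u ∉ M) {d c : G} (hd : d ∈ DD(M, u)) (hd1 : d ≠ 1) (hc : c ∈ M) (hcd : c * d = d * c) :
    c ∈ DD(M, u) := by
  obtain ⟨f, hf, d', hd', rfl⟩ := h.exists_fac he hM hu huM hc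
  have h1 := h.comm_D he hM hu huM hd hd'
  have h2 : f * d = d * f := by
    have h3 : f * d * d' = d * f * d' := by
      rw [mul_assoc f, h1, ← mul_assoc, hcd, mul_assoc]
    exact mul_right_cancel h3
  have h4 := h.fpf d (Subgroup.mem_inf.1 hd).1 (h.not_mem_F huM hd hd1) f hf h2
  rw [h4, one_mul]
  exact hd'

theorem norm_D [Finite G] (he : Even (Nat.card F)) (hM : M ≠ ⊤) {u : G} (hu : orderOf u = 2)
    (huM : u ∉ M) {d m : G} (hd : d ∈ DD(M, u)) (hd1 : d ≠ 1) (hm : m ∈ M) (hmd : m * d * m⁻¹ ∈ DD(M, u)) :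
    m ∈ DD(M, u) := by
  obtain ⟨f, hf, d', hd', rfl⟩ := h.exists_fac he hM hu huM hm
  have h1 := h.comm_D he hM hu huM hd hd'
  have h2 : f * d' * d * (f * d')⁻¹ = f * d * f⁻¹ := by
    rw [mul_assoc f, ← h1]
    group
  rw [h2] at hmd
  have hdM := (Subgroup.mem_inf.1 hd).1
  have h3 : f * d * f⁻¹ * d⁻¹ ∈ F ⊓ DD(M, u) := by
    refine Subgroup.mem_inf.2 ⟨?_, mul_mem hmd (inv_mem hd)⟩
    have e : f * d * f⁻¹ * d⁻¹ = f * (d * f⁻¹ * d⁻¹) := by group
    rw [e]
    exact mul_mem hf (h.conj d hdM _ (inv_mem hf))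
  rw [h.inf_D huM, Subgroup.mem_bot] at h3
  have h4 : f * d = d * f := by
    rw [mul_inv_eq_one] at h3
    exact mul_inv_eq_iff_eq_mul.1 h3
  have h5 := h.fpf d hdM (h.not_mem_F huM hd hd1) f hf h4
  rw [h5, one_mul]
  exact hd'

/-- every coset other than `M` contains an involution -/
theorem exists_inv [Finite G] (he : Even (Nat.card F)) (hM : M ≠ ⊤) {g : G} (hg : g ∉ M) :
    ∃ u, orderOf u = 2 ∧ u ∉ M ∧ g⁻¹ * u ∈ M := by
  have hne : ((1 : G) : G ⧸ M) ≠ g • ((1 : G) : G ⧸ M) := by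
    intro e
    apply hg
    have e2 : (1 : G) • ((1 : G) : G ⧸ M) = g • ((1 : G) : G ⧸ M) := by rw [one_smul]; exact e
    have := smul_one_eq_iff.1 e2
    rw [mul_one] at this
    exact inv_mem_iff.1 this
  have hcard := S1224.result M (h.strong he hM) _ _ hne
  rw [h.card_J he hM] at hcard
  have h0 : F.relIndex M ≠ 0 := Subgroup.index_ne_zero_of_finite
  rw [← hcard] at h0
  have : Nonempty {i : G // orderOf i = 2 ∧ i • ((1 : G) : G ⧸ M) = g • ((1 : G) : G ⧸ M)} := by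
    by_contra hcon
    rw [not_nonempty_iff] at hcon
    exact h0 Nat.card_of_isEmpty
  obtain ⟨⟨i, hi, hi2⟩⟩ := this
  have h1 := smul_one_eq_iff.1 hi2
  refine ⟨i, hi, ?_, h1⟩
  intro hiM
  apply hg
  have := mul_mem h1 (inv_mem hiM)
  rw [mul_inv_cancel_right] at this
  exact inv_mem_iff.1 this

theorem same_D [Finite G] (he : Even (Nat.card F)) (hM : M ≠ ⊤) {u v : G} (hu : orderOf u = 2)
    (huM : u ∉ M) (hv : orderOf v = 2) (hvM : v ∉ M) (huv : DD(M, u) = DD(M, v)) (hne : DD(M, u) ≠ ⊥) :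
    u⁻¹ * v ∈ M := by
  obtain ⟨⟨d, hd⟩, hd1'⟩ := Subgroup.ne_bot_iff_exists_ne_one.1 hne
  have hd1 : d ≠ 1 := fun e => hd1' (Subtype.ext e)
  obtain ⟨c, hc⟩ : ∃ c, c = v * u⁻¹ := ⟨_, rfl⟩
  have hcomm : ∀ x ∈ DD(M, u), c * x = x * c := by
    intro x hx
    have h1 := h.inv_D' he hM hu huM hx
    have h2 := h.inv_D he hM hv hvM (by rw [← huv]; exact hx)
    have h3 : c * x * c⁻¹ = x := by
      rw [hc]
      have e : v * u⁻¹ * x * (v * u⁻¹)⁻¹ = v * (u⁻¹ * x * u) * v⁻¹ := by group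
      rw [e, h1]
      have e2 : v * x⁻¹ * v⁻¹ = (v * x * v⁻¹)⁻¹ := by group
      rw [e2, h2, inv_inv]
    exact mul_inv_eq_iff_eq_mul.1 h3
  by_cases hcM : c ∈ M
  · have h1 := h.cent_D he hM hu huM hd hd1 hcM (hcomm d hd)
    have h2 := mem_map_conj.1 (Subgroup.mem_inf.1 h1).2
    rw [hc] at h2
    have e : u⁻¹ * (v * u⁻¹) * u = u⁻¹ * v := by group
    rwa [e] at h2
  · exfalso
    obtain ⟨w, hw, hwM, hcw⟩ := h.exists_inv he hM hcM
    have hle : DD(M, u) ≤ DD(M, w) := by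
      intro x hx
      have hxM := (Subgroup.mem_inf.1 hx).1
      refine Subgroup.mem_inf.2 ⟨hxM, mem_map_conj.2 ?_⟩
      have e : w⁻¹ * x * w = (c⁻¹ * w)⁻¹ * (c⁻¹ * x * c) * (c⁻¹ * w) := by group
      have e2 : c⁻¹ * x * c = x := by rw [mul_assoc, ← hcomm x hx, inv_mul_cancel_left]
      rw [e, e2]
      exact mul_mem (mul_mem (inv_mem hcw) hxM) hcw
    have hm : (c⁻¹ * w)⁻¹ ∈ M := inv_mem hcw
    have hinv := h.inv_D' he hM hw hwM (hle hd)
    have h1 : (c⁻¹ * w)⁻¹ * d * ((c⁻¹ * w)⁻¹)⁻¹ = d⁻¹ := by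
      have e : (c⁻¹ * w)⁻¹ * d * ((c⁻¹ * w)⁻¹)⁻¹ = w⁻¹ * (c * d * c⁻¹) * w := by group
      have e2 : c * d * c⁻¹ = d := mul_inv_eq_iff_eq_mul.2 (hcomm d hd)
      rw [e, e2, hinv]
    have h2 := h.norm_D he hM hu huM hd hd1 hm (by rw [h1]; exact inv_mem hd)
    have h3 := h.comm_D he hM hu huM h2 hd
    have h4 : d = d⁻¹ := by
      rw [← h1, h3, mul_inv_cancel_right]
    apply hd1
    apply h.eq_one_of_sq he hM huM hd
    nth_rewrite 1 [h4]
    exact inv_mul_cancel d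

/-- the three point property -/
theorem three_point [Finite G] (he : Even (Nat.card F)) (hM : M ≠ ⊤) {a b g : G}
    (ha : a ∉ M) (hb : b ∉ M) (hab : a⁻¹ * b ∉ M) (hg : g ∈ M) (hga : a⁻¹ * g * a ∈ M)
    (hgb : b⁻¹ * g * b ∈ M) : g = 1 := by
  by_contra hg1
  obtain ⟨u, hu, huM, hau⟩ := h.exists_inv he hM ha
  obtain ⟨v, hv, hvM, hbv⟩ := h.exists_inv he hM hb
  have hgu : g ∈ DD(M, u) := by
    refine Subgroup.mem_inf.2 ⟨hg, mem_map_conj.2 ?_⟩
    have e : u⁻¹ * g * u = (a⁻¹ * u)⁻¹ * (a⁻¹ * g * a) * (a⁻¹ * u) := by group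
    rw [e]
    exact mul_mem (mul_mem (inv_mem hau) hga) hau
  have hgv : g ∈ DD(M, v) := by
    refine Subgroup.mem_inf.2 ⟨hg, mem_map_conj.2 ?_⟩
    have e : v⁻¹ * g * v = (b⁻¹ * v)⁻¹ * (b⁻¹ * g * b) * (b⁻¹ * v) := by group
    rw [e]
    exact mul_mem (mul_mem (inv_mem hbv) hgb) hbv
  have hle : DD(M, u) ≤ DD(M, v) := by
    intro x hx
    exact h.cent_D he hM hv hvM hgv hg1 (Subgroup.mem_inf.1 hx).1 (h.comm_D he hM hu huM hx hgu)
  have heq : DD(M, u) = DD(M, v) :=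
    Subgroup.eq_of_le_of_card_ge hle (by rw [h.card_D he hM hu huM, h.card_D he hM hv hvM])
  have hne : DD(M, u) ≠ ⊥ := by
    intro e
    rw [e, Subgroup.mem_bot] at hgu
    exact hg1 hgu
  have h1 := h.same_D he hM hu huM hv hvM heq hne
  apply hab
  have e : a⁻¹ * b = (a⁻¹ * u) * (u⁻¹ * v) * (b⁻¹ * v)⁻¹ := by group
  rw [e]
  exact mul_mem (mul_mem hau h1) (inv_mem hbv)

theorem D_ne_bot [Finite G] (he : Even (Nat.card F)) (hM : M ≠ ⊤) (hFM : F ≠ M) {u : G} (hu : orderOf u = 2)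
    (huM : u ∉ M) : DD(M, u) ≠ ⊥ := by
  intro e
  have h1 := h.card_D he hM hu huM
  rw [e, Subgroup.card_bot] at h1
  apply hFM
  apply le_antisymm h.le
  exact Subgroup.relIndex_eq_one.1 h1.symm

theorem coprime [Finite G] {u : G} (huM : u ∉ M) :
    (Nat.card F).Coprime (Nat.card ↥(DD(M, u))) := by
  apply Nat.Coprime.symm
  apply Nat.coprime_of_dvd
  intro p hp hpD hpF
  have hpf := Fact.mk hp
  obtain ⟨⟨d, hd⟩, hd2⟩ := exists_prime_orderOf_dvd_card' (p := p) hpD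
  rw [Subgroup.orderOf_mk] at hd2
  have h1 := h.p_mem (n := 1) hp hpF (Subgroup.mem_inf.1 hd).1 (by
    rw [pow_one, ← hd2, pow_orderOf_eq_one])
  have h2 : d ∈ F ⊓ DD(M, u) := Subgroup.mem_inf.2 ⟨h1, hd⟩
  rw [h.inf_D huM, Subgroup.mem_bot] at h2
  rw [h2, orderOf_one] at hd2
  exact hp.one_lt.ne hd2

/-- `F` is transitive on the other cosets -/
theorem trans_F [Finite G] (he : Even (Nat.card F)) (hM : M ≠ ⊤) (hFM : F ≠ M) {a b : G}
    (ha : a ∉ M) (hb : b ∉ M) : ∃ f ∈ F, (f * a)⁻¹ * b ∈ M := by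
  obtain ⟨u, hu, huM, hau⟩ := h.exists_inv he hM ha
  obtain ⟨v, hv, hvM, hbv⟩ := h.exists_inv he hM hb
  have hcomm : ∀ x y : ↥(DD(M, u)), x * y = y * x := fun x y =>
    Subtype.ext (h.comm_D he hM hu huM x.2 y.2)
  have hsol : Group.IsSolvable ↥(DD(M, u)) := Group.isSolvable_of_comm hcomm
  have hle : DD(M, v) ≤ F ⊔ DD(M, u) := by
    intro x hx
    obtain ⟨f, hf, d, hd, rfl⟩ := h.exists_fac he hM hu huM (Subgroup.mem_inf.1 hx).1
    exact mul_mem (Subgroup.mem_sup_left hf) (Subgroup.mem_sup_right hd)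
  obtain ⟨f, hf, hfD⟩ := Cop.sz_rel (N := F) (A := DD(M, u)) (B := DD(M, v))
    (inf_le_left.trans h.le_normalizer) hle (by rw [h.card_D he hM hu huM, h.card_D he hM hv hvM])
    (h.coprime huM) (Or.inr hsol)
  have hfM := h.le hf
  refine ⟨f, hf, ?_⟩
  -- the involution f u f⁻¹
  have hw : orderOf (f * u * f⁻¹) = 2 := by
    rw [← hu]
    exact orderOf_injective (MulAut.conj f).toMonoidHom (MulAut.conj f).injective u
  have hwM : f * u * f⁻¹ ∉ M := by
    intro hcon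
    apply huM
    have := mul_mem (mul_mem (inv_mem hfM) hcon) hfM
    have e : f⁻¹ * (f * u * f⁻¹) * f = u := by group
    rwa [e] at this
  have hD : DD(M, (f * u * f⁻¹)) = DD(M, v) := by
    rw [← hfD]
    ext x
    rw [Subgroup.mem_pointwise_smul_iff_inv_smul_mem]
    have e1 : (MulAut.conj f)⁻¹ • x = f⁻¹ * x * f := by
      rw [← map_inv]
      show f⁻¹ * x * f⁻¹⁻¹ = _
      rw [inv_inv]
    rw [e1, Subgroup.mem_inf, Subgroup.mem_inf, mem_map_conj, mem_map_conj]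
    have e2 : (f * u * f⁻¹)⁻¹ * x * (f * u * f⁻¹) = f * (u⁻¹ * (f⁻¹ * x * f) * u) * f⁻¹ := by group
    rw [e2]
    constructor
    · rintro ⟨h1, h2⟩
      refine ⟨mul_mem (mul_mem (inv_mem hfM) h1) hfM, ?_⟩
      have := mul_mem (mul_mem (inv_mem hfM) h2) hfM
      have e : f⁻¹ * (f * (u⁻¹ * (f⁻¹ * x * f) * u) * f⁻¹) * f = u⁻¹ * (f⁻¹ * x * f) * u := by group
      rwa [e] at this
    · rintro ⟨h1, h2⟩
      refine ⟨?_, mul_mem (mul_mem hfM h2) (inv_mem hfM)⟩
      have := mul_mem (mul_mem hfM h1) (inv_mem hfM)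
      have e : f * (f⁻¹ * x * f) * f⁻¹ = x := by group
      rwa [e] at this
  have h1 := h.same_D he hM hw hwM hv hvM hD (h.D_ne_bot he hM hFM hw hwM)
  have e : (f * a)⁻¹ * b = (a⁻¹ * u) * (f⁻¹ * ((f * u * f⁻¹)⁻¹ * v)) * (b⁻¹ * v)⁻¹ * 1 := by group
  have e' : (f * a)⁻¹ * b = (a⁻¹ * u) * f⁻¹ * ((f * u * f⁻¹)⁻¹ * v) * (b⁻¹ * v)⁻¹ := by group
  rw [e']
  exact mul_mem (mul_mem (mul_mem hau (inv_mem hfM)) h1) (inv_mem hbv)

end Sys

end Cfsg.Agent.H71.FrobSys
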