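import Mathlib
import Cfsg.Agent.H71.FrobSys
import Cfsg.Agent.Frob.Kernel
import Cfsg.Agent.FT.Base
import Cfsg.Agent.RK.Tri
import Cfsg.Agent.H37.RankOnePSL
import Cfsg.Agent.SuzId.Branch
import Cfsg.Agent.S1147
import Cfsg.Agent.S0338
import Cfsg.Prelude.Def_LieExceptional
import Cfsg.Prelude.Def_LieRecognition

/-!
Frobenius systems with `|F|` even: `G` is a Zassenhaus group, hence `SL₂(2ⁿ)` or a Suzuki group.
-/

set_option autoImplicit false

namespace Cfsg.Agent.H71.FrobSys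

open Subgroup
open scoped Pointwise

variable {G : Type*} [Group G] [Finite G]

namespace Sys

variable {M F : Subgroup G} (h : Sys M F)
include h

local notation "DD(" M ", " u ")" => M ⊓ Subgroup.map (MulEquiv.toMonoidHom (MulAut.conj u)) M

theorem F_ne (hns : ¬ Group.IsSolvable G) (he : Even (Nat.card F)) (hM : M ≠ ⊤)
    (hsM : Group.IsSolvable M) : F ≠ M := by
  rintro rfl
  have hF1 : F ≠ ⊥ := by
    rintro rfl
    rw [Subgroup.card_bot] at he
    exact absurd he (by decide)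
  have hH : Cfsg.IsFrobeniusComplement F := by
    refine ⟨hF1, hM, fun g hg => ?_⟩
    rw [eq_bot_iff]
    intro x hx
    obtain ⟨h1, h2⟩ := Subgroup.mem_inf.1 hx
    rw [Subgroup.mem_pointwise_smul_iff_inv_smul_mem] at h2
    have e1 : (MulAut.conj g)⁻¹ • x = g⁻¹ * x * g := by
      rw [← map_inv]
      show g⁻¹ * x * g⁻¹⁻¹ = _
      rw [inv_inv]
    rw [e1] at h2
    exact Subgroup.mem_bot.2 (h.ti g hg x h1 h2)
  obtain ⟨N, -, hN, hc⟩ := Frob.exists_normal_complement hH
  have h1 := Frob.coprime_card_index hH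
  have h2 : F.index = Nat.card N := by
    rw [← hc.index_eq_card]
  have h3 : Odd (Nat.card N) := by
    rw [← Nat.not_even_iff_odd]
    intro h4
    rw [h2] at h1
    have := Nat.dvd_gcd he.two_dvd h4.two_dvd
    rw [h1] at this
    omega
  have hsN := FT.solvable_of_odd h3
  apply hns
  have e : F ≃* G ⧸ N := hc.symm.QuotientMulEquiv.symm
  have hsQ : Group.IsSolvable (G ⧸ N) := Group.isSolvable_of_surjective (f := e.toMonoidHom) e.surjective
  exact Group.isSolvable_of_ker_le_range N.subtype (QuotientGroup.mk' N) (by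
    rw [QuotientGroup.ker_mk', Subgroup.range_subtype])

theorem two_trans (he : Even (Nat.card F)) (hM : M ≠ ⊤) (hFM : F ≠ M) :
    MulAction.IsMultiplyPretransitive G (G ⧸ M) 2 := by
  rw [MulAction.is_two_pretransitive_iff]
  intro a b c d hab hcd
  induction a using QuotientGroup.induction_on with | _ a =>
  induction b using QuotientGroup.induction_on with | _ b =>
  induction c using QuotientGroup.induction_on with | _ c =>
  induction d using QuotientGroup.induction_on with | _ d =>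
  have h1 : a⁻¹ * b ∉ M := fun h' => hab (QuotientGroup.eq.2 h')
  have h2 : c⁻¹ * d ∉ M := fun h' => hcd (QuotientGroup.eq.2 h')
  obtain ⟨f, hf, hfm⟩ := h.trans_F he hM hFM h1 h2
  refine ⟨c * f * a⁻¹, ?_, ?_⟩
  · rw [MulAction.Quotient.smul_coe, smul_eq_mul, inv_mul_cancel_right, QuotientGroup.eq]
    have e : (c * f)⁻¹ * c = f⁻¹ := by group
    rw [e]
    exact inv_mem (h.le hf)
  · rw [MulAction.Quotient.smul_coe, smul_eq_mul, QuotientGroup.eq]
    have e : (c * f * a⁻¹ * b)⁻¹ * d = (f * (a⁻¹ * b))⁻¹ * (c⁻¹ * d) := by group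
    rw [e]
    exact hfm

omit [Finite G] h in
theorem smul_eq_iff {g a : G} : g • (a : G ⧸ M) = (a : G ⧸ M) ↔ a⁻¹ * g * a ∈ M := by
  rw [MulAction.Quotient.smul_coe, smul_eq_mul, eq_comm, QuotientGroup.eq, mul_assoc]

theorem three (he : Even (Nat.card F)) (hM : M ≠ ⊤) (g : G) (a b c : G ⧸ M) (hab : a ≠ b)
    (hbc : b ≠ c) (hac : a ≠ c) (ha : g • a = a) (hb : g • b = b) (hc : g • c = c) : g = 1 := by
  induction a using QuotientGroup.induction_on with | _ a =>
  induction b using QuotientGroup.induction_on with | _ b =>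
  induction c using QuotientGroup.induction_on with | _ c =>
  rw [smul_eq_iff] at ha hb hc
  have h1 : a⁻¹ * g * a = 1 := by
    apply h.three_point he hM (a := a⁻¹ * b) (b := a⁻¹ * c)
    · exact fun h' => hab (QuotientGroup.eq.2 h')
    · exact fun h' => hac (QuotientGroup.eq.2 h')
    · intro h'
      apply hbc
      rw [QuotientGroup.eq]
      have e : (a⁻¹ * b)⁻¹ * (a⁻¹ * c) = b⁻¹ * c := by group
      rwa [e] at h'
    · exact ha
    · have e : (a⁻¹ * b)⁻¹ * (a⁻¹ * g * a) * (a⁻¹ * b) = b⁻¹ * g * b := by group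
      rw [e]; exact hb
    · have e : (a⁻¹ * c)⁻¹ * (a⁻¹ * g * a) * (a⁻¹ * c) = c⁻¹ * g * c := by group
      rw [e]; exact hc
  have h2 : g = a * (a⁻¹ * g * a) * a⁻¹ := by group
  rw [h2, h1]; group

omit [Finite G] in
omit h in
theorem exists_not_mem (hM : M ≠ ⊤) : ∃ g, g ∉ M := by
  by_contra hcon
  push Not at hcon
  exact hM ((Subgroup.eq_top_iff' M).2 hcon)

theorem F_ne_bot (he : Even (Nat.card F)) : ∃ f ∈ F, f ≠ 1 := by
  obtain ⟨⟨z, hzF⟩, hz2⟩ := exists_prime_orderOf_dvd_card' (p := 2) he.two_dvd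
  rw [Subgroup.orderOf_mk] at hz2
  refine ⟨z, hzF, ?_⟩
  rintro rfl
  rw [orderOf_one] at hz2
  omega

theorem faithful (he : Even (Nat.card F)) (hM : M ≠ ⊤) : FaithfulSMul G (G ⧸ M) := by
  refine ⟨fun {g₁ g₂} hg => ?_⟩
  obtain ⟨a, ha⟩ := exists_not_mem hM
  obtain ⟨f, hf, hf1⟩ := h.F_ne_bot he
  have hfix : ∀ x : G ⧸ M, (g₂⁻¹ * g₁) • x = x := by
    intro x
    rw [mul_smul, hg x, inv_smul_smul]
  have h1 : g₂⁻¹ * g₁ = 1 := by
    apply h.three he hM _ (1 : G) (a : G) (f * a : G) ?_ ?_ ?_ (hfix _) (hfix _) (hfix _)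
    · intro e
      rw [QuotientGroup.eq, inv_one, one_mul] at e
      exact ha e
    · intro e
      rw [QuotientGroup.eq] at e
      apply hf1
      apply h.ti' ha hf
      rwa [← mul_assoc] at e
    · intro e
      rw [QuotientGroup.eq, inv_one, one_mul] at e
      apply ha
      have := mul_mem (inv_mem (h.le hf)) e
      rwa [inv_mul_cancel_left] at this
  exact (inv_mul_eq_one.1 h1).symm

theorem stab_one : MulAction.stabilizer G ((1 : G) : G ⧸ M) = M := MulAction.stabilizer_quotient M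

theorem stab_u (u : G) : MulAction.stabilizer G (u • ((1 : G) : G ⧸ M)) =
    M.map (MulEquiv.toMonoidHom (MulAut.conj u)) := by
  rw [MulAction.stabilizer_smul_eq_stabilizer_map_conj, h.stab_one]

theorem zassenhaus (hns : ¬ Group.IsSolvable G) (he : Even (Nat.card F)) (hM : M ≠ ⊤)
    (hsM : Group.IsSolvable M) : Cfsg.IsZassenhausGroup G (G ⧸ M) := by
  have hFM := h.F_ne hns he hM hsM
  obtain ⟨u, hu, huM⟩ := h.exists_u he hM
  have hne : ((1 : G) : G ⧸ M) ≠ (u : G ⧸ M) := by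
    intro e
    rw [QuotientGroup.eq, inv_one, one_mul] at e
    exact huM e
  refine ⟨h.faithful he hM, h.two_trans he hM hFM, fun g a b c hab hbc hac ha hb hc =>
    h.three he hM g a b c hab hbc hac ha hb hc, ?_, ?_⟩
  · obtain ⟨⟨d, hd⟩, hd1'⟩ := Subgroup.ne_bot_iff_exists_ne_one.1 (h.D_ne_bot he hM hFM hu huM)
    have hd1 : d ≠ 1 := fun e => hd1' (Subtype.ext e)
    obtain ⟨h1, h2⟩ := Subgroup.mem_inf.1 hd
    refine ⟨d, hd1, ((1 : G) : G ⧸ M), (u : G ⧸ M), hne, ?_, ?_⟩
    · rw [smul_eq_iff, inv_one, one_mul, mul_one]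
      exact h1
    · rw [smul_eq_iff]
      exact mem_map_conj.1 h2
  · intro N hN htr
    by_contra hcon
    push Not at hcon
    have h1 : N ⊓ M = ⊥ := by
      rw [eq_bot_iff]
      intro x hx
      obtain ⟨hxN, hxM⟩ := Subgroup.mem_inf.1 hx
      have h2 : (⟨x, hxN⟩ : N) ∈ (⊥ : Subgroup N) := by
        rw [← hcon ((1 : G) : G ⧸ M)]
        show x • ((1 : G) : G ⧸ M) = _
        rw [smul_eq_iff, inv_one, one_mul, mul_one]
        exact hxM
      rw [Subgroup.mem_bot] at h2
      exact Subgroup.mem_bot.2 (congrArg Subtype.val h2)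
    have hodd : Odd (Nat.card N) := by
      rw [← Nat.not_even_iff_odd]
      intro hev
      obtain ⟨⟨t, htN⟩, ht2⟩ := exists_prime_orderOf_dvd_card' (p := 2) hev.two_dvd
      rw [Subgroup.orderOf_mk] at ht2
      obtain ⟨⟨z, hzF⟩, hz2⟩ := exists_prime_orderOf_dvd_card' (p := 2) he.two_dvd
      rw [Subgroup.orderOf_mk] at hz2
      obtain ⟨-, hall⟩ := S1225.result M (h.strong he hM) u hu huM z z hz2 (h.le hzF) hz2 (h.le hzF)
      obtain ⟨c, hc⟩ := isConj_iff.1 (hall t z ht2 hz2)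
      have h3 : z ∈ N := by
        rw [← hc]; exact hN.conj_mem t htN c
      have h4 : z ∈ N ⊓ M := Subgroup.mem_inf.2 ⟨h3, h.le hzF⟩
      rw [h1, Subgroup.mem_bot] at h4
      rw [h4, orderOf_one] at hz2
      omega
    have hsN := FT.solvable_of_odd hodd
    apply hns
    -- G = N M
    have hsurj : Function.Surjective ((QuotientGroup.mk' N).comp M.subtype) := by
      intro q
      obtain ⟨g, rfl⟩ := QuotientGroup.mk'_surjective N q
      obtain ⟨⟨n, hn⟩, hn2⟩ := htr.exists_smul_eq (g : G ⧸ M) ((1 : G) : G ⧸ M)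
      have h5 : n • (g : G ⧸ M) = ((1 : G) : G ⧸ M) := hn2
      rw [MulAction.Quotient.smul_coe, smul_eq_mul, QuotientGroup.eq, mul_one] at h5
      refine ⟨⟨n * g, inv_mem_iff.1 h5⟩, ?_⟩
      show (QuotientGroup.mk' N) (n * g) = (QuotientGroup.mk' N) g
      rw [map_mul]
      have : (QuotientGroup.mk' N) n = 1 := (QuotientGroup.eq_one_iff n).2 hn
      rw [this, one_mul]
    have hsQ : Group.IsSolvable (G ⧸ N) := Group.isSolvable_of_surjective hsurj
    exact Group.isSolvable_of_ker_le_range N.subtype (QuotientGroup.mk' N) (by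
      rw [QuotientGroup.ker_mk', Subgroup.range_subtype])

theorem rankOne (hns : ¬ Group.IsSolvable G) (he : Even (Nat.card F)) (hM : M ≠ ⊤)
    (hsM : Group.IsSolvable M) {u : G} (hu : orderOf u = 2) (huM : u ∉ M) :
    Cfsg.IsRankOneSetup G (G ⧸ M) ((1 : G) : G ⧸ M) u F where
  two_transitive := h.two_trans he hM (h.F_ne hns he hM hsM)
  mul_self := mul_self_of_two hu
  ne_one := by
    rintro rfl
    rw [orderOf_one] at hu
    omega
  not_mem := by rw [h.stab_one]; exact huM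
  le := by rw [h.stab_one]; exact h.le
  conj_mem := by rw [h.stab_one]; exact h.conj
  inf_eq_bot := by
    rw [h.stab_u]
    rw [eq_bot_iff]
    intro x hx
    obtain ⟨h1, h2⟩ := Subgroup.mem_inf.1 hx
    exact Subgroup.mem_bot.2 (h.ti' huM h1 (mem_map_conj.1 h2))
  sup_eq := by
    rw [h.stab_u, h.stab_one]
    apply le_antisymm
    · exact sup_le h.le inf_le_left
    · intro m hm
      obtain ⟨f, hf, d, hd, rfl⟩ := h.exists_fac he hM hu huM hm
      exact mul_mem (Subgroup.mem_sup_left hf) (Subgroup.mem_sup_right hd)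
  even_card := he
  odd_card := by
    rw [h.stab_u, h.stab_one]
    exact h.card_D_odd he hM huM

theorem odd_card_quot (he : Even (Nat.card F)) (hM : M ≠ ⊤) : Odd (Nat.card (G ⧸ M)) := by
  obtain ⟨⟨z, hzF⟩, hz2⟩ := exists_prime_orderOf_dvd_card' (p := 2) he.two_dvd
  rw [Subgroup.orderOf_mk] at hz2
  have hSE := h.strong he hM
  have h1 := (S0224.result M hM hSE.2.1).1 hSE z (h.le hzF) hz2
  by_contra hev
  rw [Nat.not_odd_iff_even] at hev
  have hP : IsPGroup 2 (zpowers z) := by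
    rw [IsPGroup.iff_card, Nat.card_zpowers, hz2]
    exact ⟨1, rfl⟩
  have hfix : ((1 : G) : G ⧸ M) ∈ MulAction.fixedPoints (zpowers z) (G ⧸ M) := by
    rintro ⟨x, hx⟩
    show x • ((1 : G) : G ⧸ M) = _
    rw [smul_eq_iff, inv_one, one_mul, mul_one]
    exact (zpowers_le.2 (h.le hzF)) hx
  obtain ⟨b, hb, hb1⟩ := hP.exists_fixed_point_of_prime_dvd_card_of_fixed_point (G ⧸ M) hev.two_dvd hfix
  have h2 : z • b = b := hb ⟨z, mem_zpowers z⟩
  have h3 : z • ((1 : G) : G ⧸ M) = ((1 : G) : G ⧸ M) := hfix ⟨z, mem_zpowers z⟩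
  have h4 : Subsingleton {c : G ⧸ M // z • c = c} := (Nat.card_eq_one_iff_unique.1 h1).1
  have h5 := h4.elim ⟨_, h2⟩ ⟨_, h3⟩
  exact hb1 (congrArg Subtype.val h5).symm

theorem simple (hns : ¬ Group.IsSolvable G) (he : Even (Nat.card F)) (hM : M ≠ ⊤)
    (hsM : Group.IsSolvable M) : IsSimpleGroup G := by
  have : Fintype (G ⧸ M) := Fintype.ofFinite _
  exact S0338.result (h.zassenhaus hns he hM hsM) (by
    rw [← Nat.card_eq_fintype_card]; exact h.odd_card_quot he hM)

end Sys

end Cfsg.Agent.H71.FrobSys
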