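import Mathlib
import Cfsg.Agent.H71.FrobSys2

/-!
Frobenius systems with `|F|` even: `G` is `SL₂(2ⁿ)` or a Suzuki group.
-/

set_option autoImplicit false

namespace Cfsg.Agent.H71.FrobSys

open Subgroup
open scoped Pointwise

/-- in characteristic two `SL₂ = PSL₂` -/
theorem center_sl2_eq_bot {F : Type*} [Field F] [CharP F 2] :
    Subgroup.center (Matrix.SpecialLinearGroup (Fin 2) F) = ⊥ := by
  rw [eq_bot_iff]
  intro A hA
  rw [Matrix.SpecialLinearGroup.mem_center_iff] at hA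
  obtain ⟨r, hr, hA⟩ := hA
  rw [Subgroup.mem_bot]
  have hr1 : r = 1 := by
    have h2 : r ^ 2 = 1 := by simpa using hr
    have h3 : (r - 1) ^ 2 = 0 := by
      have : (2 : F) = 0 := CharP.cast_eq_zero F 2
      linear_combination h2 - (r - 1) * this
    have h4 := pow_eq_zero_iff (two_ne_zero) |>.1 h3
    exact sub_eq_zero.1 h4
  ext i j
  rw [← hA, hr1]
  simp

theorem sl2_equiv_psl2 (F : Type*) [Field F] [CharP F 2] :
    Nonempty (Matrix.SpecialLinearGroup (Fin 2) F ≃* Matrix.ProjectiveSpecialLinearGroup (Fin 2) F) := by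
  refine ⟨(QuotientGroup.quotientBot.symm).trans (QuotientGroup.quotientMulEquivOfEq ?_)⟩
  exact center_sl2_eq_bot.symm

variable {G : Type*} [Group G] [Finite G]

namespace Sys

variable {M F : Subgroup G} (h : Sys M F)
include h

local notation "DD(" M ", " u ")" => M ⊓ Subgroup.map (MulEquiv.toMonoidHom (MulAut.conj u)) M

theorem exists_two (he : Even (Nat.card F)) (hM : M ≠ ⊤) (hFM : F ≠ M) :
    ∃ x y : G, x ≠ 1 ∧ y ≠ 1 ∧ x ≠ y ∧ x * x = 1 ∧ y * y = 1 ∧ x * y = y * x := by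
  obtain ⟨u, hu, huM⟩ := h.exists_u he hM
  have h1 : 1 < Nat.card {t : G // orderOf t = 2 ∧ t ∈ M} := by
    rw [h.card_J he hM]
    have h2 := h.card_D he hM hu huM
    have h3 : F.relIndex M ≠ 1 := fun e => hFM (le_antisymm h.le (Subgroup.relIndex_eq_one.1 e))
    have h4 : F.relIndex M ≠ 0 := Subgroup.index_ne_zero_of_finite
    omega
  rw [Finite.one_lt_card_iff_nontrivial] at h1
  obtain ⟨⟨x, hx, hxM⟩, ⟨y, hy, hyM⟩, hxy⟩ := h1
  refine ⟨x, y, ?_, ?_, fun e => hxy (Subtype.ext e), mul_self_of_two hx, mul_self_of_two hy, ?_⟩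
  · rintro rfl
    rw [orderOf_one] at hx
    omega
  · rintro rfl
    rw [orderOf_one] at hy
    omega
  · exact h.central he hM hy hyM (h.sq_mem he hxM (mul_self_of_two hx))

theorem cyc (he : Even (Nat.card F)) (hM : M ≠ ⊤) {u : G} (hu : orderOf u = 2)
    (huM : u ∉ M) : IsCyclic ↥(DD(M, u)) := by
  obtain ⟨⟨z, hzF⟩, hz2⟩ := exists_prime_orderOf_dvd_card' (p := 2) he.two_dvd
  rw [Subgroup.orderOf_mk] at hz2
  obtain ⟨W, hW⟩ : ∃ W : Subgroup G, W = F ⊓ centralizer (F : Set G) := ⟨_, rfl⟩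
  have hn : DD(M, u) ≤ normalizer (W : Set G) := by
    intro d hd
    have hd1 := h.le_normalizer (Subgroup.mem_inf.1 hd).1
    rw [Subgroup.mem_normalizer_iff] at hd1 ⊢
    intro x
    rw [hW, Subgroup.mem_inf, Subgroup.mem_inf, ← hd1 x]
    refine and_congr_right (fun _ => ?_)
    rw [Subgroup.mem_centralizer_iff, Subgroup.mem_centralizer_iff]
    constructor
    · intro h1 y hy
      have h2 := h1 (d⁻¹ * y * d) (by
        have := (hd1 (d⁻¹ * y * d)).2 (by
          have e : d * (d⁻¹ * y * d) * d⁻¹ = y := by group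
          rw [e]; exact hy)
        exact this)
      calc y * (d * x * d⁻¹) = d * (d⁻¹ * y * d * x) * d⁻¹ := by group
        _ = d * (x * (d⁻¹ * y * d)) * d⁻¹ := by rw [h2]
        _ = d * x * d⁻¹ * y := by group
    · intro h1 y hy
      have h2 := h1 (d * y * d⁻¹) ((hd1 y).1 hy)
      calc y * x = d⁻¹ * (d * y * d⁻¹ * (d * x * d⁻¹)) * d := by group
        _ = d⁻¹ * (d * x * d⁻¹ * (d * y * d⁻¹)) * d := by rw [h2]
        _ = x * y := by group
  have hWF : W ≤ F := by rw [hW]; exact inf_le_left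
  let _ : CommGroup W := { (inferInstance : Group W) with
    mul_comm := fun x y => Subtype.ext (by
      have hx : (x : G) ∈ F ⊓ centralizer (F : Set G) := by rw [← hW]; exact x.2
      have hy : (y : G) ∈ F ⊓ centralizer (F : Set G) := by rw [← hW]; exact y.2
      exact (Subgroup.mem_centralizer_iff.1 (Subgroup.mem_inf.1 hy).2 x (Subgroup.mem_inf.1 hx).1)) }
  let _ : CommGroup ↥(DD(M, u)) := { (inferInstance : Group ↥(DD(M, u))) with
    mul_comm := fun x y => Subtype.ext (h.comm_D he hM hu huM x.2 y.2) }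
  have hzW : z ∈ W := by
    rw [hW]
    refine Subgroup.mem_inf.2 ⟨hzF, Subgroup.mem_centralizer_iff.2 fun x hx => ?_⟩
    exact h.central he hM hz2 (h.le hzF) hx
  have hnt : Nontrivial W := by
    refine ⟨⟨z, hzW⟩, 1, fun e => ?_⟩
    have : z = 1 := congrArg Subtype.val e
    rw [this, orderOf_one] at hz2
    omega
  have hfpf : Frob.IsFPF (Frob.conjAct (DD(M, u)) W hn) := by
    apply Frob.isFPF_conjAct
    intro a ha ha1
    rw [eq_bot_iff]
    intro x hx
    obtain ⟨hx1, hx2⟩ := Subgroup.mem_inf.1 hx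
    have h3 := Subgroup.mem_centralizer_singleton_iff.1 hx2
    exact Subgroup.mem_bot.2 (h.fpf a (Subgroup.mem_inf.1 ha).1 (h.not_mem_F huM ha ha1) x (hWF hx1) h3)
  exact hfpf.isCyclic_of_comm

theorem reg (he : Even (Nat.card F)) (hM : M ≠ ⊤) (hFM : F ≠ M) :
    ∀ y z : G ⧸ M, y ≠ ((1 : G) : G ⧸ M) → z ≠ ((1 : G) : G ⧸ M) → ∃! u : F, (u : G) • y = z := by
  intro y z hy hz
  induction y using QuotientGroup.induction_on with | _ y =>
  induction z using QuotientGroup.induction_on with | _ z =>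
  have hyM : y ∉ M := fun e => hy (QuotientGroup.eq.2 (by rw [mul_one]; exact inv_mem e))
  have hzM : z ∉ M := fun e => hz (QuotientGroup.eq.2 (by rw [mul_one]; exact inv_mem e))
  obtain ⟨f, hf, hf1⟩ := h.trans_F he hM hFM hyM hzM
  refine ⟨⟨f, hf⟩, ?_, ?_⟩
  · show f • (y : G ⧸ M) = z
    rw [MulAction.Quotient.smul_coe, smul_eq_mul, QuotientGroup.eq]
    exact hf1
  · rintro ⟨g, hg⟩ hgy
    have h1 : g • (y : G ⧸ M) = z := hgy
    rw [MulAction.Quotient.smul_coe, smul_eq_mul, QuotientGroup.eq] at h1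
    have h2 : y⁻¹ * (g⁻¹ * f) * y ∈ M := by
      have := mul_mem h1 (inv_mem hf1)
      have e : (g * y)⁻¹ * z * ((f * y)⁻¹ * z)⁻¹ = y⁻¹ * (g⁻¹ * f) * y := by group
      rwa [e] at this
    have h3 := h.ti' hyM (mul_mem (inv_mem hg) hf) h2
    exact Subtype.ext (inv_mul_eq_one.1 h3)

theorem card_quot (he : Even (Nat.card F)) (hM : M ≠ ⊤) (hFM : F ≠ M) :
    Nat.card (G ⧸ M) = Nat.card F + 1 := by
  classical
  obtain ⟨u, hu, huM⟩ := h.exists_u he hM
  have hu1 : (u : G ⧸ M) ≠ ((1 : G) : G ⧸ M) := by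
    intro e
    rw [QuotientGroup.eq, mul_one] at e
    exact huM (inv_mem_iff.1 e)
  have hfix : ∀ f ∈ F, f • ((1 : G) : G ⧸ M) = ((1 : G) : G ⧸ M) := by
    intro f hf
    rw [smul_eq_iff, inv_one, one_mul, mul_one]
    exact h.le hf
  let φ : F → {y : G ⧸ M // y ≠ ((1 : G) : G ⧸ M)} := fun f => ⟨(f : G) • (u : G ⧸ M), fun e => hu1 (by
    have := congrArg (fun x => (f : G)⁻¹ • x) e
    simp only [inv_smul_smul] at this
    rw [this]
    exact hfix _ (inv_mem f.2))⟩
  have hφ : Function.Bijective φ := by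
    constructor
    · intro f f' hff
      have h1 : (f : G) • (u : G ⧸ M) = (f' : G) • (u : G ⧸ M) := congrArg Subtype.val hff
      have hne : (f : G) • (u : G ⧸ M) ≠ ((1 : G) : G ⧸ M) := (φ f).2
      obtain ⟨w, -, hw⟩ := h.reg he hM hFM (u : G ⧸ M) ((f : G) • (u : G ⧸ M)) hu1 hne
      rw [hw f rfl, hw f' h1.symm]
    · rintro ⟨y, hy⟩
      obtain ⟨f, hf, -⟩ := h.reg he hM hFM (u : G ⧸ M) y hu1 hy
      exact ⟨f, Subtype.ext hf⟩
  rw [Nat.card_congr (Equiv.ofBijective φ hφ)]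
  have : Fintype (G ⧸ M) := Fintype.ofFinite _
  rw [Nat.card_eq_fintype_card, Nat.card_eq_fintype_card, Fintype.card_subtype_compl, Fintype.card_subtype_eq]
  have : 0 < Fintype.card (G ⧸ M) := Fintype.card_pos
  omega

theorem card_E (he : Even (Nat.card F)) (hM : M ≠ ⊤) :
    Nat.card {x : F // x * x = 1} = F.relIndex M + 1 := by
  classical
  rw [← h.card_J he hM]
  have : Fintype {x : F // x * x = 1} := Fintype.ofFinite _
  have e : {t : G // orderOf t = 2 ∧ t ∈ M} ≃ {x : {x : F // x * x = 1} // x ≠ ⟨1, one_mul 1⟩} :=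
    { toFun := fun t => ⟨⟨⟨t, h.sq_mem he t.2.2 (mul_self_of_two t.2.1)⟩, Subtype.ext (mul_self_of_two t.2.1)⟩, by
        intro e
        have h1 : (t : G) = 1 := congrArg (fun x : {x : F // x * x = 1} => ((x : F) : G)) e
        have h2 := t.2.1
        rw [h1, orderOf_one] at h2
        omega⟩
      invFun := fun x => ⟨((x : {x : F // x * x = 1}) : F), by
        refine ⟨?_, h.le (x : {x : F // x * x = 1}).1.2⟩
        apply orderOf_eq_prime
        · rw [pow_two]
          exact congrArg Subtype.val (x : {x : F // x * x = 1}).2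
        · intro e
          apply x.2
          exact Subtype.ext (Subtype.ext e)⟩
      left_inv := fun t => rfl
      right_inv := fun t => rfl }
  rw [Nat.card_congr e, Nat.card_eq_fintype_card, Nat.card_eq_fintype_card, Fintype.card_subtype_compl,
    Fintype.card_subtype_eq]
  have : 0 < Fintype.card {x : F // x * x = 1} := Fintype.card_pos_iff.2 ⟨⟨1, one_mul 1⟩⟩
  omega

theorem classify (hns : ¬ Group.IsSolvable G) (he : Even (Nat.card F)) (hM : M ≠ ⊤)
    (hsM : Group.IsSolvable M) :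
    (∃ (K : Type) (_ : Field K) (_ : Fintype K), (∃ n : ℕ, 2 ≤ n ∧ Fintype.card K = 2 ^ n) ∧
        Nonempty (G ≃* Matrix.SpecialLinearGroup (Fin 2) K)) ∨ Cfsg.Lie.IsoSuzuki G := by
  obtain ⟨u, hu, huM⟩ := h.exists_u he hM
  have hFM := h.F_ne hns he hM hsM
  have hS := h.rankOne hns he hM hsM hu huM
  have hZ := h.zassenhaus hns he hM hsM
  have hsimp := h.simple hns he hM hsM
  have hfaith := h.faithful he hM
  have h2 := h.exists_two he hM hFM
  have hcyc := h.cyc he hM hu huM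
  have hDD : H20.RO.DD G ((1 : G) : G ⧸ M) u = DD(M, u) := by
    show MulAction.stabilizer G _ ⊓ MulAction.stabilizer G _ = _
    rw [h.stab_one, h.stab_u]
  have hC : ((DD(M, u) : Subgroup G) : Set G) = Cfsg.invertedBy (H20.RO.DD G ((1 : G) : G ⧸ M) u) u := by
    ext x
    show x ∈ DD(M, u) ↔ x ∈ H20.RO.DD G ((1 : G) : G ⧸ M) u ∧ u * x * u⁻¹ = x⁻¹
    rw [hDD]
    exact ⟨fun hx => ⟨hx, h.inv_D he hM hu huM hx⟩, fun hx => hx.1⟩
  have hnrm : ∀ d ∈ H20.RO.DD G ((1 : G) : G ⧸ M) u, ∀ c ∈ DD(M, u), d * c * d⁻¹ ∈ DD(M, u) := by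
    intro d hd c hc
    rw [hDD] at hd
    exact mul_mem (mul_mem hd hc) (inv_mem hd)
  obtain ⟨C, hRS⟩ := RK.exists_RS hS h2 ⟨_, hC, hcyc, hnrm⟩
  have htop : ∀ L : Subgroup G, L.Normal → Odd L.index → L = ⊤ := by
    intro L hL hodd
    rcases hsimp.eq_bot_or_eq_top_of_normal L hL with h1 | h1
    · exfalso
      rw [h1, Subgroup.index_bot] at hodd
      have h3 : Nat.card F ∣ Nat.card G := Subgroup.card_subgroup_dvd_card F
      have h4 := he.two_dvd.trans h3
      rw [Nat.odd_iff] at hodd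
      omega
    · exact h1
  rcases hRS.trichotomy with hel | ⟨hp, hna, hcard⟩ | ⟨hp, hna, hcard, -⟩
  · obtain ⟨L, hL, hodd, K, hK, hK', ⟨n, hn, hn2⟩, -, ⟨e⟩⟩ :=
      Cfsg.Agent.H37.RankOne.psl_of_elementary hS h2 hRS.hC hRS.cyc hRS.nrm hel
    left
    have := htop L hL hodd
    subst this
    have hchar : CharP K 2 := by
      obtain ⟨p, hp, m, hpp, hm⟩ := FiniteField.card' K
      have h1 : p ∣ 2 ^ n := by
        rw [← hn2, hm]
        exact dvd_pow_self p m.2.ne'
      have h3 := (Nat.prime_dvd_prime_iff_eq hpp Nat.prime_two).1 (hpp.dvd_of_dvd_pow h1)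
      rwa [h3] at hp
    obtain ⟨e'⟩ := sl2_equiv_psl2 K
    exact ⟨K, hK, hK', ⟨n, hn, hn2⟩, ⟨(Subgroup.topEquiv.symm.trans e).trans e'.symm⟩⟩
  · obtain ⟨L, hL, hodd, K, hK, hK', m, hm, hm2, ⟨e⟩⟩ :=
      Cfsg.Agent.SuzId.iso_of_order_sq hS h2 hRS.hC hRS.cyc hRS.nrm hp hna hcard
    right
    have := htop L hL hodd
    subst this
    exact ⟨K, hK, hK', m, hm, hm2, ⟨Subgroup.topEquiv.symm.trans e⟩⟩
  · exfalso
    have hne : ((1 : G) : G ⧸ M) ≠ u • ((1 : G) : G ⧸ M) := by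
      intro e
      apply hS.not_mem
      rw [MulAction.mem_stabilizer_iff]
      exact e.symm
    obtain ⟨n, -, hn1, hn2, -, hn3, -⟩ := S1147.result hZ hne F (by rw [h.stab_one]; exact h.le)
      (by rw [h.stab_one]; exact h.conj) (h.reg he hM hFM) hp hna
    rw [h.card_quot he hM hFM] at hn2
    rw [h.stab_one, h.stab_u, h.card_D he hM hu huM] at hn3
    rw [h.card_E he hM] at hcard
    have h3 : 1 ≤ 2 ^ n := Nat.one_le_two_pow
    have h4 : F.relIndex M + 1 = 2 ^ n := by omega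
    rw [h4] at hcard
    have h5 : Nat.card F = 2 ^ (2 * n) := by omega
    rw [h5, ← pow_mul] at hcard
    have h6 := Nat.pow_right_injective (le_refl 2) hcard
    omega

end Sys

end Cfsg.Agent.H71.FrobSys
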