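import Mathlib
import Cfsg.Agent.H71.FrobSys3
import Cfsg.Agent.SigF.Trans
import Cfsg.Agent.S0225

/-!
Frobenius systems: the case where all the kernels have odd order.
-/

set_option autoImplicit false

namespace Cfsg.Agent.H71.FrobSys

open Subgroup
open scoped Pointwise commutatorElement

variable {G : Type*} [Group G] [Finite G]

omit [Finite G] in
theorem zpowers_comm (z : G) (x y : zpowers z) : x * y = y * x := by
  obtain ⟨m, hm⟩ := Subgroup.mem_zpowers_iff.1 x.2
  obtain ⟨n, hn⟩ := Subgroup.mem_zpowers_iff.1 y.2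
  apply Subtype.ext
  show (x : G) * y = y * x
  rw [← hm, ← hn]
  exact (Commute.refl z).zpow_zpow m n

/-- A fixed-point-free involution inverts. -/
theorem inv_of_fpf {Q : Subgroup G} {e : G} (he : e * e = 1) (hn : ∀ x ∈ Q, e * x * e⁻¹ ∈ Q)
    (hf : ∀ x ∈ Q, x * e = e * x → x = 1) : ∀ x ∈ Q, e * x * e⁻¹ = x⁻¹ := by
  have hei : e⁻¹ = e := inv_eq_of_mul_eq_one_left he
  let φ : Q → Q := fun x => ⟨(x : G)⁻¹ * (e * x * e⁻¹), mul_mem (inv_mem x.2) (hn x x.2)⟩
  have hφ : Function.Injective φ := by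
    intro x y hxy
    have h1 : (x : G)⁻¹ * (e * x * e⁻¹) = (y : G)⁻¹ * (e * y * e⁻¹) := congrArg Subtype.val hxy
    have h2 : (y : G) * (x : G)⁻¹ * e = e * ((y : G) * (x : G)⁻¹) := by
      calc (y : G) * (x : G)⁻¹ * e = y * ((x : G)⁻¹ * (e * x * e⁻¹)) * e * (x : G)⁻¹ := by group
        _ = y * ((y : G)⁻¹ * (e * y * e⁻¹)) * e * (x : G)⁻¹ := by rw [h1]
        _ = e * ((y : G) * (x : G)⁻¹) := by group
    have h3 := hf _ (mul_mem y.2 (inv_mem x.2)) h2
    exact Subtype.ext (mul_inv_eq_one.1 h3).symm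
  have hbij := Finite.injective_iff_surjective.1 hφ
  intro x hx
  obtain ⟨y, hy⟩ := hbij ⟨x, hx⟩
  have h1 : (y : G)⁻¹ * (e * y * e⁻¹) = x := congrArg Subtype.val hy
  rw [← h1, hei]
  calc e * ((y : G)⁻¹ * (e * y * e)) * e = e * (y : G)⁻¹ * e * y * (e * e) := by group
    _ = e⁻¹ * (y : G)⁻¹ * e⁻¹ * y := by rw [he, mul_one, hei]
    _ = ((y : G)⁻¹ * (e * y * e))⁻¹ := by group

theorem solvable_of_quot {N : Subgroup G} [N.Normal] (h1 : Group.IsSolvable N)
    (h2 : Group.IsSolvable (G ⧸ N)) : Group.IsSolvable G :=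
  Group.isSolvable_of_ker_le_range N.subtype (QuotientGroup.mk' N) (by
      rw [QuotientGroup.ker_mk', Subgroup.range_subtype])

/-- the last nontrivial term of the derived series: an abelian normal subgroup -/
theorem exists_abelian_normal {R : Subgroup G} (hR : R.Normal) (hR1 : R ≠ ⊥) (hs : Group.IsSolvable R) :
    ∃ A : Subgroup G, A.Normal ∧ A ≠ ⊥ ∧ ∀ x ∈ A, ∀ y ∈ A, x * y = y * x := by
  classical
  obtain ⟨n, hn⟩ := hs
  have hex : ∃ n, derivedSeries R n = ⊥ := ⟨n, hn⟩
  obtain ⟨m, hm⟩ : ∃ m, m = Nat.find hex := ⟨_, rfl⟩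
  have hm1 : derivedSeries R m = ⊥ := by rw [hm]; exact Nat.find_spec hex
  have hm0 : m ≠ 0 := by
    rintro h0
    rw [h0, derivedSeries_zero] at hm1
    apply hR1
    rw [eq_bot_iff]
    intro x hx
    have : (⟨x, hx⟩ : R) ∈ (⊤ : Subgroup R) := Subgroup.mem_top _
    rw [hm1, Subgroup.mem_bot] at this
    exact Subgroup.mem_bot.2 (congrArg Subtype.val this)
  obtain ⟨k, rfl⟩ := Nat.exists_eq_succ_of_ne_zero hm0
  have hk : derivedSeries R k ≠ ⊥ := Nat.find_min hex (by rw [← hm]; exact Nat.lt_succ_self k)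
  have hchar : (derivedSeries R k).Characteristic := inferInstance
  refine ⟨(derivedSeries R k).map R.subtype, ?_, ?_, ?_⟩
  · exact ConjAct.normal_of_characteristic_of_normal
  · intro e
    apply hk
    exact (Subgroup.map_eq_bot_iff_of_injective _ R.subtype_injective).1 e
  · rintro _ ⟨x, hx, rfl⟩ _ ⟨y, hy, rfl⟩
    have h1 : ⁅x, y⁆ ∈ derivedSeries R (k + 1) := by
      rw [derivedSeries_succ]
      exact Subgroup.commutator_mem_commutator hx hy
    rw [hm1, Subgroup.mem_bot, commutatorElement_eq_one_iff_mul_comm] at h1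
    show (x : G) * y = y * x
    exact congrArg Subtype.val h1

/-- maximal solvable subgroups -/
def MS (M : Subgroup G) : Prop := Group.IsSolvable M ∧ ∀ M' : Subgroup G, M < M' → ¬ Group.IsSolvable M'

omit [Finite G] in
theorem exists_MS [Finite G] {X : Subgroup G} (hX : Group.IsSolvable X) : ∃ M : Subgroup G, MS M ∧ X ≤ M := by
  obtain ⟨M, hXM, hM⟩ := Set.Finite.exists_le_maximal (s := {Y : Subgroup G | Group.IsSolvable Y})
    (Set.toFinite _) hX
  exact ⟨M, ⟨hM.1, fun M' h h' => absurd (hM.2 h' h.le) (not_le_of_gt h)⟩, hXM⟩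

theorem MS.ne_top (hns : ¬ Group.IsSolvable G) {M : Subgroup G} (hM : MS M) : M ≠ ⊤ := by
  rintro rfl
  apply hns
  have := hM.1
  exact Group.isSolvable_of_surjective (f := (Subgroup.topEquiv : (⊤ : Subgroup G) ≃* G).toMonoidHom)
    Subgroup.topEquiv.surjective

theorem MS.le_of_normal {M : Subgroup G} (hM : MS M) {A : Subgroup G} (hA : A.Normal) (hAs : Group.IsSolvable A) :
    A ≤ M := by
  have h1 : Group.IsSolvable ↥(A ⊔ M) := SigF.solvable_sup hAs hM.1 (by
    rw [Subgroup.normalizer_eq_top]; exact le_top)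
  by_contra hcon
  apply hM.2 (A ⊔ M) _ h1
  exact lt_of_le_of_ne le_sup_right (fun e => hcon (by rw [e]; exact le_sup_left))

/-- no solvable normal subgroups -/
theorem no_radical (hns : ¬ Group.IsSolvable G) {M F : Subgroup G} (hM : MS M) (h : Sys M F) (hF : F ≠ ⊥)
    {R : Subgroup G} (hR : R.Normal) (hR1 : R ≠ ⊥) (hs : Group.IsSolvable R) : False := by
  obtain ⟨A, hA, hA1, hAc⟩ := exists_abelian_normal hR hR1 hs
  have hAs : Group.IsSolvable A := Group.isSolvable_of_comm (fun x y => Subtype.ext (hAc x x.2 y y.2))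
  have hAM := hM.le_of_normal hA hAs
  have hMt := hM.ne_top hns
  -- A meets F
  have hAF : ∃ y ∈ A, y ∈ F ∧ y ≠ 1 := by
    by_contra hcon
    push Not at hcon
    obtain ⟨⟨x, hx⟩, hx1'⟩ := Subgroup.ne_bot_iff_exists_ne_one.1 hF
    have hx1 : x ≠ 1 := fun e => hx1' (Subtype.ext e)
    obtain ⟨⟨a, ha⟩, ha1'⟩ := Subgroup.ne_bot_iff_exists_ne_one.1 hA1
    have ha1 : a ≠ 1 := fun e => ha1' (Subtype.ext e)
    have h1 : x * a * x⁻¹ * a⁻¹ = 1 := by
      apply hcon
      · exact mul_mem (hA.conj_mem a ha x) (inv_mem ha)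
      · have e : x * a * x⁻¹ * a⁻¹ = x * (a * x⁻¹ * a⁻¹) := by group
        rw [e]
        exact mul_mem hx (h.conj a (hAM ha) _ (inv_mem hx))
    have h2 : x * a = a * x := by
      rw [mul_inv_eq_one] at h1
      exact mul_inv_eq_iff_eq_mul.1 h1
    exact hx1 (h.fpf a (hAM ha) (fun haF => ha1 (hcon a ha haF)) x hx h2)
  obtain ⟨y, hyA, hyF, hy1⟩ := hAF
  obtain ⟨g, hg⟩ : ∃ g, g ∉ M := by
    by_contra hcon
    push Not at hcon
    exact hMt ((Subgroup.eq_top_iff' M).2 hcon)
  apply hy1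
  apply h.ti g hg y hyF
  have h3 : g⁻¹ * y * g ∈ A := by
    have := hA.conj_mem y hyA g⁻¹
    rwa [inv_inv] at this
  exact h.cent hyF hy1 (hAc y hyA _ h3)

theorem main (F : Subgroup G → Subgroup G) (hns : ¬ Group.IsSolvable G)
    (hsys : ∀ M, MS M → Sys M (F M))
    (hor : ∀ M, MS M → F M ≠ ⊥ ∨ IsMulCommutative M) :
    ∃ M, MS M ∧ Even (Nat.card (F M)) := by
  by_contra hcon
  push Not at hcon
  have hodd : ∀ M, MS M → Odd (Nat.card (F M)) := fun M hM => Nat.not_even_iff_odd.1 (hcon M hM)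
  have heven := FT.even_of_not_solvable hns
  obtain ⟨S⟩ : Nonempty (Sylow 2 G) := inferInstance
  -- the key step
  have key : ∀ M, MS M → (S : Subgroup G) ≤ M → F M ≠ ⊥ → False := by
    intro M hM hSM hF
    have h := hsys M hM
    have hsq : ∀ a ∈ M, a ≠ 1 → a * a = 1 → a ∉ F M := by
      intro a ha ha1 haa haF
      have h1 : orderOf a = 2 := orderOf_eq_prime (by rw [pow_two, haa]) ha1
      have h2 : orderOf a ∣ Nat.card (F M) := by
        have := orderOf_dvd_natCard (⟨a, haF⟩ : F M)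
        rwa [Subgroup.orderOf_mk] at this
      rw [h1] at h2
      exact absurd (even_iff_two_dvd.2 h2) (Nat.not_even_iff_odd.2 (hodd M hM))
    have hrank : ∀ E : Subgroup G, ¬ IsKleinFour E := by
      intro E hE
      have hEp : IsPGroup 2 E := by
        rw [IsPGroup.iff_card, hE.card_four]
        exact ⟨2, rfl⟩
      obtain ⟨T, hT⟩ := hEp.exists_le_sylow
      obtain ⟨g, hg⟩ := MulAction.exists_smul_eq G S T
      have hconj : ∀ x ∈ E, g⁻¹ * x * g ∈ M := by
        intro x hx
        apply hSM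
        have h1 : x ∈ ((g • S : Sylow 2 G) : Subgroup G) := by rw [hg]; exact hT hx
        rw [Sylow.coe_subgroup_smul, Subgroup.mem_pointwise_smul_iff_inv_smul_mem] at h1
        have e1 : (MulAut.conj g)⁻¹ • x = g⁻¹ * x * g := by
          rw [← map_inv]
          show g⁻¹ * x * g⁻¹⁻¹ = _
          rw [inv_inv]
        rwa [e1] at h1
      have hsqE : ∀ x ∈ E, x * x = 1 := by
        intro x hx
        have := hE.mul_self ⟨x, hx⟩
        exact congrArg Subtype.val this
      -- three involutions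
      have hinv : ∀ x ∈ E, x ≠ 1 → ∀ y ∈ F M, (g⁻¹ * x * g) * y * (g⁻¹ * x * g)⁻¹ = y⁻¹ := by
        intro x hx hx1
        have hxx : (g⁻¹ * x * g) * (g⁻¹ * x * g) = 1 := by
          calc (g⁻¹ * x * g) * (g⁻¹ * x * g) = g⁻¹ * (x * x) * g := by group
            _ = 1 := by rw [hsqE x hx]; group
        have hne : g⁻¹ * x * g ≠ 1 := by
          intro e
          apply hx1
          calc x = g * (g⁻¹ * x * g) * g⁻¹ := by group
            _ = 1 := by rw [e]; group
        have hxM := hconj x hx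
        exact inv_of_fpf hxx (fun y hy => h.conj _ hxM y hy)
          (fun y hy hyx => h.fpf _ hxM (hsq _ hxM hne hxx) y hy hyx)
      have hnt : 2 < Nat.card E := by rw [hE.card_four]; norm_num
      obtain ⟨a, ha⟩ : ∃ a : E, a ≠ 1 := by
        have : Nontrivial E := Finite.one_lt_card_iff_nontrivial.1 (by omega)
        exact exists_ne 1
      obtain ⟨b, hb1, hba⟩ : ∃ b : E, b ≠ 1 ∧ b ≠ a := by
        by_contra hc
        push Not at hc
        have h1 : (Set.univ : Set E) ⊆ {1, a} := by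
          intro x _
          by_cases hx : x = 1
          · exact Or.inl hx
          · exact Or.inr (hc x hx)
        have h2 := Set.ncard_le_ncard h1 (Set.toFinite _)
        rw [Set.ncard_univ] at h2
        have h3 := Set.ncard_insert_le (1 : E) {a}
        rw [Set.ncard_singleton] at h3
        omega
      have hab : (a : G) * b ≠ 1 := by
        intro e
        apply hba
        have h1 : (a : G) * a = a * b := by rw [hsqE a a.2, e]
        exact (Subtype.ext (mul_left_cancel h1)).symm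
      obtain ⟨⟨y, hy⟩, hy1'⟩ := Subgroup.ne_bot_iff_exists_ne_one.1 hF
      have hy1 : y ≠ 1 := fun e => hy1' (Subtype.ext e)
      have ha' : (a : G) ≠ 1 := fun e => ha (Subtype.ext e)
      have hb' : (b : G) ≠ 1 := fun e => hb1 (Subtype.ext e)
      have h1 := hinv a a.2 ha' y⁻¹ (inv_mem hy)
      have h2 := hinv b b.2 hb' y hy
      have h3 := hinv _ (mul_mem a.2 b.2) hab y hy
      have h4 : (g⁻¹ * ((a : G) * b) * g) * y * (g⁻¹ * ((a : G) * b) * g)⁻¹ =
          (g⁻¹ * a * g) * ((g⁻¹ * b * g) * y * (g⁻¹ * b * g)⁻¹) * (g⁻¹ * a * g)⁻¹ := by group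
      rw [h3, h2, h1, inv_inv] at h4
      -- y⁻¹ = y
      have h5 : y * y = 1 := by
        nth_rewrite 1 [← h4]
        exact inv_mul_cancel y
      exact hsq y (h.le hy) hy1 h5 hy
    obtain ⟨z, hz2, N, hN, hNodd, hNz⟩ := S0225.result (even_iff_two_dvd.2 heven) hrank
    by_cases hN1 : N = ⊥
    · have hzc : ∀ g : G, z * g = g * z := by
        intro g
        have h1 := hNz g
        rw [hN1, Subgroup.mem_bot] at h1
        rw [mul_inv_eq_one] at h1
        exact mul_inv_eq_iff_eq_mul.1 h1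
      have hR : (zpowers z).Normal := by
        refine ⟨fun x hx g => ?_⟩
        obtain ⟨k, rfl⟩ := Subgroup.mem_zpowers_iff.1 hx
        have hc : Commute (z ^ k) g := Commute.zpow_left (hzc g) k
        have : g * z ^ k * g⁻¹ = z ^ k := by rw [← hc.eq, mul_inv_cancel_right]
        rw [this]
        exact hx
      refine no_radical hns hM h hF hR ?_ ?_
      · rw [Ne, Subgroup.zpowers_eq_bot]
        rintro rfl
        rw [orderOf_one] at hz2
        omega
      · exact Group.isSolvable_of_comm (zpowers_comm _)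
    · exact no_radical hns hM h hF hN hN1 (FT.solvable_of_odd hNodd)
  -- Burnside
  have hSs : Group.IsSolvable (S : Subgroup G) := by
    have := S.2.isNilpotent
    infer_instance
  have hnorm : normalizer ((S : Subgroup G) : Set G) ≤ centralizer ((S : Subgroup G) : Set G) := by
    intro x hx
    have hY : Group.IsSolvable ↥((S : Subgroup G) ⊔ zpowers x) :=
      SigF.solvable_sup hSs (Group.isSolvable_of_comm (zpowers_comm _)) (zpowers_le.2 hx)
    obtain ⟨M, hM, hYM⟩ := exists_MS hY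
    have hSM : (S : Subgroup G) ≤ M := le_sup_left.trans hYM
    have hxM : x ∈ M := hYM (Subgroup.mem_sup_right (mem_zpowers x))
    rcases hor M hM with h1 | h1
    · exact (key M hM hSM h1).elim
    · rw [Subgroup.mem_centralizer_iff]
      intro s hs
      have := h1.is_comm.comm (⟨s, hSM hs⟩ : M) ⟨x, hxM⟩
      exact congrArg Subtype.val this
  have hcompl := MonoidHom.ker_transferSylow_isComplement' S hnorm
  have hKodd : Odd (Nat.card (MonoidHom.transferSylow S hnorm).ker) := by
    rw [← Nat.not_even_iff_odd, even_iff_two_dvd]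
    exact MonoidHom.not_dvd_card_ker_transferSylow S hnorm
  apply hns
  have e := hcompl.symm.QuotientMulEquiv.symm
  exact solvable_of_quot (FT.solvable_of_odd hKodd)
    (Group.isSolvable_of_surjective (f := e.toMonoidHom) e.surjective)

end Cfsg.Agent.H71.FrobSys
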