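import Mathlib

/-! Left-normed commutator values (for S3900). -/

set_option autoImplicit false

namespace Cfsg.Agent.H71.LcsVal

open Subgroup
open scoped commutatorElement

universe u

variable {G : Type*} [Group G]

/-- left-normed commutator values of length `n + 1` with entries in `H` -/
def V (H : Subgroup G) : ℕ → Set G
  | 0 => (H : Set G)
  | n + 1 => {x | ∃ a ∈ V H n, ∃ b ∈ H, x = ⁅a, b⁆}

theorem V_sub (H : Subgroup G) (n : ℕ) : V H n ⊆ (H : Set G) := by
  induction n with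
  | zero => exact le_rfl
  | succ n ih =>
    rintro x ⟨a, ha, b, hb, rfl⟩
    have ha' : a ∈ H := ih ha
    rw [commutatorElement_def]
    exact H.mul_mem (H.mul_mem (H.mul_mem ha' hb) (H.inv_mem ha')) (H.inv_mem hb)

theorem V_mono {H K : Subgroup G} (h : H ≤ K) (n : ℕ) : V H n ⊆ V K n := by
  induction n with
  | zero => exact h
  | succ n ih =>
    rintro x ⟨a, ha, b, hb, rfl⟩
    exact ⟨a, ih ha, b, h hb, rfl⟩

theorem V_map {G' : Type*} [Group G'] (f : G →* G') (H : Subgroup G) (n : ℕ) :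
    V (H.map f) n = f '' V H n := by
  induction n with
  | zero => rfl
  | succ n ih =>
    ext x
    constructor
    · rintro ⟨a, ha, b, hb, rfl⟩
      rw [ih] at ha
      obtain ⟨a, ha, rfl⟩ := ha
      obtain ⟨b, hb, rfl⟩ := hb
      exact ⟨⁅a, b⁆, ⟨a, ha, b, hb, rfl⟩, map_commutatorElement f a b⟩
    · rintro ⟨_, ⟨a, ha, b, hb, rfl⟩, rfl⟩
      refine ⟨f a, ?_, f b, ⟨b, hb, rfl⟩, map_commutatorElement f a b⟩
      rw [ih]
      exact ⟨a, ha, rfl⟩

theorem V_conj {H : Subgroup G} {n : ℕ} {a : G} (ha : a ∈ V H n) {g : G} (hg : g ∈ H) :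
    g * a * g⁻¹ ∈ V H n := by
  have h1 : H.map (MulAut.conj g).toMonoidHom = H := by
    ext y
    constructor
    · rintro ⟨z, hz, rfl⟩
      exact H.mul_mem (H.mul_mem hg hz) (H.inv_mem hg)
    · intro hy
      refine ⟨g⁻¹ * y * g, H.mul_mem (H.mul_mem (H.inv_mem hg) hy) hg, ?_⟩
      show g * (g⁻¹ * y * g) * g⁻¹ = y
      group
  have h2 : V H n = (MulAut.conj g).toMonoidHom '' V H n := by
    rw [← V_map, h1]
  rw [h2]
  exact ⟨a, ha, rfl⟩

theorem V_conj' {n : ℕ} {a : G} (ha : a ∈ V (⊤ : Subgroup G) n) (g : G) :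
    g * a * g⁻¹ ∈ V (⊤ : Subgroup G) n := V_conj ha (mem_top g)

theorem lcs_eq (H : Subgroup G) (n : ℕ) : H.lowerCentralSeries n = closure (V H n) := by
  induction n with
  | zero =>
    rw [Subgroup.lowerCentralSeries_zero]
    exact (closure_eq H).symm
  | succ n ih =>
    rw [Subgroup.lowerCentralSeries_succ]
    apply le_antisymm
    · rw [commutator_le, ih]
      intro a ha b hb
      have hcl : closure (V H n) ≤ H := (closure_le H).2 (V_sub H n)
      have hconj : ∀ g ∈ H, ∀ y ∈ closure (V H (n + 1)), g * y * g⁻¹ ∈ closure (V H (n + 1)) := by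
        intro g hg y hy
        induction hy using closure_induction with
        | mem y hy => exact subset_closure (V_conj hy hg)
        | one => rw [mul_one, mul_inv_cancel]; exact one_mem _
        | mul y z _ _ h1 h2 =>
          have : g * (y * z) * g⁻¹ = (g * y * g⁻¹) * (g * z * g⁻¹) := by group
          rw [this]
          exact mul_mem h1 h2
        | inv y _ h1 =>
          have : g * y⁻¹ * g⁻¹ = (g * y * g⁻¹)⁻¹ := by group
          rw [this]
          exact inv_mem h1
      induction ha using closure_induction with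
      | mem a ha => exact subset_closure ⟨a, ha, b, hb, rfl⟩
      | one => rw [commutatorElement_one_left]; exact one_mem _
      | mul a a' h1 h2 h3 h4 =>
        have : ⁅a * a', b⁆ = (a * ⁅a', b⁆ * a⁻¹) * ⁅a, b⁆ := by
          rw [commutatorElement_def, commutatorElement_def, commutatorElement_def]; group
        rw [this]
        exact mul_mem (hconj a (hcl h1) _ h4) h3
      | inv a h1 h2 =>
        have : ⁅a⁻¹, b⁆ = a⁻¹ * ⁅a, b⁆⁻¹ * (a⁻¹)⁻¹ := by
          rw [commutatorElement_def, commutatorElement_def]; group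
        rw [this]
        exact hconj _ (inv_mem (hcl h1)) _ (inv_mem h2)
    · rw [closure_le]
      rintro x ⟨a, ha, b, hb, rfl⟩
      apply commutator_mem_commutator _ hb
      rw [ih]
      exact subset_closure ha

theorem fold_iff (k : ℕ) (x : G) :
    (∃ f : Fin (k + 1) → G, x = ((List.ofFn f).tail).foldl (fun a b => a * b * a⁻¹ * b⁻¹) (f 0)) ↔
      x ∈ V (⊤ : Subgroup G) k := by
  have key : ∀ (k : ℕ) (x : G),
      (∃ (c : G) (g : Fin k → G), x = (List.ofFn g).foldl (fun a b => a * b * a⁻¹ * b⁻¹) c) ↔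
        x ∈ V (⊤ : Subgroup G) k := by
    intro k
    induction k with
    | zero =>
      intro x
      constructor
      · intro _
        exact mem_top x
      · intro _
        exact ⟨x, Fin.elim0, by simp⟩
    | succ k ih =>
      intro x
      constructor
      · rintro ⟨c, g, rfl⟩
        rw [List.ofFn_succ', List.concat_eq_append, List.foldl_append]
        refine ⟨(List.ofFn fun i => g i.castSucc).foldl (fun a b => a * b * a⁻¹ * b⁻¹) c,
          (ih _).1 ⟨c, fun i => g i.castSucc, rfl⟩, g (Fin.last k), mem_top _, ?_⟩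
        rfl
      · rintro ⟨a, ha, b, -, rfl⟩
        obtain ⟨c, g, rfl⟩ := (ih _).2 ha
        refine ⟨c, Fin.snoc g b, ?_⟩
        rw [List.ofFn_succ', List.concat_eq_append, List.foldl_append]
        simp [commutatorElement_def]
  rw [← key]
  constructor
  · rintro ⟨f, rfl⟩
    refine ⟨f 0, fun i => f i.succ, ?_⟩
    rw [List.ofFn_succ]
    rfl
  · rintro ⟨c, g, rfl⟩
    refine ⟨Fin.cons c g, ?_⟩
    rw [List.ofFn_succ]
    simp

/-- the condition of the theorem -/
def PP (G : Type*) [Group G] (k : ℕ) : Prop :=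
  ∀ x ∈ V (⊤ : Subgroup G) k, ∀ y ∈ V (⊤ : Subgroup G) k, (orderOf x).Coprime (orderOf y) →
    (∀ r : ℕ, r.Prime → r ∣ orderOf x * orderOf y → r ∣ orderOf (x * y)) ∨
      orderOf x * orderOf y ≤ orderOf (x * y)

theorem PP.subgroup {k : ℕ} (h : PP G k) (H : Subgroup G) : PP ↥H k := by
  intro x hx y hy hc
  have hm : ∀ z : ↥H, z ∈ V (⊤ : Subgroup ↥H) k → (z : G) ∈ V (⊤ : Subgroup G) k := by
    intro z hz
    have h1 : (z : G) ∈ V ((⊤ : Subgroup ↥H).map H.subtype) k := by
      rw [V_map]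
      exact ⟨z, hz, rfl⟩
    exact V_mono le_top k h1
  have h2 := h x (hm x hx) y (hm y hy) (by rwa [orderOf_coe, orderOf_coe])
  rw [← Subgroup.coe_mul, orderOf_coe, orderOf_coe, orderOf_coe] at h2
  exact h2

/-- Engel trick, one step -/
theorem engel_one [Finite G] {w s : G} (hc : (orderOf ⁅w, s⁆).Coprime (orderOf s))
    (h : Commute ⁅w, s⁆ s) : ⁅w, s⁆ = 1 := by
  have h1 : ⁅w, s⁆ * s = w * s * w⁻¹ := by
    rw [commutatorElement_def]; group
  have h2 : orderOf (⁅w, s⁆ * s) = orderOf ⁅w, s⁆ * orderOf s :=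
    h.orderOf_mul_eq_mul_orderOf_of_coprime hc
  have h3 : orderOf (w * s * w⁻¹) = orderOf s := by
    have := orderOf_injective (MulAut.conj w).toMonoidHom (MulAut.conj w).injective s
    exact this
  rw [h1, h3] at h2
  have h4 : 0 < orderOf s := orderOf_pos s
  have h5 : orderOf ⁅w, s⁆ = 1 := by
    have : 1 * orderOf s = orderOf ⁅w, s⁆ * orderOf s := by rw [one_mul]; exact h2
    exact (Nat.eq_of_mul_eq_mul_right h4 this).symm
  exact orderOf_eq_one_iff.1 h5

/-- iterated commutators with `s` -/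
def it (s : G) (j : ℕ) (w : G) : G := (fun a => ⁅a, s⁆)^[j] w

theorem it_zero (s w : G) : it s 0 w = w := rfl

theorem it_succ (s w : G) (j : ℕ) : it s (j + 1) w = ⁅it s j w, s⁆ := by
  unfold it
  rw [Function.iterate_succ_apply']

theorem it_succ' (s w : G) (j : ℕ) : it s (j + 1) w = it s j ⁅w, s⁆ := by
  unfold it
  rw [Function.iterate_succ_apply]

theorem it_map {G' : Type*} [Group G'] (f : G →* G') (s w : G) (j : ℕ) :
    f (it s j w) = it (f s) j (f w) := by
  induction j with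
  | zero => rfl
  | succ j ih => rw [it_succ, it_succ, map_commutatorElement, ih]

theorem it_mem {H : Subgroup G} {s w : G} (hs : s ∈ H) (hw : w ∈ H) (j : ℕ) : it s j w ∈ V H j := by
  induction j with
  | zero => exact hw
  | succ j ih =>
    rw [it_succ]
    exact ⟨_, ih, s, hs, rfl⟩

theorem comm_mem_of_norm {Q : Subgroup G} {s : G} (hQ : ∀ q ∈ Q, s * q * s⁻¹ ∈ Q) {w : G} (hw : w ∈ Q) :
    ⁅w, s⁆ ∈ Q := by
  rw [commutatorElement_def]
  have : w * s * w⁻¹ * s⁻¹ = w * (s * w⁻¹ * s⁻¹) := by group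
  rw [this]
  exact Q.mul_mem hw (hQ _ (Q.inv_mem hw))

theorem it_mem_Q {Q : Subgroup G} {s : G} (hQ : ∀ q ∈ Q, s * q * s⁻¹ ∈ Q) {w : G} (hw : w ∈ Q) (j : ℕ) :
    it s j w ∈ Q := by
  induction j with
  | zero => exact hw
  | succ j ih =>
    rw [it_succ]
    exact comm_mem_of_norm hQ ih

/-- Engel trick -/
theorem engel [Finite G] {Q : Subgroup G} {s : G} (hQ : ∀ q ∈ Q, s * q * s⁻¹ ∈ Q)
    (hc : ∀ q ∈ Q, (orderOf q).Coprime (orderOf s)) (j : ℕ) :
    ∀ w ∈ Q, it s j w = 1 → ⁅w, s⁆ = 1 := by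
  induction j with
  | zero =>
    intro w _ h
    rw [it_zero] at h
    rw [h, commutatorElement_one_left]
  | succ j ih =>
    intro w hw h
    rw [it_succ'] at h
    have h1 := comm_mem_of_norm hQ hw
    have h2 := ih _ h1 h
    exact engel_one (hc _ h1) (commutatorElement_eq_one_iff_commute.1 h2)

/-- a `p`-element value centralises the `p'`-subgroups it normalises -/
theorem PP.L1 [Finite G] {k : ℕ} (h : PP G k) {x : G} (hx : x ∈ V (⊤ : Subgroup G) k) {Y : Subgroup G}
    (hY : ∀ q ∈ Y, x * q * x⁻¹ ∈ Y) (hc : ∀ q ∈ Y, (orderOf q).Coprime (orderOf x)) :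
    ∀ w ∈ Y, w * x = x * w := by
  intro w hw
  by_contra hne
  have h1 : ⁅w, x⁆ ≠ 1 := fun h0 => hne (commutatorElement_eq_one_iff_commute.1 h0)
  have h2 : ∀ j : ℕ, it x (j + 1) w ≠ 1 := by
    intro j h3
    exact h1 (engel hY hc (j + 1) w hw h3)
  obtain ⟨w', v, hw', hv, hvx, hv1⟩ : ∃ w' v : G, w' ∈ Y ∧ v ∈ V (⊤ : Subgroup G) k ∧ v = ⁅w', x⁆ ∧ v ≠ 1 := by
    rcases Nat.eq_zero_or_pos k with rfl | hk
    · exact ⟨w, ⁅w, x⁆, hw, mem_top _, rfl, h1⟩
    · obtain ⟨m, rfl⟩ : ∃ m, k = m + 1 := ⟨k - 1, by omega⟩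
      exact ⟨it x m w, it x (m + 1) w, it_mem_Q hY hw m, it_mem (mem_top _) (mem_top _) (m + 1),
        it_succ x w m, h2 m⟩
  have hvY : v ∈ Y := by
    rw [hvx]
    exact comm_mem_of_norm hY hw'
  have h3 : v * x = w' * x * w'⁻¹ := by
    rw [hvx, commutatorElement_def]; group
  have h4 : orderOf (v * x) = orderOf x := by
    rw [h3]
    exact orderOf_injective (MulAut.conj w').toMonoidHom (MulAut.conj w').injective x
  have h5 : 1 < orderOf v := by
    rcases Nat.lt_or_ge 1 (orderOf v) with h6 | h6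
    · exact h6
    · exact absurd (orderOf_eq_one_iff.1 (le_antisymm h6 (orderOf_pos v))) hv1
  rcases h v hv x hx (hc v hvY) with h6 | h6
  · obtain ⟨r, hr, hrv⟩ := Nat.exists_prime_and_dvd h5.ne'
    have h7 := h6 r hr (Dvd.dvd.mul_right hrv _)
    rw [h4] at h7
    exact Nat.not_coprime_of_dvd_of_dvd hr.one_lt hrv h7 (hc v hvY)
  · rw [h4] at h6
    have h7 : 0 < orderOf x := orderOf_pos x
    nlinarith

end Cfsg.Agent.H71.LcsVal
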