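import Mathlib
import Cfsg.Agent.H32.Syl
import Cfsg.Agent.H71.Basic
import Cfsg.Agent.S0071

/-!
Groups all of whose subgroups of order divisible by `q` and prime to `p` are `q`-groups.
-/

set_option autoImplicit false
set_option linter.unusedSectionVars false

namespace Cfsg.Agent.H71.TwoMix

open Subgroup

variable {G : Type*} [Group G]

def Mix (G : Type*) [Group G] (p q : ℕ) : Prop :=
  ∀ H : Subgroup G, q ∣ Nat.card H → ¬ p ∣ Nat.card H → IsPGroup q H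

def PEl (p : ℕ) (z : G) : Prop := ∃ k : ℕ, z ^ (p ^ k) = 1

theorem PEl.zpowers {p : ℕ} {z : G} (h : PEl p z) : IsPGroup p (zpowers z) := by
  obtain ⟨k, hk⟩ := h
  rintro ⟨y, j, rfl⟩
  refine ⟨k, ?_⟩
  apply Subtype.ext
  show (z ^ j) ^ (p ^ k) = 1
  rw [← zpow_natCast, ← zpow_mul, mul_comm, zpow_mul, zpow_natCast, hk, one_zpow]

theorem pel_of_mem {p : ℕ} {H : Subgroup G} (hH : IsPGroup p H) {z : G} (hz : z ∈ H) : PEl p z := by
  obtain ⟨k, hk⟩ := hH ⟨z, hz⟩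
  exact ⟨k, by simpa using congrArg Subtype.val hk⟩

theorem PEl.conj {p : ℕ} {z : G} (h : PEl p z) (g : G) : PEl p (g * z * g⁻¹) := by
  obtain ⟨k, hk⟩ := h
  exact ⟨k, by rw [conj_pow, hk, mul_one, mul_inv_cancel]⟩

theorem PEl.conj' {p : ℕ} {z : G} (h : PEl p z) (g : G) : PEl p (g⁻¹ * z * g) := by
  have := h.conj g⁻¹
  rwa [inv_inv] at this

theorem PEl.pow {p : ℕ} {z : G} (h : PEl p z) (j : ℕ) : PEl p (z ^ j) := by
  obtain ⟨k, hk⟩ := h
  exact ⟨k, by rw [← pow_mul, mul_comm, pow_mul, hk, one_pow]⟩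

theorem PEl.inv {p : ℕ} {z : G} (h : PEl p z) : PEl p z⁻¹ := by
  obtain ⟨k, hk⟩ := h
  exact ⟨k, by rw [inv_pow, hk, inv_one]⟩

theorem PEl.eq_one {p : ℕ} {z : G} (h : PEl p z) {n : ℕ} (hn : z ^ n = 1) (hc : p.Coprime n) : z = 1 := by
  obtain ⟨k, hk⟩ := h
  have h1 : orderOf z ∣ p ^ k := orderOf_dvd_of_pow_eq_one hk
  have h2 : orderOf z ∣ n := orderOf_dvd_of_pow_eq_one hn
  have h3 : (p ^ k).Coprime n := Nat.Coprime.pow_left k hc
  have h4 : orderOf z ∣ 1 := by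
    rw [← h3]
    exact Nat.dvd_gcd h1 h2
  exact orderOf_eq_one_iff.1 (Nat.dvd_one.1 h4)

theorem pel_of_order_prime {p : ℕ} {z : G} (h : orderOf z = p) : PEl p z :=
  ⟨1, by rw [pow_one, ← h, pow_orderOf_eq_one]⟩

theorem PEl.dvd {p : ℕ} (hp : p.Prime) {z : G} (h : PEl p z) {r : ℕ} (hr : r.Prime)
    (hrz : r ∣ orderOf z) : r = p := by
  obtain ⟨k, hk⟩ := h
  have h1 : orderOf z ∣ p ^ k := orderOf_dvd_of_pow_eq_one hk
  exact (Nat.prime_dvd_prime_iff_eq hr hp).1 (hr.dvd_of_dvd_pow (hrz.trans h1))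

theorem PEl.p_dvd {p : ℕ} (hp : p.Prime) {z : G} (h : PEl p z) (hz : z ≠ 1) : p ∣ orderOf z := by
  have h1 : orderOf z ≠ 1 := fun h => hz (orderOf_eq_one_iff.1 h)
  obtain ⟨r, hr, hrz⟩ := Nat.exists_prime_and_dvd h1
  rwa [← h.dvd hp hr hrz]

theorem mem_norm [Finite G] {R : Subgroup G} {m : G} (h : ∀ x ∈ R, m * x * m⁻¹ ∈ R) :
    m ∈ normalizer (R : Set G) := by
  have h1 : R.map (MulAut.conj m).toMonoidHom = R := by
    apply Subgroup.eq_of_le_of_card_ge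
    · rintro _ ⟨x, hx, rfl⟩
      exact h x hx
    · rw [H32.card_map_conj]
  rw [mem_normalizer_iff]
  intro x
  constructor
  · exact h x
  · intro hx
    have h2 : m * x * m⁻¹ ∈ R.map (MulAut.conj m).toMonoidHom := by
      rw [h1]; exact hx
    rw [H32.mem_map_conj] at h2
    have h3 : m⁻¹ * (m * x * m⁻¹) * m = x := by group
    rwa [h3] at h2

theorem isPGroup_of_primes [Finite G] {p : ℕ} {K : Subgroup G}
    (h : ∀ r : ℕ, r.Prime → r ∣ Nat.card K → r = p) : IsPGroup p K :=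
  IsPGroup.of_card (Nat.eq_prime_pow_of_unique_prime_dvd Nat.card_pos.ne' (fun {d} => h d))

theorem eq_bot_of_two_primes [Finite G] {q r : ℕ} (hq : q.Prime) (hr : r.Prime) (hrq : r ≠ q)
    {X : Subgroup G} (h1 : IsPGroup r X) (h2 : IsPGroup q X) : X = ⊥ := by
  haveI : Fact q.Prime := ⟨hq⟩
  haveI : Fact r.Prime := ⟨hr⟩
  obtain ⟨a, ha⟩ := h1.exists_card_eq
  obtain ⟨b, hb⟩ := h2.exists_card_eq
  apply Subgroup.eq_bot_of_card_eq
  have h3 : (r ^ a).Coprime (q ^ b) := Nat.Coprime.pow _ _ ((Nat.coprime_primes hr hq).2 hrq)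
  rw [← ha, ← hb, Nat.coprime_self] at h3
  exact h3

theorem prime_dvd_of_isPGroup [Finite G] {r s : ℕ} (hr : r.Prime) (hs : s.Prime) {X : Subgroup G} (hX : IsPGroup r X)
    (h : s ∣ Nat.card X) : s = r := by
  haveI : Fact r.Prime := ⟨hr⟩
  obtain ⟨a, ha⟩ := hX.exists_card_eq
  rw [ha] at h
  exact (Nat.prime_dvd_prime_iff_eq hs hr).1 (hs.dvd_of_dvd_pow h)

theorem dvd_card_of_isPGroup [Finite G] {r : ℕ} (hr : r.Prime) {X : Subgroup G} (hX : IsPGroup r X)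
    (h : X ≠ ⊥) : r ∣ Nat.card X := by
  haveI : Fact r.Prime := ⟨hr⟩
  obtain ⟨a, ha⟩ := hX.exists_card_eq
  rw [ha]
  apply dvd_pow_self
  rintro rfl
  exact h (Subgroup.eq_bot_of_card_eq _ (by simpa using ha))

/-- the basic mixing lemma -/
theorem pair [Finite G] {p q r : ℕ} (hp : p.Prime) (hq : q.Prime) (hr : r.Prime) (hpq : p ≠ q)
    (hrp : r ≠ p) (hrq : r ≠ q) (hM : Mix G p q) {X Y : Subgroup G} (hX : IsPGroup r X)
    (hY : IsPGroup q Y) (hY1 : Y ≠ ⊥)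
    (h : X ≤ normalizer (Y : Set G) ∨ Y ≤ normalizer (X : Set G)) : X = ⊥ := by
  have hcard : Nat.card (X ⊔ Y : Subgroup G) ∣ Nat.card X * Nat.card Y := by
    rcases h with h | h
    · have h1 := H32.card_sup_mul_card_inf h
      rw [sup_comm, mul_comm (Nat.card X), ← h1]
      exact dvd_mul_right _ _
    · have h1 := H32.card_sup_mul_card_inf h
      rw [← h1]
      exact dvd_mul_right _ _
  have h1 : q ∣ Nat.card (X ⊔ Y : Subgroup G) :=
    (dvd_card_of_isPGroup hq hY hY1).trans (Subgroup.card_dvd_of_le le_sup_right)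
  have h2 : ¬ p ∣ Nat.card (X ⊔ Y : Subgroup G) := by
    intro hd
    rcases hp.dvd_mul.1 (hd.trans hcard) with h | h
    · exact hrp (prime_dvd_of_isPGroup hr hp hX h).symm
    · exact hpq (prime_dvd_of_isPGroup hq hp hY h)
  have h3 : IsPGroup q X := (hM _ h1 h2).to_le le_sup_left
  exact eq_bot_of_two_primes hq hr hrq hX h3

theorem frat [Finite G] {r : ℕ} [Fact r.Prime] {R N : Subgroup G} (hRN : R ≤ N) (hR : IsPGroup r R)
    (hi : ¬ r ∣ R.relIndex N) {g : G} (hg : g ∈ normalizer (N : Set G)) :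
    ∃ n ∈ N, n * g ∈ normalizer (R : Set G) := by
  have h1 : R.map (MulAut.conj g).toMonoidHom ≤ N := by
    rintro _ ⟨x, hx, rfl⟩
    exact (mem_normalizer_iff.1 hg x).1 (hRN hx)
  obtain ⟨n, hn, hn2⟩ := H32.exists_conj_le_of_not_dvd_relIndex hRN hR hi h1 (hR.map _)
  refine ⟨n, hn, mem_norm fun x hx => ?_⟩
  have h2 := hn2 _ ⟨x, hx, rfl⟩
  have h3 : n * g * x * (n * g)⁻¹ = n * (MulAut.conj g) x * n⁻¹ := by
    rw [MulAut.conj_apply]; group
  rw [h3]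
  exact h2

theorem exists_two_part (m : G) [Finite G] (q : ℕ) (hq : q.Prime) :
    ∃ b : ℕ, q.Coprime b ∧ PEl q (m ^ b) := by
  obtain ⟨a, b, hb, hab⟩ := Nat.exists_eq_pow_mul_and_not_dvd (orderOf_pos m).ne' q hq.ne_one
  refine ⟨b, (Nat.Prime.coprime_iff_not_dvd hq).2 hb, a, ?_⟩
  rw [← pow_mul, mul_comm, ← hab, pow_orderOf_eq_one]

theorem inv_conj_pow {m y : G} (h : m * y * m⁻¹ = y⁻¹) {b : ℕ} (hb : ¬ 2 ∣ b) :
    m ^ b * y * (m ^ b)⁻¹ = y⁻¹ := by
  have h2 : m ^ 2 * y * (m ^ 2)⁻¹ = y := by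
    have : m ^ 2 * y * (m ^ 2)⁻¹ = m * (m * y * m⁻¹) * m⁻¹ := by
      rw [sq, mul_inv_rev]; group
    rw [this, h]
    have h3 : m * y⁻¹ * m⁻¹ = (m * y * m⁻¹)⁻¹ := by group
    rw [h3, h, inv_inv]
  have h3 : ∀ c : ℕ, (m ^ 2) ^ c * y * ((m ^ 2) ^ c)⁻¹ = y := by
    intro c
    have h4 : m ^ 2 * y = y * m ^ 2 := by
      calc m ^ 2 * y = m ^ 2 * y * (m ^ 2)⁻¹ * m ^ 2 := by group
        _ = y * m ^ 2 := by rw [h2]
    have h5 : Commute (m ^ 2) y := h4
    rw [(h5.pow_left c).eq, mul_inv_cancel_right]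
  obtain ⟨c, hc⟩ : ∃ c, b = 2 * c + 1 := by
    exact ⟨b / 2, by omega⟩
  rw [hc, pow_succ', pow_mul]
  have : m * (m ^ 2) ^ c * y * (m * (m ^ 2) ^ c)⁻¹ = m * ((m ^ 2) ^ c * y * ((m ^ 2) ^ c)⁻¹) * m⁻¹ := by group
  rw [this, h3, h]

theorem norm_cent_of_inv {u y : G} (hu : u * y * u⁻¹ = y⁻¹) :
    u ∈ normalizer (centralizer ({y} : Set G) : Set G) := by
  have key : ∀ {x : G}, x ∈ centralizer ({y} : Set G) ↔ u * x * u⁻¹ ∈ centralizer ({y} : Set G) := by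
    intro x
    rw [mem_centralizer_singleton_iff, mem_centralizer_singleton_iff]
    have hu' : u⁻¹ * y * u = y⁻¹ := by
      have : u⁻¹ * y * u = (u⁻¹ * (u * y * u⁻¹) * u)⁻¹ := by rw [hu]; group
      rw [this]; group
    constructor
    · intro h
      have h1 : u * x * u⁻¹ * y = u * (x * (u⁻¹ * y * u)) * u⁻¹ := by group
      have h2 : y * (u * x * u⁻¹) = u * ((u⁻¹ * y * u) * x) * u⁻¹ := by group
      rw [h1, h2, hu']
      have h3 : x * y⁻¹ = y⁻¹ * x := by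
        have : Commute x y := h
        exact this.inv_right.eq
      rw [h3]
    · intro h
      have h1 : x * y = (u⁻¹ * ((u * x * u⁻¹) * (u * y * u⁻¹)) * u) := by group
      have h2 : y * x = (u⁻¹ * ((u * y * u⁻¹) * (u * x * u⁻¹)) * u) := by group
      rw [h1, h2, hu]
      have h3 : u * x * u⁻¹ * y⁻¹ = y⁻¹ * (u * x * u⁻¹) := by
        have : Commute (u * x * u⁻¹) y := h
        exact this.inv_right.eq
      rw [h3]
  rw [mem_normalizer_iff]
  intro x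
  exact key

theorem inv_norm [Finite G] {y u : G} (hu : u * y * u⁻¹ = y⁻¹) {r : ℕ} [Fact r.Prime] {R : Subgroup G}
    (hRC : R ≤ centralizer ({y} : Set G)) (hR : IsPGroup r R)
    (hi : ¬ r ∣ R.relIndex (centralizer ({y} : Set G))) :
    ∃ v : G, PEl 2 v ∧ v * y * v⁻¹ = y⁻¹ ∧ v ∈ normalizer (R : Set G) := by
  obtain ⟨n, hn, hm⟩ := frat hRC hR hi (norm_cent_of_inv hu)
  have h1 : (n * u) * y * (n * u)⁻¹ = y⁻¹ := by
    have h2 : (n * u) * y * (n * u)⁻¹ = n * (u * y * u⁻¹) * n⁻¹ := by group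
    rw [h2, hu]
    rw [mem_centralizer_singleton_iff] at hn
    have h3 : Commute n y := hn
    rw [h3.inv_right.eq, mul_inv_cancel_right]
  obtain ⟨b, hb, hb2⟩ := exists_two_part (n * u) 2 Nat.prime_two
  refine ⟨(n * u) ^ b, hb2, inv_conj_pow h1 ?_, pow_mem hm b⟩
  exact (Nat.Prime.coprime_iff_not_dvd Nat.prime_two).1 hb

theorem mul_pow_mem {K : Subgroup G} {n t : G} (hn : n ∈ K) (ht : t ∈ normalizer (K : Set G)) (b : ℕ) :
    (n * t) ^ b * (t ^ b)⁻¹ ∈ K := by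
  induction b with
  | zero => simp [one_mem]
  | succ b ih =>
    have h1 : (n * t) ^ (b + 1) * (t ^ (b + 1))⁻¹
        = n * (t * ((n * t) ^ b * (t ^ b)⁻¹) * t⁻¹) := by
      rw [pow_succ', pow_succ']
      group
    rw [h1]
    exact mul_mem hn ((mem_normalizer_iff.1 ht _).1 ih)

theorem prime_of_norm [Finite G] {p q : ℕ} (hp : p.Prime) (hq : q.Prime) (hpq : p ≠ q) (hM : Mix G p q)
    {K : Subgroup G} (hqK : ¬ q ∣ Nat.card K) {t : G} (ht : PEl q t) (ht1 : t ≠ 1)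
    (htK : t ∈ normalizer (K : Set G)) : IsPGroup p K := by
  apply isPGroup_of_primes
  intro r hr hrK
  by_contra hrp
  haveI : Fact r.Prime := ⟨hr⟩
  haveI : Fact q.Prime := ⟨hq⟩
  have hrq : r ≠ q := by rintro rfl; exact hqK hrK
  obtain ⟨R, -, hRK, hR, hi⟩ := H32.exists_relSylow (p := r) (P := ⊥) (K := K) bot_le IsPGroup.of_bot
  obtain ⟨n, hn, hm⟩ := frat hRK hR hi htK
  have hRne : R ≠ ⊥ := by
    rintro rfl
    rw [Subgroup.relIndex_bot_left] at hi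
    exact hi hrK
  have hqm : q ∣ orderOf (n * t) := by
    by_contra hnd
    have h1 : q.Coprime (orderOf (n * t)) := (Nat.Prime.coprime_iff_not_dvd hq).2 hnd
    have h2 := mul_pow_mem hn htK (orderOf (n * t))
    rw [pow_orderOf_eq_one, one_mul] at h2
    have h3 : t ^ orderOf (n * t) ∈ K := by
      have := inv_mem h2
      rwa [inv_inv] at this
    have h4 : (t ^ orderOf (n * t)) ^ Nat.card K = 1 := by
      exact congrArg Subtype.val (pow_card_eq_one' (x := (⟨t ^ orderOf (n * t), h3⟩ : K)))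
    have h5 : t ^ orderOf (n * t) = 1 :=
      (ht.pow _).eq_one h4 ((Nat.Prime.coprime_iff_not_dvd hq).2 hqK)
    exact ht1 (ht.eq_one h5 h1)
  obtain ⟨y, hy, hyq⟩ : ∃ y : G, y ∈ normalizer (R : Set G) ∧ orderOf y = q := by
    refine ⟨(n * t) ^ (orderOf (n * t) / q), pow_mem hm _, ?_⟩
    exact orderOf_pow_orderOf_div (orderOf_pos _).ne' hqm
  refine hRne (pair hp hq hr hpq hrp hrq hM hR (pel_of_order_prime hyq).zpowers ?_ (Or.inr ?_))
  · rw [Ne, zpowers_eq_bot]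
    rintro rfl
    rw [orderOf_one] at hyq
    exact hq.ne_one hyq.symm
  · rw [zpowers_le]; exact hy

/-- a `p`-element normalising a small subgroup -/
theorem act [Finite G] {p : ℕ} (hp : p.Prime) {z : G} (hz : PEl p z) {T : Subgroup G}
    (hzT : z ∈ normalizer (T : Set G)) {w : G} (hw : w ∈ T) (hzw : z * w ≠ w * z) :
    p + 1 ≤ Nat.card T ∧ (Nat.card T = p + 1 → ∀ s ∈ T, s ≠ 1 → ∃ j : ℤ, z ^ j * w * (z ^ j)⁻¹ = s) := by
  haveI : Fact p.Prime := ⟨hp⟩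
  letI : MulAction (zpowers z) G :=
    MulAction.compHom G ((MulAut.conj : G →* MulAut G).comp (zpowers z).subtype)
  have hsmul : ∀ (g : zpowers z) (x : G), g • x = (g : G) * x * (g : G)⁻¹ := fun g x => rfl
  obtain ⟨n, hn⟩ := hz.zpowers.card_orbit w
  have hsub : MulAction.orbit (zpowers z) w ⊆ (T : Set G) \ {1} := by
    rintro _ ⟨g, rfl⟩
    refine ⟨?_, ?_⟩
    · show (g : G) * w * (g : G)⁻¹ ∈ T
      have : (g : G) ∈ normalizer (T : Set G) := (zpowers_le.2 hzT) g.2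
      exact (mem_normalizer_iff.1 this _).1 hw
    · intro h
      have h1 : (g : G) * w * (g : G)⁻¹ = 1 := h
      have h2 : w = 1 := by
        have : w = (g : G)⁻¹ * ((g : G) * w * (g : G)⁻¹) * (g : G) := by group
        rw [this, h1]; group
      exact hzw (by rw [h2, mul_one, one_mul])
  have hn0 : n ≠ 0 := by
    rintro rfl
    rw [pow_zero] at hn
    have h1 := (Nat.card_eq_one_iff_unique.1 hn).1
    have h2 : (⟨z * w * z⁻¹, ⟨⟨z, mem_zpowers z⟩, rfl⟩⟩ : MulAction.orbit (zpowers z) w)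
        = ⟨w, MulAction.mem_orbit_self w⟩ := h1.elim _ _
    have h3 : z * w * z⁻¹ = w := congrArg Subtype.val h2
    apply hzw
    calc z * w = z * w * z⁻¹ * z := by group
      _ = w * z := by rw [h3]
  have hcard : ((T : Set G) \ {1}).ncard = Nat.card T - 1 := by
    rw [Set.ncard_diff_singleton_of_mem (one_mem T)]
    rfl
  have h1 : Nat.card (MulAction.orbit (zpowers z) w) = (MulAction.orbit (zpowers z) w).ncard := rfl
  have h2 := Set.ncard_le_ncard hsub (Set.toFinite _)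
  rw [hcard, ← h1, hn] at h2
  have h3 : p ≤ p ^ n := Nat.le_self_pow hn0 p
  have h4 : 0 < Nat.card T := Nat.card_pos
  have h5 : 0 < p := hp.pos
  refine ⟨by omega, fun hT s hs hs1 => ?_⟩
  have h6 : MulAction.orbit (zpowers z) w = (T : Set G) \ {1} := by
    apply Set.eq_of_subset_of_ncard_le hsub
    rw [hcard, ← h1, hn]
    omega
  have h7 : s ∈ MulAction.orbit (zpowers z) w := by
    rw [h6]; exact ⟨hs, hs1⟩
  obtain ⟨⟨g, j, rfl⟩, hg⟩ := h7
  exact ⟨j, hg⟩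

/-- Frobenius' theorem inside a subgroup -/
theorem compl [Finite G] {q : ℕ} [Fact q.Prime] {Y T : Subgroup G} (hTY : T ≤ Y) (hT : IsPGroup q T)
    (hi : ¬ q ∣ T.relIndex Y)
    (hc : ∀ T0 : Subgroup G, T0 ≤ T → ∀ g ∈ Y, g ∈ normalizer (T0 : Set G) → Nat.Coprime (orderOf g) q →
      ∀ s ∈ T0, g * s = s * g) :
    ∃ K : Subgroup G, K ≤ Y ∧ Y ≤ normalizer (K : Set G) ∧ ¬ q ∣ Nat.card K ∧
      ∀ z ∈ Y, ∃ k ∈ K, ∃ s ∈ T, z = k * s := by
  have h1 : IsPGroup q (T.subgroupOf Y) := hT.comap_subtype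
  obtain ⟨T', hT'⟩ : ∃ T' : Sylow q Y, (T' : Subgroup Y) = T.subgroupOf Y :=
    ⟨h1.toSylow (by rwa [Subgroup.relIndex] at hi), rfl⟩
  obtain ⟨N, hN, hNc⟩ := (S0071.result T').2 (by
    intro Q hQ g hg hcop
    rw [mem_centralizer_iff]
    intro s hs
    have h2 : (Q.map Y.subtype) ≤ T := by
      rintro _ ⟨x, hx, rfl⟩
      have := hQ hx
      rw [hT'] at this
      exact this
    have h3 := hc (Q.map Y.subtype) h2 g g.2 (by
      apply mem_norm
      rintro _ ⟨x, hx, rfl⟩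
      exact ⟨g * x * g⁻¹, (mem_normalizer_iff.1 hg x).1 hx, rfl⟩)
      (by rwa [Subgroup.orderOf_coe]) s ⟨s, hs, rfl⟩
    exact Subtype.ext h3.symm)
  refine ⟨N.map Y.subtype, Subgroup.map_subtype_le _, ?_, ?_, ?_⟩
  · intro y hy
    apply mem_norm
    rintro _ ⟨x, hx, rfl⟩
    exact ⟨⟨y, hy⟩ * x * ⟨y, hy⟩⁻¹, hN.conj_mem x hx _, rfl⟩
  · rw [Subgroup.card_map_of_injective Y.subtype_injective]
    intro hd
    have h5 : ¬ q ∣ (T' : Subgroup Y).index := T'.not_dvd_index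
    rw [hNc.index_eq_card] at h5
    exact h5 hd
  · intro z hz
    have h4 : (⟨z, hz⟩ : Y) ∈ N ⊔ (T' : Subgroup Y) := by
      rw [hNc.sup_eq_top]; exact mem_top _
    haveI := hN
    rw [Subgroup.mem_sup_of_normal_left] at h4
    obtain ⟨k, hk, s, hs, hks⟩ := h4
    refine ⟨k, ⟨k, hk, rfl⟩, s, ?_, ?_⟩
    · rw [hT'] at hs; exact hs
    · have := congrArg Subtype.val hks
      exact this.symm

end Cfsg.Agent.H71.TwoMix
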