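import Cfsg.Agent.H71.LcsVal1
import Cfsg.Agent.H71.TwoMix1
import Cfsg.Agent.Solv.Core

/-! Commutator values: `p`-elements in a group with nilpotent term of the lower central series. -/

set_option autoImplicit false
set_option linter.unusedSectionVars false
set_option linter.style.haveILetI false

namespace Cfsg.Agent.H71.LcsVal

open Subgroup
open scoped commutatorElement
open Cfsg.Agent.H71.TwoMix (PEl)

universe u

theorem pel_map {X Y : Type*} [Group X] [Group Y] {p : ℕ} {z : X} (h : PEl p z) (f : X →* Y) : PEl p (f z) := by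
  obtain ⟨k, hk⟩ := h
  exact ⟨k, by rw [← map_pow, hk, map_one]⟩

theorem mem_pCore_of_nilpotent {X : Type*} [Group X] [Finite X] (hX : Group.IsNilpotent X) {r : ℕ}
    [Fact r.Prime] {x : X} (hx : PEl r x) : x ∈ Cfsg.pCore r X := by
  obtain ⟨P, hP⟩ := (hx.zpowers).exists_le_sylow
  have h0 : ∀ (p : ℕ) (_hp : Fact p.Prime) (P : Sylow p X), (P : Subgroup X).Normal :=
    (Group.isNilpotent_of_finite_tfae (G := X)).out 0 3 |>.mp hX
  have h1 : (P : Subgroup X).Normal := h0 r inferInstance P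
  exact Solv.le_pCore h1 P.isPGroup' (hP (mem_zpowers x))

theorem mem_pCore_of_quot {X : Type*} [Group X] [Finite X] {r : ℕ} [Fact r.Prime] (K : Subgroup X) [K.Normal]
    (hK : IsPGroup r K) (hn : Group.IsNilpotent (X ⧸ K)) {x : X} (hx : PEl r x) : x ∈ Cfsg.pCore r X := by
  have h1 : IsPGroup r ↥((Cfsg.pCore r (X ⧸ K)).comap (QuotientGroup.mk' K)) := by
    apply (Solv.pCore_isPGroup r).comap_of_ker_isPGroup
    rw [QuotientGroup.ker_mk']
    exact hK
  have h2 : ((Cfsg.pCore r (X ⧸ K)).comap (QuotientGroup.mk' K)).Normal := by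
    haveI : (Cfsg.pCore r (X ⧸ K)).Normal := inferInstance
    infer_instance
  apply Solv.le_pCore h2 h1
  rw [mem_comap]
  exact mem_pCore_of_nilpotent hn (pel_map hx _)

theorem lcs_map_top {X Y : Type*} [Group X] [Group Y] (f : X →* Y) (hf : Function.Surjective f) (k : ℕ) :
    ((⊤ : Subgroup X).lowerCentralSeries k).map f = (⊤ : Subgroup Y).lowerCentralSeries k := by
  rw [Subgroup.map_lowerCentralSeries, ← MonoidHom.range_eq_map, MonoidHom.range_eq_top.2 hf]

theorem quot_lcs_nilpotent {X : Type*} [Group X] (k : ℕ) :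
    Group.IsNilpotent (X ⧸ (⊤ : Subgroup X).lowerCentralSeries k) := by
  rw [Subgroup.nilpotent_iff_lowerCentralSeries]
  refine ⟨k, ?_⟩
  rw [← lcs_map_top (QuotientGroup.mk' _) (QuotientGroup.mk'_surjective _) k]
  rw [eq_bot_iff]
  rintro _ ⟨x, hx, rfl⟩
  rw [mem_bot]
  exact (QuotientGroup.eq_one_iff x).2 hx

theorem nil_map {X Y : Type*} [Group X] [Group Y] (f : X →* Y) {K : Subgroup X}
    (hK : Group.IsNilpotent K) : Group.IsNilpotent (K.map f) := by
  haveI := hK
  exact Group.nilpotent_of_surjective (f.subgroupMap K) (f.subgroupMap_surjective K)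

/-- if the term `K` is nilpotent and there is no normal `r'`-subgroup then `K` is an `r`-group -/
theorem pgroup_of_core {Q : Type*} [Group Q] [Finite Q] {r : ℕ} [hr : Fact r.Prime]
    (hY : Cfsg.pPrimeCore r Q = ⊥) {K : Subgroup Q} [K.Normal] (hK : Group.IsNilpotent K) : IsPGroup r K := by
  apply TwoMix.isPGroup_of_primes
  intro s hs hsK
  by_contra hne
  haveI : Fact s.Prime := ⟨hs⟩
  obtain ⟨z, hz⟩ := exists_prime_orderOf_dvd_card' s hsK
  have h1 : z ∈ Cfsg.pCore s ↥K := mem_pCore_of_nilpotent hK (TwoMix.pel_of_order_prime hz)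
  have h2 : (z : Q) ∈ Cfsg.pCore s Q := Solv.map_subtype_pCore_le s K ⟨z, h1, rfl⟩
  have h3 : Cfsg.pCore s Q ≤ Cfsg.pPrimeCore r Q := by
    apply Solv.le_pPrimeCore inferInstance
    obtain ⟨n, hn⟩ := (IsPGroup.iff_card.1 (Solv.pCore_isPGroup (G := Q) s))
    rw [hn]
    exact Nat.Coprime.pow_left n ((Nat.coprime_primes hs hr.out).2 hne)
  have h4 : (z : Q) = 1 := by
    have := h3 h2
    rw [hY] at this
    exact mem_bot.1 this
  have h5 : z = 1 := Subtype.ext h4
  rw [h5, orderOf_one] at hz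
  exact hs.one_lt.ne hz

/-- in a group with nilpotent `k`-th term, `K` is an `r`-group modulo the `r'`-core -/
theorem pow_mem_core {X : Type*} [Group X] [Finite X] {r : ℕ} [hr : Fact r.Prime] {k : ℕ}
    (hK : Group.IsNilpotent ((⊤ : Subgroup X).lowerCentralSeries k)) :
    IsPGroup r ((⊤ : Subgroup (X ⧸ Cfsg.pPrimeCore r X)).lowerCentralSeries k) := by
  apply pgroup_of_core (Solv.pPrimeCore_quotient_pPrimeCore r)
  rw [← lcs_map_top (QuotientGroup.mk' (Cfsg.pPrimeCore r X)) (QuotientGroup.mk'_surjective _) k]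
  exact nil_map _ hK

theorem L3 {X : Type*} [Group X] [Finite X] {r : ℕ} [hr : Fact r.Prime] {k : ℕ}
    (hK : Group.IsNilpotent ((⊤ : Subgroup X).lowerCentralSeries k)) {x : X} (hx : PEl r x)
    (hc : ∀ y ∈ Cfsg.pPrimeCore r X, y * x = x * y) : x ∈ Cfsg.pCore r X := by
  set Y := Cfsg.pPrimeCore r X with hYdef
  haveI hYn : Y.Normal := inferInstance
  have h1 : QuotientGroup.mk' Y x ∈ Cfsg.pCore r (X ⧸ Y) :=
    mem_pCore_of_quot _ (pow_mem_core (r := r) hK) (quot_lcs_nilpotent k) (pel_map hx _)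
  set D : Subgroup X := (Cfsg.pCore r (X ⧸ Y)).comap (QuotientGroup.mk' Y) ⊓ centralizer (Y : Set X) with hD
  haveI : (Cfsg.pCore r (X ⧸ Y)).Normal := inferInstance
  haveI : (centralizer (Y : Set X)).Normal := inferInstance
  haveI hDn : D.Normal := inferInstance
  have hxD : x ∈ D := by
    refine mem_inf.2 ⟨h1, ?_⟩
    rw [mem_centralizer_iff]
    intro y hy
    exact hc y hy
  have hDnil : Group.IsNilpotent ↥D := by
    have hp : Group.IsNilpotent ↥(Cfsg.pCore r (X ⧸ Y)) := (Solv.pCore_isPGroup r).isNilpotent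
    let f : ↥D →* ↥(Cfsg.pCore r (X ⧸ Y)) :=
      ((QuotientGroup.mk' Y).comp D.subtype).codRestrict _ (fun d => (mem_inf.1 d.2).1)
    apply Subgroup.isNilpotent_of_ker_le_center f ?_
    intro d hd
    have h2 : (d : X) ∈ Y := by
      have h3 : ((f d : ↥(Cfsg.pCore r (X ⧸ Y))) : X ⧸ Y) = 1 := by
        rw [MonoidHom.mem_ker.1 hd]; rfl
      exact (QuotientGroup.eq_one_iff (d : X)).1 h3
    rw [mem_center_iff]
    intro e
    apply Subtype.ext
    exact (mem_centralizer_iff.1 (mem_inf.1 e.2).2 (d : X) h2).symm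
  have h4 : (⟨x, hxD⟩ : ↥D) ∈ Cfsg.pCore r ↥D := by
    apply mem_pCore_of_nilpotent hDnil
    obtain ⟨n, hn⟩ := hx
    exact ⟨n, Subtype.ext hn⟩
  exact Solv.map_subtype_pCore_le r D ⟨_, h4, rfl⟩

theorem pel_mem_of_sup {X : Type*} [Group X] [Finite X] {p : ℕ} {Y C : Subgroup X} [C.Normal]
    (hY : (Nat.card Y).Coprime p) {z : X} (hz : z ∈ Y ⊔ C) (hp : PEl p z) : z ∈ C := by
  obtain ⟨y, hy, c, hc, rfl⟩ := mem_sup_of_normal_right.1 hz
  rw [← QuotientGroup.eq_one_iff (N := C)]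
  have h1 : ((y * c : X) : X ⧸ C) = ((y : X) : X ⧸ C) := by
    rw [QuotientGroup.mk_mul, (QuotientGroup.eq_one_iff c).2 hc, mul_one]
  have h2 : PEl p ((y * c : X) : X ⧸ C) := pel_map hp (QuotientGroup.mk' C)
  apply h2.eq_one (n := Nat.card Y) _ hY.symm
  rw [h1, ← QuotientGroup.mk_pow]
  have h3 : y ^ Nat.card Y = 1 := by
    have := pow_card_eq_one' (x := (⟨y, hy⟩ : ↥Y))
    exact congrArg Subtype.val this
  rw [h3]; rfl

/-- a `p'`-element of the image lifts to a `p'`-element -/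
theorem lift_pprime {X Z : Type*} [Group X] [Group Z] [Finite X] [Finite Z] {p : ℕ} (hp : p.Prime)
    (f : X →* Z) {n : X} (h : (orderOf (f n)).Coprime p) :
    ∃ j : ℕ, f (n ^ j) = f n ∧ (orderOf (n ^ j)).Coprime p := by
  obtain ⟨a, b, hb, hab⟩ := Nat.exists_eq_pow_mul_and_not_dvd (orderOf_pos n).ne' p hp.ne_one
  have hcop : (p ^ a).Coprime (orderOf (f n)) := Nat.Coprime.pow_left a h.symm
  obtain ⟨c, hc⟩ : ∃ c : ℕ, p ^ a * c ≡ 1 [MOD orderOf (f n)] := by
    rcases Nat.lt_or_ge 1 (orderOf (f n)) with h1 | h1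
    · obtain ⟨c, hc⟩ := Nat.exists_mul_mod_eq_one_of_coprime hcop h1
      refine ⟨c, ?_⟩
      unfold Nat.ModEq
      rw [hc.2, Nat.mod_eq_of_lt h1]
    · have h2 : orderOf (f n) = 1 := le_antisymm h1 (orderOf_pos _)
      refine ⟨1, ?_⟩
      rw [h2]
      exact Nat.modEq_one
  refine ⟨p ^ a * c, ?_, ?_⟩
  · rw [map_pow]
    have h3 := (pow_eq_pow_iff_modEq (x := f n)).2 hc
    rw [h3, pow_one]
  · have h4 : orderOf (n ^ (p ^ a * c)) ∣ b := by
      apply orderOf_dvd_of_pow_eq_one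
      rw [← pow_mul, mul_right_comm, ← hab, pow_mul, pow_orderOf_eq_one, one_pow]
    exact Nat.Coprime.coprime_dvd_left h4 ((Nat.Prime.coprime_iff_not_dvd hp).2 hb).symm

end Cfsg.Agent.H71.LcsVal
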