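import Cfsg.Agent.S0033
import Cfsg.Agent.S0144
import Cfsg.Agent.S0016
import Cfsg.Agent.Frob.Complement
import Cfsg.Agent.H52.Nilp
import Cfsg.Agent.Solv.MinNormal
import Cfsg.Agent.H11.Act
import Mathlib.GroupTheory.Frattini
import Mathlib.GroupTheory.SpecificGroups.ZGroup

/-!
If all elements of `G` outside the non-solvable normal subgroup `N` have prime power order then
`G / N` is solvable.
-/

set_option autoImplicit false

namespace Cfsg.Agent.H71.PPO

universe u

open Subgroup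

/-! ### elementary facts -/

theorem two_primes_not_primePow {n r s : ℕ} (hn : IsPrimePow n) (hr : r.Prime) (hs : s.Prime)
    (hrn : r ∣ n) (hsn : s ∣ n) : r = s := by
  obtain ⟨p, k, hp, -, rfl⟩ := hn
  have hp' := hp.nat_prime
  rw [(Nat.prime_dvd_prime_iff_eq hr hp').1 (hr.dvd_of_dvd_pow hrn),
    (Nat.prime_dvd_prime_iff_eq hs hp').1 (hs.dvd_of_dvd_pow hsn)]

theorem order_eq_pow {n r : ℕ} (hn : IsPrimePow n) (hr : r.Prime) (hrn : r ∣ n) :
    ∃ k, 0 < k ∧ n = r ^ k := by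
  obtain ⟨p, k, hp, hk, rfl⟩ := hn
  have hp' := hp.nat_prime
  have := (Nat.prime_dvd_prime_iff_eq hr hp').1 (hr.dvd_of_dvd_pow hrn)
  exact ⟨k, hk, by rw [this]⟩

/-- the central elements of `X` of order dividing `p`. -/
def omegaZ {G : Type u} [Group G] (X : Subgroup G) (p : ℕ) : Subgroup G where
  carrier := {x | x ∈ X ∧ (∀ y ∈ X, x * y = y * x) ∧ x ^ p = 1}
  mul_mem' := by
    rintro a b ⟨h1, h2, h3⟩ ⟨h4, h5, h6⟩
    refine ⟨mul_mem h1 h4, fun y hy => ?_, ?_⟩
    · rw [mul_assoc, h5 y hy, ← mul_assoc, h2 y hy, mul_assoc]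
    · rw [(show Commute a b from h2 b h4).mul_pow, h3, h6, mul_one]
  one_mem' := ⟨X.one_mem, fun y _ => by simp, one_pow p⟩
  inv_mem' := by
    rintro a ⟨h1, h2, h3⟩
    refine ⟨inv_mem h1, fun y hy => ?_, by rw [inv_pow, h3, inv_one]⟩
    exact (show Commute a y from h2 y hy).inv_left

theorem mem_omegaZ {G : Type u} [Group G] {X : Subgroup G} {p : ℕ} {x : G} :
    x ∈ omegaZ X p ↔ x ∈ X ∧ (∀ y ∈ X, x * y = y * x) ∧ x ^ p = 1 := Iff.rfl

theorem omegaZ_conj {G : Type u} [Group G] {X : Subgroup G} {p : ℕ} {m x : G}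
    (hm : m ∈ Subgroup.normalizer (X : Set G)) (hx : x ∈ omegaZ X p) : m * x * m⁻¹ ∈ omegaZ X p := by
  obtain ⟨h1, h2, h3⟩ := hx
  refine ⟨(Subgroup.mem_normalizer_iff.1 hm x).1 h1, fun y hy => ?_, ?_⟩
  · have hy' : m⁻¹ * y * m ∈ X := by
      have := (Subgroup.mem_normalizer_iff.1 (inv_mem hm) y).1 hy
      simpa using this
    have := h2 _ hy'
    calc m * x * m⁻¹ * y = m * (x * (m⁻¹ * y * m)) * m⁻¹ := by group
      _ = m * ((m⁻¹ * y * m) * x) * m⁻¹ := by rw [this]
      _ = y * (m * x * m⁻¹) := by group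
  · rw [conj_pow, h3]; group

theorem omegaZ_ne_bot {G : Type u} [Group G] [Finite G] {X : Subgroup G} {p : ℕ} (hp : p.Prime)
    (h : p ∣ Nat.card (Subgroup.center ↥X)) : omegaZ X p ≠ ⊥ := by
  have := Fact.mk hp
  obtain ⟨x, hx⟩ := exists_prime_orderOf_dvd_card' p h
  intro hb
  have h1 : ((x : ↥X) : G) ∈ omegaZ X p := by
    refine ⟨(x : ↥X).2, fun y hy => ?_, ?_⟩
    · have := (Subgroup.mem_center_iff.1 x.2 ⟨y, hy⟩)
      exact (congrArg Subtype.val this).symm
    · have : x ^ p = 1 := by rw [← hx]; exact pow_orderOf_eq_one x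
      have h2 := congrArg (fun z : ↥(Subgroup.center ↥X) => ((z : ↥X) : G)) this
      simpa using h2
  rw [hb, Subgroup.mem_bot] at h1
  have : x = 1 := by
    apply Subtype.ext; apply Subtype.ext; simpa using h1
  rw [this, orderOf_one] at hx
  exact hp.one_lt.ne hx

theorem dvd_card_center_of_nilpotent {X : Type u} [Group X] [Finite X] (hX : Group.IsNilpotent X) {p : ℕ}
    (hp : p.Prime) (h : p ∣ Nat.card X) : p ∣ Nat.card (Subgroup.center X) := by
  have := Fact.mk hp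
  obtain ⟨P⟩ : Nonempty (Sylow p X) := inferInstance
  have hPn : (P : Subgroup X).Normal := Group.isNilpotent_of_finite_tfae.out 0 3 rfl rfl |>.mp hX p ‹_› P
  have hP1 : (P : Subgroup X) ≠ ⊥ := P.ne_bot_of_dvd_card h
  have := Solv.inf_center_ne_bot_of_nilpotent (P : Subgroup X) hP1
  have h2 : IsPGroup p ↥((P : Subgroup X) ⊓ Subgroup.center X) := P.isPGroup'.to_le inf_le_left
  have h3 : Nontrivial ↥((P : Subgroup X) ⊓ Subgroup.center X) := (Subgroup.nontrivial_iff_ne_bot _).2 this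
  obtain ⟨n, hn, hc⟩ := (IsPGroup.nontrivial_iff_card h2).1 h3
  have h4 : p ∣ Nat.card ↥((P : Subgroup X) ⊓ Subgroup.center X) := by
    rw [hc]; exact dvd_pow_self p hn.ne'
  exact h4.trans (Subgroup.card_dvd_of_le inf_le_right)

/-! ### the group theoretic construction -/

section Main

variable {G : Type u} [Group G] [Finite G]

theorem exists_min_supplement (N L : Subgroup G) (hL : L ⊔ N = ⊤) :
    ∃ M ≤ L, M ⊔ N = ⊤ ∧ ∀ M' ≤ M, M' ⊔ N = ⊤ → M' = M := by
  obtain ⟨M, ⟨h1, h2⟩, h3⟩ := WellFounded.has_min (wellFounded_lt (α := Subgroup G))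
    {M | M ≤ L ∧ M ⊔ N = ⊤} ⟨L, le_rfl, hL⟩
  refine ⟨M, h1, h2, fun M' h4 h5 => ?_⟩
  by_contra hne
  exact h3 M' ⟨h4.trans h1, h5⟩ (lt_of_le_of_ne h4 hne)

theorem nilpotent_inf {N M : Subgroup G} [N.Normal] (hM : ∀ M' ≤ M, M' ⊔ N = ⊤ → M' = M)
    (hMN : M ⊔ N = ⊤) : Group.IsNilpotent ↥(M ⊓ N) := by
  have h1 : N.subgroupOf M ≤ frattini ↥M := by
    rw [frattini, Order.radical]
    refine le_iInf₂ fun K hK => ?_
    by_contra hle
    have h2 : K ⊔ N.subgroupOf M = ⊤ := by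
      rcases hK.le_iff.1 (le_sup_left : K ≤ K ⊔ N.subgroupOf M) with h | h
      · exact h
      · exact absurd (le_sup_right.trans h.le) hle
    have h3 : K.map M.subtype ⊔ N = ⊤ := by
      rw [eq_top_iff, ← hMN]
      refine sup_le ?_ le_sup_right
      intro m hm
      have h4 : (⟨m, hm⟩ : ↥M) ∈ K ⊔ N.subgroupOf M := by rw [h2]; trivial
      rw [Subgroup.mem_sup_of_normal_right] at h4
      obtain ⟨a, ha, b, hb, hab⟩ := h4
      have h5 : m = (a : G) * (b : G) := (congrArg Subtype.val hab).symm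
      rw [h5]
      exact mul_mem (Subgroup.mem_sup_left ⟨a, ha, rfl⟩)
        (Subgroup.mem_sup_right (Subgroup.mem_subgroupOf.1 hb))
    have h4 := hM _ (Subgroup.map_subtype_le K) h3
    apply hK.1
    rw [eq_top_iff]
    intro x _
    have h5 : (x : G) ∈ K.map M.subtype := by rw [h4]; exact x.2
    obtain ⟨y, hy, hyx⟩ := h5
    have : y = x := Subtype.ext hyx
    rwa [← this]
  have h2 : Group.IsNilpotent ↥(frattini ↥M) := frattini_nilpotent (G := ↥M)
  let e : ↥(M ⊓ N) →* ↥(frattini ↥M) :=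
    { toFun := fun x => ⟨⟨x.1, (Subgroup.mem_inf.1 x.2).1⟩,
        h1 (Subgroup.mem_subgroupOf.2 (Subgroup.mem_inf.1 x.2).2)⟩
      map_one' := rfl
      map_mul' := fun _ _ => rfl }
  refine Subgroup.isNilpotent_of_ker_le_center e ?_
  intro x hx
  have h3 : x = 1 := by
    have := congrArg (fun z : ↥(frattini ↥M) => ((z : ↥M) : G)) (MonoidHom.mem_ker.1 hx)
    exact Subtype.ext this
  rw [h3]; exact one_mem _

variable {N : Subgroup G} [N.Normal]

theorem exists_lift {M : Subgroup G} (hMN : M ⊔ N = ⊤) (g : G ⧸ N) : ∃ m ∈ M, (m : G ⧸ N) = g := by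
  obtain ⟨g, rfl⟩ := QuotientGroup.mk_surjective g
  have h1 : g ∈ M ⊔ N := by rw [hMN]; trivial
  rw [Subgroup.mem_sup_of_normal_right] at h1
  obtain ⟨a, ha, b, hb, rfl⟩ := h1
  refine ⟨a, ha, ?_⟩
  rw [QuotientGroup.eq]
  simpa using hb

/-- the basic argument: coprime commuting elements inside and outside `N`. -/
theorem not_commute (hpp : ∀ x : G, x ∉ N → IsPrimePow (orderOf x)) {x v : G} (hx : x ∉ N) (hv : v ∈ N)
    (hv1 : v ≠ 1) (hxv : x * v = v * x) : ¬ (orderOf x).Coprime (orderOf v) := by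
  intro hc
  have h1 : x * v ∉ N := fun h => hx (by
    have := mul_mem h (inv_mem hv)
    simpa using this)
  have h2 : orderOf (x * v) = orderOf x * orderOf v :=
    (show Commute x v from hxv).orderOf_mul_eq_mul_orderOf_of_coprime hc
  have hx1 : orderOf x ≠ 1 := fun h => hx (by rw [orderOf_eq_one_iff.1 h]; exact one_mem _)
  have hv1' : orderOf v ≠ 1 := fun h => hv1 (orderOf_eq_one_iff.1 h)
  obtain ⟨r, hr, hrx⟩ := Nat.exists_prime_and_dvd hx1
  obtain ⟨s, hs, hsv⟩ := Nat.exists_prime_and_dvd hv1'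
  have h3 := two_primes_not_primePow (hpp _ h1) hr hs (h2 ▸ hrx.mul_right _) (h2 ▸ hsv.mul_left _)
  subst h3
  exact Nat.Prime.not_coprime_iff_dvd.2 ⟨r, hr, hrx, hsv⟩ hc

theorem main_aux (hns : ¬ Group.IsSolvable ↥N) (hpp : ∀ x : G, x ∉ N → IsPrimePow (orderOf x))
    (hGN : ¬ Group.IsSolvable (G ⧸ N)) {r : ℕ} (hr : r.Prime) :
    ∃ (M V : Subgroup G) (p : ℕ), p.Prime ∧ p ≠ r ∧ M ⊔ N = ⊤ ∧ V ≠ ⊥ ∧ V ≤ N ∧
      (∀ x ∈ V, ∀ y ∈ V, x * y = y * x) ∧ (∀ x ∈ V, x ^ p = 1) ∧
      (∀ m ∈ M, ∀ v ∈ V, m * v * m⁻¹ ∈ V) ∧ (∀ k ∈ M, k ∈ N → ∀ v ∈ V, k * v = v * k) := by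
  -- a prime `q ≠ r` dividing `|N|`
  obtain ⟨q, hq, hqr, hqN⟩ : ∃ q, q.Prime ∧ q ≠ r ∧ q ∣ Nat.card ↥N := by
    by_contra hcon
    push Not at hcon
    apply hns
    have hrf := Fact.mk hr
    have h1 : IsPGroup r ↥N := by
      rw [IsPGroup.iff_card]
      refine ⟨(Nat.card ↥N).primeFactorsList.length, ?_⟩
      refine Nat.eq_prime_pow_of_unique_prime_dvd Nat.card_pos.ne' ?_
      intro d hd hdN
      by_contra hne
      exact hcon d hd hne hdN
    have := Fact.mk hr
    have := h1.isNilpotent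
    infer_instance
  have := Fact.mk hq
  obtain ⟨Q⟩ : Nonempty (Sylow q ↥N) := inferInstance
  obtain ⟨Q', hQ'⟩ : ∃ Q' : Subgroup G, Q' = (Q : Subgroup ↥N).map N.subtype := ⟨_, rfl⟩
  have hQN : Q' ≤ N := by rw [hQ']; exact Subgroup.map_subtype_le _
  have hQp : IsPGroup q ↥Q' := by
    rw [hQ']; exact Q.isPGroup'.map _
  have hQ1 : Q' ≠ ⊥ := by
    rw [hQ', Ne, Subgroup.map_eq_bot_iff_of_injective _ N.subtype_injective]
    exact Q.ne_bot_of_dvd_card hqN
  have hQnt : Nontrivial ↥Q' := (Subgroup.nontrivial_iff_ne_bot _).2 hQ1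
  have hQc : q ∣ Nat.card (Subgroup.center ↥Q') := by
    have := hQp.center_nontrivial
    obtain ⟨n, hn, hc⟩ := (IsPGroup.nontrivial_iff_card (hQp.to_subgroup (Subgroup.center ↥Q'))).1 inferInstance
    rw [hc]; exact dvd_pow_self q hn.ne'
  have hL : Subgroup.normalizer (Q' : Set G) ⊔ N = ⊤ := by
    rw [hQ']; exact Sylow.normalizer_sup_eq_top Q
  obtain ⟨M, hML, hMN, hMmin⟩ := exists_min_supplement N _ hL
  have hKnil := nilpotent_inf hMmin hMN
  have hKnorm : ∀ m ∈ M, m ∈ Subgroup.normalizer ((M ⊓ N : Subgroup G) : Set G) := by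
    intro m hm
    rw [Subgroup.mem_normalizer_iff]
    intro x
    constructor
    · intro hx
      exact Subgroup.mem_inf.2 ⟨mul_mem (mul_mem hm (Subgroup.mem_inf.1 hx).1) (inv_mem hm),
        Subgroup.Normal.conj_mem ‹_› _ (Subgroup.mem_inf.1 hx).2 m⟩
    · intro hx
      have h1 := mul_mem (mul_mem (inv_mem hm) (Subgroup.mem_inf.1 hx).1) hm
      have h2 := Subgroup.Normal.conj_mem (H := N) ‹_› _ (Subgroup.mem_inf.1 hx).2 m⁻¹
      refine Subgroup.mem_inf.2 ⟨by simpa [mul_assoc] using h1, by simpa [mul_assoc] using h2⟩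
  -- the case where `K` centralizes `Q`
  have hcase : (∀ k ∈ M, k ∈ N → ∀ y ∈ Q', k * y = y * k) → ∃ (M V : Subgroup G) (p : ℕ), p.Prime ∧ p ≠ r ∧ M ⊔ N = ⊤ ∧ V ≠ ⊥ ∧ V ≤ N ∧
      (∀ x ∈ V, ∀ y ∈ V, x * y = y * x) ∧ (∀ x ∈ V, x ^ p = 1) ∧
      (∀ m ∈ M, ∀ v ∈ V, m * v * m⁻¹ ∈ V) ∧ (∀ k ∈ M, k ∈ N → ∀ v ∈ V, k * v = v * k) := by
    intro hK
    refine ⟨M, omegaZ Q' q, q, hq, hqr, hMN, omegaZ_ne_bot hq hQc, fun x hx => hQN hx.1,
      fun x hx y hy => hx.2.1 y hy.1, fun x hx => hx.2.2, fun m hm v hv => omegaZ_conj (hML hm) hv,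
      fun k hk hkN v hv => hK k hk hkN v hv.1⟩
  by_cases hp : ∃ p, p.Prime ∧ p ≠ r ∧ p ∣ Nat.card ↥(M ⊓ N)
  · obtain ⟨p, hp, hpr, hpK⟩ := hp
    refine ⟨M, omegaZ (M ⊓ N) p, p, hp, hpr, hMN,
      omegaZ_ne_bot hp (dvd_card_center_of_nilpotent hKnil hp hpK), fun x hx => (Subgroup.mem_inf.1 hx.1).2,
      fun x hx y hy => hx.2.1 y hy.1, fun x hx => hx.2.2, fun m hm v hv => omegaZ_conj (hKnorm m hm) hv,
      fun k hk hkN v hv => (hv.2.1 k (Subgroup.mem_inf.2 ⟨hk, hkN⟩)).symm⟩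
  · push Not at hp
    apply hcase
    -- `K` is an `r`-group
    have hrf := Fact.mk hr
    have hKr : IsPGroup r ↥(M ⊓ N) := by
      rw [IsPGroup.iff_card]
      refine ⟨(Nat.card ↥(M ⊓ N)).primeFactorsList.length, ?_⟩
      refine Nat.eq_prime_pow_of_unique_prime_dvd Nat.card_pos.ne' ?_
      intro d hd hdN
      by_contra hne
      exact hp d hd hne hdN
    -- a third prime
    obtain ⟨s, hs, hsr, hsq, hsG⟩ : ∃ s, s.Prime ∧ s ≠ r ∧ s ≠ q ∧ s ∣ Nat.card (G ⧸ N) := by
      by_contra hcon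
      push Not at hcon
      apply hGN
      have h0 : Nat.card (G ⧸ N) ≠ 0 := Nat.card_pos.ne'
      refine S0144.result r q ((Nat.card (G ⧸ N)).factorization r) ((Nat.card (G ⧸ N)).factorization q) hr hq ?_
      have h1 : (Nat.card (G ⧸ N)).primeFactors ⊆ {r, q} := by
        intro d hd
        have hd1 := Nat.prime_of_mem_primeFactors hd
        have hd2 := Nat.dvd_of_mem_primeFactors hd
        rw [Finset.mem_insert, Finset.mem_singleton]
        by_cases h : d = r
        · exact Or.inl h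
        · by_cases h' : d = q
          · exact Or.inr h'
          · exact absurd hd2 (hcon d hd1 h h')
      have h2 := Nat.prod_factorization_pow_eq_self h0
      rw [Finsupp.prod_of_support_subset _ (s := ({r, q} : Finset ℕ)) (by simpa using h1) _ (by simp)] at h2
      rw [Finset.prod_pair (Ne.symm hqr)] at h2
      exact h2.symm
    have := Fact.mk hs
    obtain ⟨g, hg⟩ := exists_prime_orderOf_dvd_card' s hsG
    obtain ⟨m, hm, hmg⟩ := exists_lift hMN g
    have hmN : m ∉ N := by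
      intro h
      have : g = 1 := by rw [← hmg]; exact (QuotientGroup.eq_one_iff m).2 h
      rw [this, orderOf_one] at hg
      exact hs.one_lt.ne hg
    have hms : m ^ s ∈ N := by
      rw [← QuotientGroup.eq_one_iff, QuotientGroup.mk_pow, hmg, ← hg]
      exact pow_orderOf_eq_one g
    obtain ⟨k, hk, hmk⟩ := order_eq_pow (hpp m hmN) hs (by
      rw [← hg, ← hmg]
      exact orderOf_map_dvd (QuotientGroup.mk' N) m)
    have hms1 : m ^ s = 1 := by
      have h1 : (⟨m ^ s, Subgroup.mem_inf.2 ⟨pow_mem hm s, hms⟩⟩ : ↥(M ⊓ N)) = 1 := by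
        obtain ⟨j, hj⟩ := hKr ⟨m ^ s, Subgroup.mem_inf.2 ⟨pow_mem hm s, hms⟩⟩
        have h2 : (m ^ s) ^ (r ^ j) = 1 := congrArg Subtype.val hj
        have h3 : (m ^ s) ^ (s ^ k) = 1 := by
          rw [← pow_mul, mul_comm, pow_mul, ← hmk, pow_orderOf_eq_one, one_pow]
        apply Subtype.ext
        have h4 := Nat.dvd_gcd (orderOf_dvd_of_pow_eq_one h2) (orderOf_dvd_of_pow_eq_one h3)
        have h5 : Nat.gcd (r ^ j) (s ^ k) = 1 :=
          Nat.Coprime.pow j k ((Nat.coprime_primes hr hs).2 (Ne.symm hsr))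
        rw [h5, Nat.dvd_one, orderOf_eq_one_iff] at h4
        exact h4
      exact congrArg Subtype.val h1
    have hm1 : m ≠ 1 := fun h => hmN (h ▸ one_mem _)
    have hmo : orderOf m = s := orderOf_eq_prime hms1 hm1
    -- the group `W = Q K`
    obtain ⟨W, hW⟩ : ∃ W : Subgroup G, W = (M ⊓ N) ⊔ Q' := ⟨_, rfl⟩
    have hKQ : (M ⊓ N : Subgroup G) ≤ Subgroup.normalizer (Q' : Set G) :=
      fun x hx => hML (Subgroup.mem_inf.1 hx).1
    have hWN : W ≤ N := by rw [hW]; exact sup_le inf_le_right hQN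
    have hWcard : ¬ s ∣ Nat.card ↥W := by
      intro hd
      have h1 := H11.card_sup_mul_card_inf hKQ
      rw [← hW] at h1
      have h2 : s ∣ Nat.card ↥(M ⊓ N) * Nat.card ↥Q' := by
        rw [← h1]; exact hd.mul_right _
      rcases hs.dvd_mul.1 h2 with h | h
      · exact hp s hs hsr h
      · obtain ⟨n, hn⟩ := (IsPGroup.iff_card).1 hQp
        rw [hn] at h
        exact hsq ((Nat.prime_dvd_prime_iff_eq hs hq).1 (hs.dvd_of_dvd_pow h))
    have hconj : ∀ g ∈ M, ∀ w ∈ W, g * w * g⁻¹ ∈ W := by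
      intro g hg w hw
      have h1 : W ≤ W.comap (MulAut.conj g).toMonoidHom := by
        conv_lhs => rw [hW]
        refine sup_le (fun x hx => ?_) (fun x hx => ?_)
        · change g * x * g⁻¹ ∈ W
          rw [hW]
          exact Subgroup.mem_sup_left ((Subgroup.mem_normalizer_iff.1 (hKnorm g hg) x).1 hx)
        · change g * x * g⁻¹ ∈ W
          rw [hW]
          exact Subgroup.mem_sup_right ((Subgroup.mem_normalizer_iff.1 (hML hg) x).1 hx)
      exact h1 hw
    have hmW : m ∈ Subgroup.normalizer (W : Set G) := by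
      rw [Subgroup.mem_normalizer_iff]
      intro w
      refine ⟨fun h => hconj m hm w h, fun h => ?_⟩
      have := hconj m⁻¹ (inv_mem hm) _ h
      simpa [mul_assoc] using this
    have hfix : ∀ w ∈ W, m * w = w * m → w = 1 := by
      intro w hw hmw
      by_contra hw1
      refine not_commute hpp hmN (hWN hw) hw1 hmw ?_
      rw [hmo]
      refine (Nat.Prime.coprime_iff_not_dvd hs).2 fun hd => hWcard (hd.trans ?_)
      rw [← Subgroup.orderOf_mk w hw]
      exact orderOf_dvd_natCard _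
    obtain ⟨φ, hφ⟩ : ∃ φ : MulAut ↥W, φ = W.normalizerMonoidHom ⟨m, hmW⟩ := ⟨_, rfl⟩
    have hφa : ∀ w : ↥W, ((φ w : ↥W) : G) = m * (w : G) * m⁻¹ := by
      intro w; rw [hφ]; rfl
    have hφs : φ ^ s = 1 := by
      rw [hφ, ← map_pow]
      have : (⟨m, hmW⟩ : ↥(Subgroup.normalizer (W : Set G))) ^ s = 1 := Subtype.ext hms1
      rw [this, map_one]
    have hφfix : ∀ w : ↥W, φ w = w → w = 1 := by
      intro w hw
      apply Subtype.ext
      refine hfix w w.2 ?_
      have h1 := hφa w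
      rw [hw] at h1
      exact mul_inv_eq_iff_eq_mul.1 h1.symm
    have hφ1 : φ ≠ 1 := by
      intro h
      apply hQ1
      rw [eq_bot_iff]
      intro x hx
      have hxW : x ∈ W := by rw [hW]; exact Subgroup.mem_sup_right hx
      have := hφfix ⟨x, hxW⟩ (by rw [h]; rfl)
      exact congrArg Subtype.val this
    have hφo : orderOf φ = s := orderOf_eq_prime hφs hφ1
    have hWnil : Group.IsNilpotent ↥W := S0033.result (φ : ↥W ≃* ↥W) (fun w hw => hφfix w hw) s hs hφo
    intro k hk hkN y hy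
    have hkW : k ∈ W := by rw [hW]; exact Subgroup.mem_sup_left (Subgroup.mem_inf.2 ⟨hk, hkN⟩)
    have hyW : y ∈ W := by rw [hW]; exact Subgroup.mem_sup_right hy
    have hco : (orderOf (⟨k, hkW⟩ : ↥W)).Coprime (orderOf (⟨y, hyW⟩ : ↥W)) := by
      rw [Subgroup.orderOf_mk, Subgroup.orderOf_mk]
      obtain ⟨a, ha⟩ := (IsPGroup.iff_orderOf.1 hKr) ⟨k, Subgroup.mem_inf.2 ⟨hk, hkN⟩⟩
      obtain ⟨b, hb⟩ := (IsPGroup.iff_orderOf.1 hQp) ⟨y, hy⟩
      rw [Subgroup.orderOf_mk] at ha hb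
      rw [ha, hb]
      exact Nat.Coprime.pow a b ((Nat.coprime_primes hr hq).2 (Ne.symm hqr))
    exact congrArg Subtype.val (H52.commute_of_isNilpotent_of_coprime hWnil hco)

/-- the form of the construction used below: `G / N` acts. -/
theorem main (hns : ¬ Group.IsSolvable ↥N) (hpp : ∀ x : G, x ∉ N → IsPrimePow (orderOf x))
    (hGN : ¬ Group.IsSolvable (G ⧸ N)) {r : ℕ} (hr : r.Prime) :
    ∃ (V : Type u) (_ : CommGroup V) (_ : Finite V) (_ : Nontrivial V) (p : ℕ) (ψ : (G ⧸ N) →* MulAut V),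
      p.Prime ∧ p ≠ r ∧ (∀ v : V, v ^ p = 1) ∧
      (∀ x : G ⧸ N, x ≠ 1 → ¬ p ∣ orderOf x → ∀ v, ψ x v = v → v = 1) := by
  obtain ⟨M, V, p, hp, hpr, hMN, hV1, hVN, hVc, hVp, hMV, hKV⟩ := main_aux hns hpp hGN hr
  have hMn : M ≤ Subgroup.normalizer (V : Set G) := by
    intro m hm
    rw [Subgroup.mem_normalizer_iff]
    intro w
    refine ⟨fun h => hMV m hm w h, fun h => ?_⟩
    have := hMV m⁻¹ (inv_mem hm) _ h
    simpa [mul_assoc] using this
  let φ : ↥M →* MulAut ↥V := V.normalizerMonoidHom.comp (Subgroup.inclusion hMn)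
  have hφ : ∀ (m : ↥M) (v : ↥V), ((φ m v : ↥V) : G) = (m : G) * (v : G) * (m : G)⁻¹ := fun _ _ => rfl
  let f : ↥M →* G ⧸ N := (QuotientGroup.mk' N).comp M.subtype
  have hf : Function.Surjective f := by
    intro g
    obtain ⟨m, hm, hmg⟩ := exists_lift hMN g
    exact ⟨⟨m, hm⟩, hmg⟩
  have hker : f.ker ≤ φ.ker := by
    intro m hm
    have h1 : (m : G) ∈ N := (QuotientGroup.eq_one_iff (m : G)).1 hm
    rw [MonoidHom.mem_ker]
    ext v
    rw [hφ, hKV m m.2 h1 v v.2]
    simp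
  let ψ : (G ⧸ N) →* MulAut ↥V := f.liftOfRightInverseAux (Function.surjInv hf)
    (Function.rightInverse_surjInv hf) φ hker
  have hψ : ∀ m : ↥M, ψ (f m) = φ m := fun m =>
    f.liftOfRightInverseAux_comp_apply _ (Function.rightInverse_surjInv hf) φ hker m
  let i1 : CommGroup ↥V := { (inferInstance : Group ↥V) with
    mul_comm := fun a b => Subtype.ext (hVc a a.2 b b.2) }
  refine ⟨↥V, i1, inferInstance, (Subgroup.nontrivial_iff_ne_bot _).2 hV1, p, ψ, hp, hpr,
    fun v => Subtype.ext (by simpa using hVp v v.2), ?_⟩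
  intro x hx hpx v hv
  obtain ⟨m, rfl⟩ := hf x
  rw [hψ] at hv
  by_contra hv1
  have hmN : (m : G) ∉ N := fun h => hx ((QuotientGroup.eq_one_iff (m : G)).2 h)
  have hv1' : (v : G) ≠ 1 := fun h => hv1 (Subtype.ext h)
  have hcomm : (m : G) * v = v * m := by
    have h1 := hφ m v
    rw [hv] at h1
    exact (eq_mul_inv_iff_mul_eq.1 h1).symm
  refine not_commute hpp hmN (hVN v.2) hv1' hcomm ?_
  have hpf := Fact.mk hp
  have hvo : orderOf (v : G) = p := orderOf_eq_prime (hVp v v.2) hv1'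
  rw [hvo]
  refine Nat.Coprime.symm ((Nat.Prime.coprime_iff_not_dvd hp).2 fun hd => hpx ?_)
  -- the order of `m` is a power of `p`, so is that of its image
  obtain ⟨k, hk, hmk⟩ := order_eq_pow (hpp _ hmN) hp hd
  have h1 : orderOf (f m) ∣ p ^ k := by
    rw [← hmk]; exact orderOf_map_dvd (QuotientGroup.mk' N) (m : G)
  obtain ⟨j, -, hj⟩ := (Nat.dvd_prime_pow hp).1 h1
  rw [hj]
  refine dvd_pow_self p ?_
  rintro rfl
  rw [pow_zero, orderOf_eq_one_iff] at hj
  exact hx hj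

end Main

/-! ### the conclusion -/

theorem conclusion {A : Type u} [Group A] [Finite A] (hA : ∀ x : A, x ≠ 1 → IsPrimePow (orderOf x))
    (h : ∀ r : ℕ, r.Prime → ∃ (V : Type u) (_ : CommGroup V) (_ : Finite V) (_ : Nontrivial V) (p : ℕ)
      (ψ : A →* MulAut V), p.Prime ∧ p ≠ r ∧ (∀ v : V, v ^ p = 1) ∧
      (∀ x : A, x ≠ 1 → ¬ p ∣ orderOf x → ∀ v, ψ x v = v → v = 1)) : Group.IsSolvable A := by
  by_cases h2 : 2 ∣ Nat.card A
  · obtain ⟨V, i1, i2, i3, p, ψ, hp, hp2, hVp, hfix⟩ := h 2 Nat.prime_two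
    haveI := Fact.mk Nat.prime_two
    obtain ⟨z, hz⟩ := exists_prime_orderOf_dvd_card' 2 h2
    have hz1 : z ≠ 1 := by rintro rfl; rw [orderOf_one] at hz; omega
    have hzz : z * z = 1 := by rw [← pow_two, ← hz]; exact pow_orderOf_eq_one z
    have hinv : ∀ v, ψ z v = v⁻¹ := by
      intro v
      have h1 : ψ z (v * ψ z v) = v * ψ z v := by
        rw [map_mul]
        have : ψ z (ψ z v) = v := by
          have : ψ (z * z) v = v := by rw [hzz, map_one]; rfl
          rwa [map_mul] at this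
        rw [this, mul_comm]
      have h3 := hfix z hz1 (by
        rw [hz]
        intro hd
        exact hp2 ((Nat.prime_dvd_prime_iff_eq hp Nat.prime_two).1 hd)) _ h1
      exact (inv_eq_of_mul_eq_one_right h3).symm
    have hv2 : ∀ v : V, v⁻¹ = v → v = 1 := by
      intro v hv
      have h3 : v ^ 2 = 1 := by
        rw [pow_two]; nth_rewrite 1 [← hv]; exact inv_mul_cancel v
      have h4 := Nat.dvd_gcd (orderOf_dvd_of_pow_eq_one h3) (orderOf_dvd_of_pow_eq_one (hVp v))
      rw [(Nat.coprime_primes Nat.prime_two hp).2 (Ne.symm hp2), Nat.dvd_one, orderOf_eq_one_iff] at h4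
      exact h4
    have hψz : orderOf (ψ z) = 2 := by
      refine orderOf_eq_prime ?_ ?_
      · rw [← map_pow, pow_two, hzz, map_one]
      · intro h3
        obtain ⟨v, hv⟩ := exists_ne (1 : V)
        refine hv (hv2 v ?_)
        rw [← hinv, h3]; rfl
    have hprimes : ∀ s, s.Prime → s ∣ Nat.card A → s = 2 ∨ s = p := by
      intro s hs hsA
      by_contra hcon
      push Not at hcon
      obtain ⟨hs2, hsp⟩ := hcon
      haveI := Fact.mk hs
      obtain ⟨y, hy⟩ := exists_prime_orderOf_dvd_card' s hsA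
      have hy1 : y ≠ 1 := by rintro rfl; rw [orderOf_one] at hy; exact hs.one_lt.ne hy
      have hψy : orderOf (ψ y) = s := by
        refine orderOf_eq_prime ?_ ?_
        · rw [← map_pow, ← hy, pow_orderOf_eq_one, map_one]
        · intro h3
          obtain ⟨v, hv⟩ := exists_ne (1 : V)
          refine hv (hfix y hy1 (by
            rw [hy]
            intro hd
            exact hsp ((Nat.prime_dvd_prime_iff_eq hp hs).1 hd).symm) v (by rw [h3]; rfl))
      have hcomm : Commute (ψ z) (ψ y) := by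
        change ψ z * ψ y = ψ y * ψ z
        ext v
        change ψ z (ψ y v) = ψ y (ψ z v)
        rw [hinv, hinv, map_inv]
      have h5 : orderOf (ψ (z * y)) = 2 * s := by
        rw [map_mul, hcomm.orderOf_mul_eq_mul_orderOf_of_coprime, hψz, hψy]
        rw [hψz, hψy]
        exact (Nat.coprime_primes Nat.prime_two hs).2 (Ne.symm hs2)
      have h6 : 2 * s ∣ orderOf (z * y) := by rw [← h5]; exact orderOf_map_dvd ψ (z * y)
      have h7 : z * y ≠ 1 := by
        intro h8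
        rw [h8, map_one, orderOf_one] at h5
        omega
      exact hs2 (two_primes_not_primePow (hA _ h7) Nat.prime_two hs ((dvd_mul_right 2 s).trans h6)
        ((dvd_mul_left s 2).trans h6)).symm
    have h0 : Nat.card A ≠ 0 := Nat.card_pos.ne'
    refine S0144.result 2 p ((Nat.card A).factorization 2) ((Nat.card A).factorization p) Nat.prime_two hp ?_
    have h1 : (Nat.card A).primeFactors ⊆ {2, p} := by
      intro d hd
      rw [Finset.mem_insert, Finset.mem_singleton]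
      exact hprimes d (Nat.prime_of_mem_primeFactors hd) (Nat.dvd_of_mem_primeFactors hd)
    have h2 := Nat.prod_factorization_pow_eq_self h0
    rw [Finsupp.prod_of_support_subset _ (s := ({2, p} : Finset ℕ)) (by simpa using h1) _ (by simp)] at h2
    rw [Finset.prod_pair (Ne.symm hp2)] at h2
    exact h2.symm
  · have hZ : IsZGroup A := by
      constructor
      intro r hr R
      have hrf := Fact.mk hr
      obtain ⟨V, i1, i2, i3, p, ψ, hp, hpr, hVp, hfix⟩ := h r hr
      have hM : Frob.HasFPFModule ↥(R : Subgroup A) := by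
        refine ⟨V, i1, i2, i3, ψ.comp (R : Subgroup A).subtype, ?_⟩
        intro a ha v hv
        refine hfix a (fun h => ha (Subtype.ext h)) ?_ v hv
        intro hd
        obtain ⟨n, hn⟩ := (IsPGroup.iff_orderOf.1 R.isPGroup') a
        have h3 : orderOf (a : A) = r ^ n := by
          rw [← hn]; exact Subgroup.orderOf_coe a
        rw [h3] at hd
        exact hpr ((Nat.prime_dvd_prime_iff_eq hp hr).1 (hp.dvd_of_dvd_pow hd))
      have h2' := hM.unique_subgroup_of_isPGroup (p := r) R.isPGroup'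
      rcases Cfsg.Agent.S0016.result r R.isPGroup' h2' with h | ⟨h3, h4⟩
      · exact h
      · subst h3
        have h5 : Nat.card (R : Subgroup A) = 1 := by
          rw [R.card_eq_multiplicity, Nat.factorization_eq_zero_of_not_dvd h2, pow_zero]
        have : Subsingleton (R : Subgroup A) := (Nat.card_eq_one_iff_unique.mp h5).1
        exact isCyclic_of_subsingleton
    infer_instance

theorem solvable_quotient {G : Type u} [Group G] [Finite G] (N : Subgroup G) [N.Normal]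
    (hns : ¬ Group.IsSolvable ↥N) (h : ∀ x : G, x ∉ N → IsPrimePow (orderOf x)) :
    Group.IsSolvable (G ⧸ N) := by
  by_contra hGN
  refine hGN (conclusion ?_ (fun r hr => main hns h hGN hr))
  intro x hx
  obtain ⟨g, rfl⟩ := QuotientGroup.mk_surjective x
  have hg : g ∉ N := fun h => hx ((QuotientGroup.eq_one_iff g).2 h)
  have h1 : orderOf (g : G ⧸ N) ∣ orderOf g := orderOf_map_dvd (QuotientGroup.mk' N) g
  obtain ⟨p, k, hp, hk, hpk⟩ := h g hg
  rw [← hpk] at h1
  obtain ⟨j, -, hj⟩ := (Nat.dvd_prime_pow hp.nat_prime).1 h1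
  rw [hj]
  have hj0 : j ≠ 0 := by
    rintro rfl
    rw [pow_zero, orderOf_eq_one_iff] at hj
    exact hx hj
  exact ⟨p, j, hp, Nat.pos_of_ne_zero hj0, rfl⟩

end Cfsg.Agent.H71.PPO
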