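import Mathlib
import Cfsg.Agent.H91.GenCent
import Cfsg.Agent.Frob.Aut
import Cfsg.Agent.H63.PG
import Cfsg.Agent.H71.Pronormal2

/-!
Splitting automorphisms of prime order / Hughes subgroup (S4249): coprime action tools.
-/

set_option autoImplicit false
set_option linter.style.haveILetI false
set_option linter.unusedSimpArgs false

namespace Cfsg.Agent.H71.Split

open Subgroup Cfsg

/-- Generation by fixed points of a noncyclic abelian group acting coprimely, action form. -/
theorem gen_action {E W : Type*} [Group E] [Finite E] [Group W] [Finite W] (f : E →* MulAut W)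
    (hcomm : ∀ a b : E, a * b = b * a) (hcyc : ¬ IsCyclic E)
    (hcop : (Nat.card E).Coprime (Nat.card W)) (L : Subgroup W)
    (h : ∀ e : E, e ≠ 1 → ∀ w : W, f e w = w → w ∈ L) : L = ⊤ := by
  let Y := W ⋊[f] E
  let A : Subgroup Y := (SemidirectProduct.inr : E →* Y).range
  let K : Subgroup Y := (SemidirectProduct.inl : W →* Y).range
  haveI : Finite Y := Finite.of_equiv _ SemidirectProduct.equivProd.symm
  haveI hAc : IsMulCommutative A := ⟨⟨by
    rintro ⟨_, a, rfl⟩ ⟨_, b, rfl⟩
    apply Subtype.ext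
    change SemidirectProduct.inr a * SemidirectProduct.inr b = SemidirectProduct.inr b * SemidirectProduct.inr a
    rw [← map_mul, hcomm, map_mul]⟩⟩
  have eA : E ≃* A := MonoidHom.ofInjective SemidirectProduct.inr_injective
  have eK : W ≃* K := MonoidHom.ofInjective SemidirectProduct.inl_injective
  have hA : ¬ IsCyclic A := fun hA => hcyc (eA.isCyclic.mpr hA)
  have hKn : K.Normal := by
    change ((SemidirectProduct.inl : W →* Y).range).Normal
    rw [SemidirectProduct.range_inl_eq_ker_rightHom]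
    infer_instance
  have hAK : A ≤ normalizer (K : Set Y) := by
    rw [normalizer_eq_top]; exact le_top
  have hc : (Nat.card A).Coprime (Nat.card K) := by
    rw [← Nat.card_congr eA.toEquiv, ← Nat.card_congr eK.toEquiv]; exact hcop
  have hgen := H91.genCent_eq A K hA hAK hc
  have hle : K ≤ L.map (SemidirectProduct.inl : W →* Y) := by
    rw [← hgen]
    refine iSup₂_le ?_
    rintro _ ⟨⟨e, rfl⟩, ha1⟩ x hx
    obtain ⟨⟨w, rfl⟩, hx2⟩ := Subgroup.mem_inf.mp hx
    rw [mem_centralizer_singleton_iff] at hx2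
    refine ⟨w, h e ?_ w ?_, rfl⟩
    · rintro rfl
      exact ha1 (map_one _)
    · apply SemidirectProduct.inl_injective (φ := f)
      rw [SemidirectProduct.inl_aut, map_inv, ← hx2, mul_assoc, mul_inv_cancel, mul_one]
  rw [eq_top_iff]
  intro w _
  obtain ⟨w', hw', he⟩ := hle ⟨w, rfl⟩
  rwa [← SemidirectProduct.inl_injective he]

/-- `z` central of order `p`, `t` of order `p` outside `⟨z⟩` in a group acting coprimely. -/
theorem gen_pair {T W : Type*} [Group T] [Finite T] [Group W] [Finite W] {p : ℕ} [hp : Fact p.Prime]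
    (hW : (Nat.card W).Coprime p) (f : T →* MulAut W) {z t : T} (hz : z ∈ center T) (hz1 : z ≠ 1)
    (hzp : z ^ p = 1) (htp : t ^ p = 1) (htz : t ∉ zpowers z) (L : Subgroup W)
    (h : ∀ i j : ℤ, z ^ i * t ^ j ≠ 1 → ∀ w : W, f (z ^ i * t ^ j) w = w → w ∈ L) : L = ⊤ := by
  have hzn : (zpowers z).Normal := by
    constructor
    rintro _ ⟨i, rfl⟩ g
    have h1 : g * z ^ i = z ^ i * g := ((show Commute g z from mem_center_iff.mp hz g).zpow_right i).eq
    change g * z ^ i * g⁻¹ ∈ zpowers z
    rw [h1, mul_assoc, mul_inv_cancel, mul_one]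
    exact ⟨i, rfl⟩
  let E := zpowers z ⊔ zpowers t
  have hE : ∀ e ∈ E, ∃ i j : ℤ, e = z ^ i * t ^ j := by
    intro e he
    obtain ⟨a, ⟨i, rfl⟩, b, ⟨j, rfl⟩, rfl⟩ := mem_sup_of_normal_left.mp he
    exact ⟨i, j, rfl⟩
  have hzt : Commute z t := (mem_center_iff.mp hz t).symm
  have hcomm : ∀ a b : E, a * b = b * a := by
    rintro ⟨a, ha⟩ ⟨b, hb⟩
    obtain ⟨i, j, rfl⟩ := hE a ha
    obtain ⟨k, l, rfl⟩ := hE b hb
    apply Subtype.ext
    change z ^ i * t ^ j * (z ^ k * t ^ l) = z ^ k * t ^ l * (z ^ i * t ^ j)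
    have h1 : Commute (z ^ i * t ^ j) (z ^ k * t ^ l) :=
      ((((Commute.refl z).zpow_zpow i k).mul_right (hzt.zpow_zpow i l)).mul_left
        (((hzt.symm).zpow_zpow j k).mul_right ((Commute.refl t).zpow_zpow j l)))
    exact h1.eq
  have hexp : ∀ a : E, a ^ p = 1 := by
    rintro ⟨a, ha⟩
    obtain ⟨i, j, rfl⟩ := hE a ha
    apply Subtype.ext
    change (z ^ i * t ^ j) ^ p = 1
    rw [(hzt.zpow_zpow i j).mul_pow, ← zpow_natCast, ← zpow_natCast, ← zpow_mul, ← zpow_mul,
      mul_comm i, mul_comm j, zpow_mul, zpow_mul, zpow_natCast, zpow_natCast, hzp, htp, one_zpow,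
      one_zpow, one_mul]
  have hPE : IsPGroup p E := fun a => ⟨1, by rw [pow_one]; exact hexp a⟩
  have hcyc : ¬ IsCyclic E := by
    intro hc
    obtain ⟨g, hg⟩ := hc.exists_generator
    have h1 : Nat.card E = orderOf g := (orderOf_eq_card_of_forall_mem_zpowers hg).symm
    have h2 : orderOf g ∣ p := orderOf_dvd_of_pow_eq_one (hexp g)
    have h3 : orderOf z = p := orderOf_eq_prime hzp hz1
    have h4 : zpowers z = E := by
      apply eq_of_le_of_card_ge le_sup_left
      rw [Nat.card_zpowers, h3, h1]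
      exact Nat.le_of_dvd hp.out.pos h2
    apply htz
    rw [h4]
    exact mem_sup_right (mem_zpowers t)
  have hcop : (Nat.card E).Coprime (Nat.card W) := by
    obtain ⟨n, hn⟩ := IsPGroup.iff_card.mp hPE
    rw [hn]
    exact Nat.Coprime.pow_left _ hW.symm
  apply gen_action (f.comp E.subtype) hcomm hcyc hcop L
  rintro ⟨e, he⟩ he1 w hw
  obtain ⟨i, j, rfl⟩ := hE e he
  exact h i j (fun h1 => he1 (Subtype.ext h1)) w hw

theorem mem_zpowers_zpow {T : Type*} [Group T] {p : ℕ} [hp : Fact p.Prime] {x : T} (hx : x ^ p = 1)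
    {j : ℤ} (hj : x ^ j ≠ 1) : x ∈ zpowers (x ^ j) := by
  have hx1 : x ≠ 1 := by rintro rfl; exact hj (one_zpow j)
  have h1 : orderOf x = p := orderOf_eq_prime hx hx1
  have h2 : orderOf (x ^ j) = p := orderOf_eq_prime (by
    rw [← zpow_natCast, ← zpow_mul, mul_comm, zpow_mul, zpow_natCast, hx, one_zpow]) hj
  have hfin : Finite (zpowers x) := by
    apply Set.Finite.to_subtype
    rw [finite_zpowers, ← orderOf_pos_iff, h1]
    exact hp.out.pos
  have hle : zpowers (x ^ j) ≤ zpowers x := by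
    rw [zpowers_le]; exact ⟨j, rfl⟩
  have h3 : zpowers (x ^ j) = zpowers x :=
    eq_of_le_of_card_ge hle (by rw [Nat.card_zpowers, Nat.card_zpowers, h1, h2])
  rw [h3]
  exact mem_zpowers x

/-- the subgroup of fixed points of an automorphism -/
def fixS {W : Type*} [Group W] (σ : MulAut W) : Subgroup W where
  carrier := {w | σ w = w}
  one_mem' := map_one _
  mul_mem' := fun {a b} ha hb => by
    change σ (a * b) = a * b
    rw [map_mul, ha, hb]
  inv_mem' := fun {a} ha => by
    change σ a⁻¹ = a⁻¹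
    rw [map_inv, ha]

theorem zpow_apply_eq {W : Type*} [Group W] {σ : MulAut W} {w : W} (h : σ w = w) (k : ℤ) :
    (σ ^ k) w = w := by
  have h1 : σ ∈ MulAction.stabilizer (MulAut W) w := h
  exact zpow_mem h1 k

/-- a `p`-group acting faithfully and coprimely on `W ≠ 1` in which all elements outside the
proper normal subgroup `T₀` have order `p` and act without fixed points. -/
theorem index_faithful {T W : Type*} [Group T] [Finite T] [Group W] [Finite W] [Nontrivial W] {p : ℕ}
    [hp : Fact p.Prime] (hT : IsPGroup p T) (hW : (Nat.card W).Coprime p) (f : T →* MulAut W)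
    (hf : Function.Injective f) (T₀ : Subgroup T) [hn : T₀.Normal] (hT₀ : T₀ ≠ ⊤)
    (h : ∀ t : T, t ∉ T₀ → t ^ p = 1 ∧ ∀ w, f t w = w → w = 1) : T₀ = ⊥ ∧ Nat.card T = p := by
  obtain ⟨t, ht⟩ : ∃ t : T, t ∉ T₀ := by
    by_contra hcon
    push Not at hcon
    exact hT₀ (eq_top_iff.mpr fun x _ => hcon x)
  have h1 : T₀ = ⊥ := by
    by_contra hne
    have h2 := H63.inf_center_ne_bot hT T₀ hne
    have h3 : p ∣ Nat.card (T₀ ⊓ center T : Subgroup T) := by
      rcases (hT.to_subgroup (T₀ ⊓ center T)).card_eq_or_dvd with h | h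
      · exact absurd (Subgroup.card_eq_one.1 h) h2
      · exact h
    obtain ⟨⟨z, hz⟩, hzo⟩ := exists_prime_orderOf_dvd_card' p h3
    rw [Subgroup.orderOf_mk] at hzo
    obtain ⟨hzT, hzc⟩ := Subgroup.mem_inf.mp hz
    have hz1 : z ≠ 1 := by
      rintro rfl
      rw [orderOf_one] at hzo
      exact hp.out.one_lt.ne hzo
    have hzp : z ^ p = 1 := by rw [← hzo]; exact pow_orderOf_eq_one z
    obtain ⟨htp, htf⟩ := h t ht
    have htz : t ∉ zpowers z := fun h' => ht ((zpowers_le.mpr hzT) h')
    have hL := gen_pair hW f hzc hz1 hzp htp htz (fixS (f z)) (by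
      intro i j hij w hw
      by_cases hj : t ^ j = 1
      · rw [hj, mul_one] at hij hw
        obtain ⟨k, hk⟩ := mem_zpowers_zpow hzp hij
        have hk' : (z ^ i) ^ k = z := hk
        have h4 := zpow_apply_eq hw k
        rw [← map_zpow, hk'] at h4
        exact h4
      · have h5 : z ^ i * t ^ j ∉ T₀ := by
          intro h6
          have h7 : t ^ j ∈ T₀ := (mul_mem_cancel_left (zpow_mem hzT i)).mp h6
          exact ht ((zpowers_le.mpr h7) (mem_zpowers_zpow htp hj))
        rw [(h _ h5).2 w hw]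
        exact one_mem _)
    apply hz1
    apply hf
    rw [map_one]
    ext w
    have : w ∈ fixS (f z) := by rw [hL]; trivial
    exact this
  subst h1
  refine ⟨rfl, ?_⟩
  haveI : Nontrivial T := ⟨⟨t, 1, fun h => ht (by rw [h]; exact one_mem _)⟩⟩
  haveI := hT.center_nontrivial
  obtain ⟨⟨z, hz⟩, hz1⟩ := exists_ne (1 : center T)
  have hz1' : z ≠ 1 := fun h => hz1 (Subtype.ext h)
  have hzp := (h z (by rwa [mem_bot])).1
  have hall : ∀ t : T, t ∈ zpowers z := by
    intro t
    by_contra htz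
    have ht1 : t ∉ (⊥ : Subgroup T) := by
      rw [mem_bot]; rintro rfl; exact htz (one_mem _)
    have := gen_pair hW f hz hz1' hzp (h t ht1).1 htz ⊥ (by
      intro i j hij w hw
      rw [mem_bot]
      exact (h _ (by rwa [mem_bot])).2 w hw)
    exact bot_ne_top this
  rw [← orderOf_eq_prime hzp hz1']
  exact (orderOf_eq_card_of_forall_mem_zpowers hall).symm

/-- the non-faithful version -/
theorem index_action {T W : Type*} [Group T] [Finite T] [Group W] [Finite W] [Nontrivial W] {p : ℕ}
    [hp : Fact p.Prime] (hT : IsPGroup p T) (hW : (Nat.card W).Coprime p) (f : T →* MulAut W)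
    (T₀ : Subgroup T) [hn : T₀.Normal] (hT₀ : T₀ ≠ ⊤)
    (h : ∀ t : T, t ∉ T₀ → t ^ p = 1 ∧ ∀ w, f t w = w → w = 1) : T₀ ≤ f.ker ∧ T₀.index = p := by
  have hker : f.ker ≤ T₀ := by
    intro t ht
    by_contra htT
    obtain ⟨w, hw⟩ := exists_ne (1 : W)
    apply hw
    apply (h t htT).2
    rw [MonoidHom.mem_ker.mp ht]
    rfl
  have hn' : (T₀.map f.rangeRestrict).Normal := hn.map _ f.rangeRestrict_surjective
  have hcomap : (T₀.map f.rangeRestrict).comap f.rangeRestrict = T₀ := by
    rw [comap_map_eq, MonoidHom.ker_rangeRestrict, sup_eq_left.mpr hker]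
  have hne : T₀.map f.rangeRestrict ≠ ⊤ := by
    intro h1
    apply hT₀
    rw [← hcomap, h1, comap_top]
  have hR := index_faithful (hT.of_surjective f.rangeRestrict f.rangeRestrict_surjective) hW f.range.subtype f.range.subtype_injective
    (T₀.map f.rangeRestrict) hne (by
      rintro ⟨_, t, rfl⟩ ht
      have ht' : t ∉ T₀ := fun h1 => ht ⟨t, h1, rfl⟩
      obtain ⟨h1, h2⟩ := h t ht'
      refine ⟨Subtype.ext ?_, h2⟩
      change (f t) ^ p = 1
      rw [← map_pow, h1, map_one])
  obtain ⟨h1, h2⟩ := hR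
  constructor
  · intro t ht
    have h3 : f.rangeRestrict t ∈ T₀.map f.rangeRestrict := ⟨t, ht, rfl⟩
    rw [h1, mem_bot] at h3
    rw [MonoidHom.mem_ker]
    exact congrArg Subtype.val h3
  · rw [← hcomap, index_comap_of_surjective _ f.rangeRestrict_surjective, h1, index_bot, h2]

/-- norm version of `Frob.trivial_action_of_fpf_aut` -/
theorem trivial_action_of_norm {S V : Type*} [Group S] [CommGroup V] [Finite S] [Finite V] (c : S →* MulAut V) (f : MulAut V)
    (σ : MulAut S) (hc : ∀ s v, f (c s v) = c (σ s) (f v)) {p : ℕ} (hp : p.Prime)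
    (hnorm : ∀ v, ∏ j ∈ Finset.range p, (f ^ j) v = 1) (hσ : ∀ s, (σ ^ p) s = s)
    (hσ1 : ∀ s, σ s = s → s = 1) (hcop : (Nat.card S).Coprime (Nat.card V)) (s : S) (v : V) :
    c s v = v := by
  classical
  have : Fintype S := Fintype.ofFinite S
  have hcj : ∀ (j : ℕ) (s : S) (v : V), (f ^ j) (c s v) = c ((σ ^ j) s) ((f ^ j) v) := by
    intro j
    induction j with
    | zero => intro s v; rfl
    | succ j ih =>
      intro s v
      rw [pow_succ' f, pow_succ' σ]
      change f ((f ^ j) (c s v)) = c (σ ((σ ^ j) s)) (f ((f ^ j) v))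
      rw [ih, hc]
  -- the norm of `S`
  let T : V → V := fun w => ∏ t : S, c t w
  have hT : ∀ w (s : S), c s (T w) = T w := by
    intro w s
    simp only [T]
    rw [map_prod]
    have : ∀ t, c s (c t w) = c (s * t) w := by intro t; rw [map_mul]; rfl
    simp_rw [this]
    exact Fintype.prod_equiv (Equiv.mulLeft s) _ _ (fun b => rfl)
  -- the double product
  have hdouble : ∀ w : V, ∏ s : S, ∏ j ∈ Finset.range p, c (s * ((σ ^ j) s)⁻¹) ((f ^ j) w) = 1 := by
    intro w
    apply Finset.prod_eq_one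
    intro s _
    have h1 : ∀ j, c (s * ((σ ^ j) s)⁻¹) ((f ^ j) w) = c s ((f ^ j) (c s⁻¹ w)) := by
      intro j
      rw [hcj, map_inv (σ ^ j), map_mul]; rfl
    simp_rw [h1]
    rw [← map_prod, hnorm, map_one]
  have hpow : ∀ w : V, w ^ Fintype.card S * ∏ j ∈ Finset.Ico 1 p, T ((f ^ j) w) = 1 := by
    intro w
    rw [← hdouble w]
    conv_rhs => rw [Finset.prod_comm]
    have hp0 : Finset.range p = insert 0 (Finset.Ico 1 p) := by
      ext j
      simp only [Finset.mem_range, Finset.mem_insert, Finset.mem_Ico]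
      have := hp.pos
      omega
    rw [hp0, Finset.prod_insert (by simp)]
    congr 1
    · simp
    · apply Finset.prod_congr rfl
      intro j hj
      rw [Finset.mem_Ico] at hj
      simp only [T]
      have hinj : Function.Injective (fun s : S => s * ((σ ^ j) s)⁻¹) := by
        intro a b hab
        simp only at hab
        have h1 : (σ ^ j) (b⁻¹ * a) = b⁻¹ * a := by
          rw [map_mul, map_inv]
          calc ((σ ^ j) b)⁻¹ * (σ ^ j) a = b⁻¹ * (b * ((σ ^ j) b)⁻¹) * (σ ^ j) a := by group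
            _ = b⁻¹ * (a * ((σ ^ j) a)⁻¹) * (σ ^ j) a := by rw [hab]
            _ = b⁻¹ * a := by group
        have h3 := Frob.pow_fpf hp hσ hσ1 (by omega) hj.2 h1
        exact (inv_mul_eq_one.mp h3).symm
      exact (Fintype.prod_bijective _ (Finite.injective_iff_bijective.mp hinj)
        (fun s => c (s * ((σ ^ j) s)⁻¹) ((f ^ j) w)) (fun t => c t ((f ^ j) w)) (fun s => rfl)).symm
  have hfix : c s (v ^ Fintype.card S) = v ^ Fintype.card S := by
    have h1 : v ^ Fintype.card S = (∏ j ∈ Finset.Ico 1 p, T ((f ^ j) v))⁻¹ :=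
      eq_inv_of_mul_eq_one_left (hpow v)
    rw [h1, map_inv, map_prod]
    simp_rw [hT]
  -- `v` is a power of `v ^ |S|`
  have h2 : (c s v) ^ Fintype.card S = v ^ Fintype.card S := by rw [← map_pow]; exact hfix
  have h3 : Function.Injective (fun w : V => w ^ Fintype.card S) := by
    have := (powCoprime (G := V) (n := Fintype.card S)
      (by rw [← Nat.card_eq_fintype_card]; exact hcop.symm)).injective
    exact this
  exact h3 h2

/-- the product formula for `(v t) ^ n` -/
theorem mul_pow_eq {X : Type*} [Group X] {V : Subgroup X} [V.Normal] [IsMulCommutative V] (t : X)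
    (v : V) (n : ℕ) : letI : CommGroup V := { (inferInstance : Group V) with mul_comm := mul_comm' }
    ((v : X) * t) ^ n = ((∏ j ∈ Finset.range n, ((MulAut.conjNormal t : MulAut V) ^ j) v : V) : X) * t ^ n := by
  letI : CommGroup V := { (inferInstance : Group V) with mul_comm := mul_comm' }
  induction n with
  | zero => simp
  | succ n ih =>
    rw [Finset.prod_range_succ, pow_succ, ih, ← map_pow]
    change _ = (_ * (t ^ n * v * (t ^ n)⁻¹)) * t ^ (n + 1)
    rw [pow_succ]
    group

section Hughes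

variable {X : Type*} [Group X] [Finite X] {p : ℕ} [hp : Fact p.Prime] {H : Subgroup X} [hH : H.Normal]

omit [Finite X] hp hH in
theorem fpf_of_not_mem (hsp : ∀ x : X, x ∉ H → x ^ p = 1) {t : X} (ht : t ∉ H) {w : X} (hw : w ∈ H)
    (hwp : (orderOf w).Coprime p) (htw : t * w * t⁻¹ = w) : w = 1 := by
  have h1 : Commute t w := by
    have : t * w = w * t := by
      calc t * w = t * w * t⁻¹ * t := by group
        _ = w * t := by rw [htw]
    exact this
  have h2 : (t * w) ^ p = 1 := hsp _ (fun h => ht ((mul_mem_cancel_right hw).mp h))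
  rw [h1.mul_pow, hsp t ht, one_mul] at h2
  have h3 : orderOf w ∣ p := orderOf_dvd_of_pow_eq_one h2
  rw [← orderOf_eq_one_iff]
  exact Nat.Coprime.eq_one_of_dvd hwp h3

/-- `p'`-subgroups of `H` normalized by an element outside `H` centralize abelian normal
`p`-subgroups of `X` inside `H`. -/
theorem commute_of_norm (hsp : ∀ x : X, x ∉ H → x ^ p = 1) {V : Subgroup X} [V.Normal]
    [IsMulCommutative V] (hVH : V ≤ H) (hVp : IsPGroup p V) {S : Subgroup X} (hSH : S ≤ H)
    (hS : (Nat.card S).Coprime p) {t : X} (ht : t ∉ H) (htS : t ∈ normalizer (S : Set X))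
    {s v : X} (hs : s ∈ S) (hv : v ∈ V) : s * v = v * s := by
  letI : CommGroup V := { (inferInstance : Group V) with mul_comm := mul_comm' }
  obtain ⟨n, hn⟩ := IsPGroup.iff_card.mp hVp
  have hcop : (Nat.card S).Coprime (Nat.card V) := by
    rw [hn]; exact Nat.Coprime.pow_right _ hS
  have htp := hsp t ht
  have h1 := trivial_action_of_norm (p := p) ((MulAut.conjNormal : X →* MulAut V).comp S.subtype)
    (MulAut.conjNormal t) (S.normalizerMonoidHom ⟨t, htS⟩)
    (by
      intro s v
      apply Subtype.ext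
      change t * ((s : X) * v * (s : X)⁻¹) * t⁻¹ = (t * s * t⁻¹) * (t * v * t⁻¹) * (t * s * t⁻¹)⁻¹
      group)
    hp.out
    (by
      intro v
      have h2 := mul_pow_eq t v p
      rw [htp, mul_one, hsp] at h2
      · exact Subtype.ext h2.symm
      · intro h3
        exact ht ((mul_mem_cancel_left (hVH v.2)).mp h3))
    (by
      intro s
      rw [← map_pow]
      have : (⟨t, htS⟩ : normalizer (S : Set X)) ^ p = 1 := Subtype.ext htp
      rw [this, map_one]
      rfl)
    (by
      intro s h2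
      have h3 : t * (s : X) * t⁻¹ = s := congrArg Subtype.val h2
      apply Subtype.ext
      refine fpf_of_not_mem hsp ht (hSH s.2) ?_ h3
      exact Nat.Coprime.coprime_dvd_left (S.orderOf_dvd_natCard s.2) hS)
    hcop ⟨s, hs⟩ ⟨v, hv⟩
  have h2 : s * v * s⁻¹ = v := congrArg Subtype.val h1
  calc s * v = s * v * s⁻¹ * s := by group
    _ = v * s := by rw [h2]

omit [Finite X] hH in
theorem exists_not_mem (hne : H ≠ ⊤) : ∃ t : X, t ∉ H := by
  by_contra hcon
  push Not at hcon
  exact hne (eq_top_iff.mpr fun x _ => hcon x)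

/-- Frattini: the normalizer of a Sylow subgroup of `H` is not inside `H`. -/
theorem exists_normalizes (hne : H ≠ ⊤) {q : ℕ} [Fact q.Prime] (Q : Sylow q H) :
    ∃ t : X, t ∉ H ∧ t ∈ normalizer (((Q : Subgroup H).map H.subtype : Subgroup X) : Set X) := by
  by_contra hcon
  push Not at hcon
  have h1 := Sylow.normalizer_sup_eq_top Q
  apply hne
  rw [eq_top_iff, ← h1]
  refine sup_le (fun x hx => ?_) le_rfl
  by_contra hxH
  exact hcon x hxH hx

omit [Finite X] in
theorem exists_sylow_mem {q : ℕ} [Fact q.Prime] {x : X} {k : ℕ} (hx : orderOf x = q ^ k) :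
    ∃ Q : Sylow q X, x ∈ (Q : Subgroup X) := by
  have h1 : IsPGroup q (zpowers x) := by
    refine IsPGroup.of_card (n := k) ?_
    rw [Nat.card_zpowers, hx]
  obtain ⟨Q, hQ⟩ := h1.exists_le_sylow
  exact ⟨Q, hQ (mem_zpowers x)⟩

/-- a finite group in which elements of coprime prime power orders commute is nilpotent -/
theorem isNilpotent_of_commute {K : Type*} [Group K] [Finite K]
    (h : ∀ (r s k l : ℕ) (x y : K), r.Prime → s.Prime → r ≠ s → orderOf x = r ^ k →
      orderOf y = s ^ l → x * y = y * x) : Group.IsNilpotent K := by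
  have hn : ∀ (q : ℕ) (_ : Fact q.Prime) (Q : Sylow q K), (Q : Subgroup K).Normal := by
    intro q hq Q
    rw [← normalizer_eq_top_iff]
    apply Frob.eq_top_of_sylow_le
    intro r hr
    obtain ⟨R⟩ : Nonempty (Sylow r K) := inferInstance
    by_cases hrq : r = q
    · subst hrq
      exact ⟨Q, le_normalizer⟩
    · refine ⟨R, fun x hx => centralizer_le_normalizer _ ?_⟩
      rw [mem_centralizer_iff]
      intro y hy
      obtain ⟨k, hk⟩ := R.2.exists_orderOf_eq_pow (⟨x, hx⟩ : R)
      obtain ⟨l, hl⟩ := Q.2.exists_orderOf_eq_pow (⟨y, hy⟩ : Q)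
      rw [Subgroup.orderOf_mk] at hk hl
      exact (h r q k l x y hr.out hq.out hrq hk hl).symm
  exact (Group.isNilpotent_of_finite_tfae (G := K)).out 3 0 |>.mp hn

/-- coprime prime power elements commute in a nilpotent group -/
theorem commute_of_isNilpotent {K : Type*} [Group K] [Finite K] (hK : Group.IsNilpotent K)
    {r s k l : ℕ} {x y : K} (hr : r.Prime) (hs : s.Prime) (hrs : r ≠ s) (hx : orderOf x = r ^ k)
    (hy : orderOf y = s ^ l) : x * y = y * x := by
  have hn := (Group.isNilpotent_of_finite_tfae (G := K)).out 0 3 |>.mp hK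
  haveI : Fact r.Prime := ⟨hr⟩
  haveI : Fact s.Prime := ⟨hs⟩
  obtain ⟨R, hR⟩ := exists_sylow_mem hx
  obtain ⟨S, hS⟩ := exists_sylow_mem hy
  have hRn := hn r ⟨hr⟩ R
  have hSn := hn s ⟨hs⟩ S
  have hd : Disjoint (R : Subgroup K) (S : Subgroup K) := by
    apply IsPGroup.disjoint_of_ne r s hrs _ _ R.2 S.2
  exact (commute_of_normal_of_disjoint _ _ hRn hSn hd x y hR hS).eq

omit [Finite X] hp in
theorem isPGroup_quot (hsp : ∀ x : X, x ∉ H → x ^ p = 1) : IsPGroup p (X ⧸ H) := by
  intro x
  obtain ⟨x, rfl⟩ := QuotientGroup.mk_surjective x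
  refine ⟨1, ?_⟩
  rw [pow_one, ← QuotientGroup.mk_pow, QuotientGroup.eq_one_iff]
  by_cases hx : x ∈ H
  · exact pow_mem hx p
  · rw [hsp x hx]; exact one_mem H

theorem normal_sylow_case (hsp : ∀ x : X, x ∉ H → x ^ p = 1) (hne : H ≠ ⊤) {Q : Subgroup X}
    [Q.Normal] (hQH : Q ≤ H) (hQ : (Nat.card Q).Coprime p) (hQ1 : Q ≠ ⊥) :
    (∀ x ∈ H, (∃ k, orderOf x = p ^ k) → ∀ y ∈ Q, x * y = y * x) ∧ H.index = p := by
  haveI : Nontrivial Q := (Subgroup.nontrivial_iff_ne_bot Q).mpr hQ1
  obtain ⟨m, hm⟩ := IsPGroup.iff_card.mp (isPGroup_quot hsp)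
  have hidx : H.index = p ^ m := hm
  have hdvd : p ∣ H.index := by
    rw [hidx]
    apply dvd_pow_self
    rintro rfl
    rw [pow_zero] at hidx
    exact hne (index_eq_one.mp hidx)
  have key : ∀ T : Sylow p X, (H.subgroupOf T) ≤
      ((MulAut.conjNormal : X →* MulAut Q).comp (T : Subgroup X).subtype).ker ∧
      (H.subgroupOf T).index = p := by
    intro T
    apply index_action T.2 hQ
    · intro h1
      rw [subgroupOf_eq_top] at h1
      exact (exists_sylow_le_iff H).mp ⟨T, h1⟩ hdvd
    · rintro ⟨t, htT⟩ ht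
      have ht' : t ∉ H := ht
      refine ⟨Subtype.ext (hsp t ht'), ?_⟩
      intro w hw
      apply Subtype.ext
      refine fpf_of_not_mem hsp ht' (hQH w.2) ?_ (congrArg Subtype.val hw)
      exact Nat.Coprime.coprime_dvd_left (Q.orderOf_dvd_natCard w.2) hQ
  constructor
  · rintro x hx ⟨k, hk⟩ y hy
    obtain ⟨T, hT⟩ := exists_sylow_mem hk
    have h1 := (key T).1 (show (⟨x, hT⟩ : T) ∈ H.subgroupOf T from hx)
    rw [MonoidHom.mem_ker] at h1
    have h2 : ((((MulAut.conjNormal : X →* MulAut Q).comp (T : Subgroup X).subtype) ⟨x, hT⟩)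
      (⟨y, hy⟩ : Q) : X) = y := by rw [h1]; rfl
    have h3 : x * y * x⁻¹ = y := h2
    calc x * y = x * y * x⁻¹ * x := by group
      _ = y * x := by rw [h3]
  · obtain ⟨T⟩ : Nonempty (Sylow p X) := inferInstance
    have h1 := (key T).2
    have h2 : ((T : Subgroup X) ⊔ H) = ⊤ := by
      rw [← index_eq_one]
      by_contra h3
      obtain ⟨r, hr, hrd⟩ := Nat.exists_prime_and_dvd h3
      have h4 : r ∣ H.index := hrd.trans (index_dvd_of_le le_sup_right)
      rw [hidx] at h4
      have h5 : r = p := (Nat.prime_dvd_prime_iff_eq hr hp.out).mp (hr.dvd_of_dvd_pow h4)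
      subst h5
      exact T.not_dvd_index (hrd.trans (index_dvd_of_le le_sup_left))
    have h3 : H.relIndex ((T : Subgroup X) ⊔ H) = H.relIndex T := relIndex_sup_right _ _
    rw [h2, relIndex_top_right] at h3
    rw [h3]
    exact h1

end Hughes

end Cfsg.Agent.H71.Split
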