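import Mathlib
import Cfsg.Agent.H71.Split
import Cfsg.Agent.ZJ.NPCThm
import Cfsg.Agent.ZJ.Thompson
import Cfsg.Agent.Frob.Thompson

/-!
Hughes–Thompson–Kegel: if every element outside the proper normal subgroup `H` has order `p`
then `H` is nilpotent.
-/

set_option autoImplicit false
set_option linter.style.haveILetI false
set_option linter.unusedSimpArgs false

namespace Cfsg.Agent.H71.Split

open Subgroup Cfsg

universe u

theorem thompsonNPC : Frob.ThompsonNPC.{u} :=
  fun G _ _ _ _ hq2 P h1 h2 => ZJ.hasNPC_thompson hq2 G P h1 h2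

section

variable {X : Type u} [Group X] [Finite X] {p : ℕ} [hp : Fact p.Prime] {H : Subgroup X}
  [hH : H.Normal]

/-- the case where `H` has a normal `p`-complement -/
theorem nilpotent_of_hasNPC (hne : H ≠ ⊤) (hsp : ∀ x : X, x ∉ H → x ^ p = 1)
    (h : HasNormalPComplement p H) : Group.IsNilpotent H := by
  obtain ⟨Q, K, hKn, hKQ⟩ := h
  have hmem := fun x => Transfer.mem_complement_iff Q K hKQ (x := x)
  set KX : Subgroup X := K.map H.subtype with hKX
  have hmemX : ∀ x : X, x ∈ H → ((orderOf x).Coprime p ↔ x ∈ KX) := by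
    intro x hx
    have h1 := hmem ⟨x, hx⟩
    rw [Subgroup.orderOf_mk] at h1
    rw [← h1]
    constructor
    · intro h2; exact ⟨⟨x, hx⟩, h2, rfl⟩
    · rintro ⟨⟨y, hy⟩, h2, h3⟩
      have h4 : y = x := h3
      subst h4
      exact h2
  have hKH : KX ≤ H := map_subtype_le K
  have hord : ∀ g x : X, orderOf (g * x * g⁻¹) = orderOf x := fun g x =>
    orderOf_injective (MulAut.conj g).toMonoidHom (MulAut.conj g).injective x
  haveI hKXn : KX.Normal := by
    constructor
    intro x hx g
    have hxH := hKH hx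
    rw [← hmemX _ (hH.conj_mem x hxH g), hord, hmemX _ hxH]
    exact hx
  obtain ⟨t, ht⟩ := exists_not_mem hne
  have hKnil : Group.IsNilpotent KX := by
    refine Frob.isNilpotent_of_fpf_aut thompsonNPC hp.out (Nat.card KX) KX rfl
      (MulAut.conjNormal t) ?_ ?_
    · intro g
      rw [← map_pow, hsp t ht, map_one]
      rfl
    · intro g hg
      apply Subtype.ext
      exact fpf_of_not_mem hsp ht (hKH g.2) ((hmemX _ (hKH g.2)).mpr g.2) (congrArg Subtype.val hg)
  have hcardK : (Nat.card KX).Coprime p := by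
    apply Transfer.card_coprime_of_forall
    intro x hx
    exact (hmemX _ (hKH hx)).mpr hx
  -- a `p`-element and an `s`-element commute
  have key : ∀ (s k l : ℕ) (x y : H), s.Prime → p ≠ s → orderOf x = p ^ k → orderOf y = s ^ l →
      x * y = y * x := by
    intro s k l x y hs hps hx hy
    haveI : Fact s.Prime := ⟨hs⟩
    rw [← Subgroup.orderOf_coe] at hx hy
    have hcop : (s ^ l).Coprime p := Nat.Coprime.pow_left _ ((Nat.coprime_primes hs hp.out).mpr hps.symm)
    have hyK : (y : X) ∈ KX := (hmemX _ y.2).mp (by rw [hy]; exact hcop)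
    have hy' : orderOf (⟨y, hyK⟩ : KX) = s ^ l := by rw [Subgroup.orderOf_mk]; exact hy
    obtain ⟨S, hS⟩ := exists_sylow_mem hy'
    have hall := (Group.isNilpotent_of_finite_tfae (G := KX)).out 0 3 |>.mp hKnil
    have hSn : (S : Subgroup KX).Normal := hall s ⟨hs⟩ S
    haveI hSc : (S : Subgroup KX).Characteristic := S.characteristic_of_normal hSn
    haveI : ((S : Subgroup KX).map KX.subtype).Normal := inferInstance
    by_cases hb : (S : Subgroup KX).map KX.subtype = ⊥
    · have h1 : (y : X) ∈ (S : Subgroup KX).map KX.subtype := ⟨⟨y, hyK⟩, hS, rfl⟩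
      rw [hb, mem_bot] at h1
      have h2 : y = 1 := Subtype.ext h1
      rw [h2, mul_one, one_mul]
    · have h1 := normal_sylow_case hsp hne (Q := (S : Subgroup KX).map KX.subtype)
        ((map_subtype_le _).trans hKH)
        (Nat.Coprime.coprime_dvd_left (card_dvd_of_le (map_subtype_le _)) hcardK) hb
      apply Subtype.ext
      exact h1.1 x x.2 ⟨k, hx⟩ y ⟨⟨y, hyK⟩, hS, rfl⟩
  apply isNilpotent_of_commute
  intro r s k l x y hr hs hrs hx hy
  by_cases hrp : r = p
  · subst hrp
    exact key s k l x y hs hrs hx hy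
  by_cases hsp' : s = p
  · subst hsp'
    exact (key r l k y x hr (Ne.symm hrp) hy hx).symm
  · rw [← Subgroup.orderOf_coe] at hx hy
    have hxK : (x : X) ∈ KX := (hmemX _ x.2).mp (by
      rw [hx]; exact Nat.Coprime.pow_left _ ((Nat.coprime_primes hr hp.out).mpr hrp))
    have hyK : (y : X) ∈ KX := (hmemX _ y.2).mp (by
      rw [hy]; exact Nat.Coprime.pow_left _ ((Nat.coprime_primes hs hp.out).mpr hsp'))
    have h1 := commute_of_isNilpotent hKnil (x := (⟨x, hxK⟩ : KX)) (y := ⟨y, hyK⟩) hr hs hrs
      (by rw [Subgroup.orderOf_mk]; exact hx) (by rw [Subgroup.orderOf_mk]; exact hy)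
    have h2 : (x : X) * y = y * x := congrArg Subtype.val h1
    exact Subtype.ext h2

/-- the case of a nontrivial abelian normal `p`-subgroup `V` with `H / V` nilpotent. -/
theorem nilpotent_of_quotient (hne : H ≠ ⊤) (hsp : ∀ x : X, x ∉ H → x ^ p = 1) {V : Subgroup X}
    [hVn : V.Normal] [IsMulCommutative V] (hVH : V ≤ H) (hVp : IsPGroup p V)
    (hq : Group.IsNilpotent (H.map (QuotientGroup.mk' V))) : Group.IsNilpotent H := by
  set π := QuotientGroup.mk' V with hπ
  have key : ∀ (r s k l : ℕ) (x y : H), r.Prime → s.Prime → r ≠ s → s ≠ p → orderOf x = r ^ k →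
      orderOf y = s ^ l → x * y = y * x := by
    intro r s k l x y hr hs hrs hsp' hx hy
    haveI : Fact s.Prime := ⟨hs⟩
    -- `y` centralizes `V`
    obtain ⟨S, hS⟩ := exists_sylow_mem hy
    obtain ⟨t, ht, htS⟩ := exists_normalizes hne S
    have hcopS : (Nat.card ((S : Subgroup H).map H.subtype)).Coprime p := by
      obtain ⟨m, hm⟩ := IsPGroup.iff_card.mp (S.2.map H.subtype)
      rw [hm]
      exact Nat.Coprime.pow_left _ ((Nat.coprime_primes hs hp.out).mpr hsp')
    have hyV : ∀ v ∈ V, (y : X) * v = v * y := fun v hv =>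
      commute_of_norm hsp hVH hVp (map_subtype_le _) hcopS ht htS ⟨y, hS, rfl⟩ hv
    -- `x` and `y` commute modulo `V`
    have h1 : orderOf (⟨π x, mem_map_of_mem π x.2⟩ : H.map π) ∣ r ^ k := by
      rw [Subgroup.orderOf_mk, ← hx, ← Subgroup.orderOf_coe]
      exact orderOf_map_dvd π _
    have h2 : orderOf (⟨π y, mem_map_of_mem π y.2⟩ : H.map π) ∣ s ^ l := by
      rw [Subgroup.orderOf_mk, ← hy, ← Subgroup.orderOf_coe]
      exact orderOf_map_dvd π _
    obtain ⟨k', -, hk'⟩ := (Nat.dvd_prime_pow hr).mp h1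
    obtain ⟨l', -, hl'⟩ := (Nat.dvd_prime_pow hs).mp h2
    have h3 := congrArg Subtype.val (commute_of_isNilpotent hq hr hs hrs hk' hl')
    have h4 : π ((x : X) * y) = π (y * x) := by
      rw [map_mul, map_mul]; exact h3
    -- the commutator
    obtain ⟨c, hc, hcy⟩ : ∃ c ∈ V, (x : X)⁻¹ * y * x = y * c := by
      refine ⟨(y : X)⁻¹ * (x : X)⁻¹ * y * x, ?_, by group⟩
      have h5 : ((x : X) * y)⁻¹ * (y * x) ∈ V := QuotientGroup.eq.mp h4
      have h6 : (y : X)⁻¹ * (x : X)⁻¹ * y * x = ((x : X) * y)⁻¹ * (y * x) := by group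
      rw [h6]; exact h5
    have hyc : Commute (y : X) c := hyV c hc
    have h5 : ((x : X)⁻¹ * y * x) ^ (s ^ l) = 1 := by
      have h6 : (x : X)⁻¹ * y * x = (MulAut.conj (x : X)⁻¹) y := by simp [MulAut.conj_apply]
      rw [h6, ← map_pow]
      have h7 : (y : X) ^ (s ^ l) = 1 := by
        rw [← hy, ← Subgroup.orderOf_coe]; exact pow_orderOf_eq_one _
      rw [h7, map_one]
    rw [hcy, hyc.mul_pow] at h5
    have h7 : (y : X) ^ (s ^ l) = 1 := by
      rw [← hy, ← Subgroup.orderOf_coe]; exact pow_orderOf_eq_one _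
    rw [h7, one_mul] at h5
    have h8 : c = 1 := by
      obtain ⟨m, hm⟩ := hVp.exists_orderOf_eq_pow (⟨c, hc⟩ : V)
      rw [Subgroup.orderOf_mk] at hm
      have h9 : orderOf c ∣ s ^ l := orderOf_dvd_of_pow_eq_one h5
      rw [← orderOf_eq_one_iff]
      apply Nat.Coprime.eq_one_of_dvd _ h9
      rw [hm]
      exact Nat.Coprime.pow _ _ ((Nat.coprime_primes hp.out hs).mpr hsp'.symm)
    rw [h8, mul_one] at hcy
    apply Subtype.ext
    change (x : X) * y = y * x
    calc (x : X) * y = x * ((x : X)⁻¹ * y * x) := by rw [hcy]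
      _ = y * x := by group
  apply isNilpotent_of_commute
  intro r s k l x y hr hs hrs hx hy
  by_cases hsp' : s = p
  · exact (key s r l k y x hs hr hrs.symm (fun h => hrs (h.trans hsp'.symm)) hy hx).symm
  · exact key r s k l x y hr hs hrs hsp' hx hy

end

theorem isNilpotent_main {p : ℕ} [hp : Fact p.Prime] :
    ∀ (n : ℕ) (X : Type u) [Group X] [Finite X] (H : Subgroup X), H.Normal → Nat.card X = n →
      H ≠ ⊤ → (∀ x : X, x ∉ H → x ^ p = 1) → Group.IsNilpotent H := by
  intro n
  induction n using Nat.strong_induction_on with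
  | _ n ih =>
    intro X _ _ H hH hcard hne hsp
    obtain ⟨t₀, ht₀⟩ := exists_not_mem hne
    by_cases hp2 : p = 2
    · -- every element of `H` is inverted
      subst hp2
      apply isNilpotent_of_commute
      intro r s k l x y _ _ _ _ _
      have hinv : ∀ z ∈ H, t₀ * z * t₀⁻¹ = z⁻¹ := by
        intro z hz
        have h1 := hsp (t₀ * z) (fun h => ht₀ ((mul_mem_cancel_right hz).mp h))
        have h2 := hsp t₀ ht₀
        rw [pow_two] at h1 h2
        have h3 : t₀⁻¹ = t₀ := inv_eq_of_mul_eq_one_left h2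
        rw [h3]
        calc t₀ * z * t₀ = (t₀ * z * (t₀ * z)) * z⁻¹ := by group
          _ = z⁻¹ := by rw [h1, one_mul]
      apply Subtype.ext
      change (x : X) * y = y * x
      have h1 := hinv ((x : X) * y) (mul_mem x.2 y.2)
      have h2 : t₀ * ((x : X) * y) * t₀⁻¹ = (t₀ * x * t₀⁻¹) * (t₀ * y * t₀⁻¹) := by group
      rw [h2, hinv x x.2, hinv y y.2] at h1
      have h3 := congrArg (·⁻¹) h1
      simp only [mul_inv_rev, inv_inv] at h3
      exact h3.symm
    obtain ⟨P⟩ : Nonempty (Sylow p H) := inferInstance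
    set PX : Subgroup X := (P : Subgroup H).map H.subtype with hPX
    set V : Subgroup X := ZJ.rel (fun X _ => ZJ.zja X) PX with hV
    have hVP : V ≤ PX := ZJ.rel_le _ _
    have hPXp : IsPGroup p PX := P.2.map H.subtype
    have hVp : IsPGroup p V := hPXp.to_le hVP
    have hVH : V ≤ H := hVP.trans (map_subtype_le _)
    obtain ⟨t, ht, htP⟩ := exists_normalizes hne P
    have htV : t ∈ normalizer (V : Set X) := ZJ.normalizer_le_normalizer_rel ZJ.isNat_zja PX htP
    haveI hVc : IsMulCommutative V := by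
      have h1 : V = centerThompsonAOf PX := ZJ.rel_zja PX
      rw [h1]
      refine ⟨⟨?_⟩⟩
      rintro ⟨a, ha⟩ ⟨b, hb⟩
      apply Subtype.ext
      exact mem_centralizer_iff.mp (Subgroup.mem_inf.mp hb).2 a (Subgroup.mem_inf.mp ha).1
    by_cases hVb : V = ⊥
    · -- `P = 1`
      apply nilpotent_of_hasNPC hne hsp
      apply Transfer.hasNPC_of_coprime
      have h1 : ¬ Nontrivial PX := by
        intro hn
        apply ZJ.zja_ne_bot PX hPXp hn
        exact (map_eq_bot_iff_of_injective _ PX.subtype_injective).mp hVb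
      rw [Subgroup.nontrivial_iff_ne_bot, not_not] at h1
      have h2 : (P : Subgroup H) = ⊥ := (map_eq_bot_iff_of_injective _ H.subtype_injective).mp h1
      rw [Nat.coprime_comm, Nat.Prime.coprime_iff_not_dvd hp.out]
      intro hd
      have h3 := P.dvd_card_of_dvd_card hd
      rw [h2, card_bot] at h3
      exact hp.out.one_lt.ne' (Nat.dvd_one.mp h3)
    by_cases hNV : normalizer (V : Set X) = ⊤
    · haveI hVn : V.Normal := normalizer_eq_top_iff.mp hNV
      apply nilpotent_of_quotient hne hsp (V := V) hVH hVp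
      refine ih (Nat.card (X ⧸ V)) ?_ (X ⧸ V) (H.map (QuotientGroup.mk' V))
        (hH.map _ (QuotientGroup.mk'_surjective V)) rfl ?_ ?_
      · rw [← hcard]
        have h1 := V.index_mul_card
        have h2 := Frob.two_le_card' hVb
        have h3 : 0 < Nat.card X := Nat.card_pos
        change V.index < Nat.card X
        have h4 : 0 < V.index := Nat.pos_of_ne_zero index_ne_zero_of_finite
        nlinarith
      · intro h1
        apply hne
        have h2 : (H.map (QuotientGroup.mk' V)).comap (QuotientGroup.mk' V) = H := by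
          rw [comap_map_eq, QuotientGroup.ker_mk', sup_eq_left.mpr hVH]
        rw [← h2, h1, comap_top]
      · intro x hx
        obtain ⟨x, rfl⟩ := QuotientGroup.mk'_surjective V x
        have h1 : x ∉ H := fun h => hx ⟨x, h, rfl⟩
        rw [← map_pow, hsp x h1, map_one]
    · apply nilpotent_of_hasNPC hne hsp
      apply ZJ.hasNPC_of_zja hp2 H P
      set Y := normalizer (V : Set X) with hY
      have hYn : Group.IsNilpotent (H.subgroupOf Y) := by
        refine ih (Nat.card Y) ?_ Y (H.subgroupOf Y) inferInstance rfl ?_ ?_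
        · rw [← hcard]
          exact lt_of_le_of_ne (card_le_card_group Y) (fun h => hNV ((card_eq_iff_eq_top Y).mp h))
        · intro h1
          rw [subgroupOf_eq_top] at h1
          exact ht (h1 htV)
        · rintro ⟨x, hxY⟩ hx
          exact Subtype.ext (hsp x hx)
      have hYc := Transfer.hasNPC_of_isNilpotent (p := p) hYn
      have hmap : (centerThompsonAOf (P : Subgroup H)).map H.subtype = V := by
        rw [← ZJ.rel_zja, ZJ.rel_map ZJ.isNat_zja _ (H.subtype_injective.injOn)]
      have hN : ∀ x ∈ normalizer ((centerThompsonAOf (P : Subgroup H) : Subgroup H) : Set H),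
          (x : X) ∈ Y := by
        intro x hx
        rw [hY, mem_normalizer_iff, ← hmap]
        rw [mem_normalizer_iff] at hx
        intro y
        constructor
        · rintro ⟨z, hz, rfl⟩
          exact ⟨x * z * x⁻¹, (hx z).mp hz, rfl⟩
        · rintro ⟨z, hz, hzy⟩
          have hyH : y ∈ H := by
            have h1 : (x : X) * y * (x : X)⁻¹ ∈ H := by rw [← hzy]; exact z.2
            have h2 := mul_mem (mul_mem (inv_mem x.2) h1) x.2
            have h3 : (x : X)⁻¹ * ((x : X) * y * (x : X)⁻¹) * x = y := by group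
            rwa [h3] at h2
          refine ⟨⟨y, hyH⟩, (hx _).mpr ?_, rfl⟩
          have h4 : x * ⟨y, hyH⟩ * x⁻¹ = z := Subtype.ext hzy.symm
          rw [h4]; exact hz
      let f : normalizer ((centerThompsonAOf (P : Subgroup H) : Subgroup H) : Set H) →*
          H.subgroupOf Y :=
        ((H.subtype.comp (Subgroup.subtype _)).codRestrict Y (fun x => hN x x.2)).codRestrict
          (H.subgroupOf Y) (fun x => (x : H).2)
      refine Transfer.HasNPC.of_injective hYc f ?_
      intro a b hab
      have h1 : ((a : H) : X) = ((b : H) : X) := congrArg (fun z : H.subgroupOf Y => ((z : Y) : X)) hab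
      exact Subtype.ext (Subtype.ext h1)

theorem index_main {X : Type u} [Group X] [Finite X] {p : ℕ} [hp : Fact p.Prime] {H : Subgroup X}
    [hH : H.Normal] (hX : ¬ IsPGroup p X) (hne : H ≠ ⊤) (hsp : ∀ x : X, x ∉ H → x ^ p = 1) :
    H.index = p := by
  obtain ⟨m, hm⟩ := IsPGroup.iff_card.mp (isPGroup_quot hsp)
  have hidx : H.index = p ^ m := hm
  obtain ⟨q, hq, hqp, hqX⟩ : ∃ q : ℕ, q.Prime ∧ q ≠ p ∧ q ∣ Nat.card X := by
    by_contra hcon
    push Not at hcon
    apply hX
    rw [IsPGroup.iff_card]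
    refine ⟨_, Nat.eq_prime_pow_of_unique_prime_dvd Nat.card_pos.ne' (fun {q} hq hqG => ?_)⟩
    by_contra hne
    exact hcon q hq hne hqG
  haveI : Fact q.Prime := ⟨hq⟩
  have hqH : q ∣ Nat.card H := by
    rw [← H.card_mul_index, hidx] at hqX
    rcases hq.dvd_mul.mp hqX with h | h
    · exact h
    · exact absurd ((Nat.prime_dvd_prime_iff_eq hq hp.out).mp (hq.dvd_of_dvd_pow h)) hqp
  obtain ⟨Q⟩ : Nonempty (Sylow q H) := inferInstance
  set QX : Subgroup X := (Q : Subgroup H).map H.subtype with hQX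
  have hQH : QX ≤ H := map_subtype_le _
  set Y := normalizer (QX : Set X) with hY
  have hYH : Y ⊔ H = ⊤ := Sylow.normalizer_sup_eq_top Q
  have hYne : H.subgroupOf Y ≠ ⊤ := by
    intro h1
    rw [subgroupOf_eq_top] at h1
    apply hne
    rw [← hYH, sup_eq_right.mpr h1]
  haveI hQn : (QX.subgroupOf Y).Normal := normal_in_normalizer
  have hQY : QX ≤ Y := le_normalizer
  have hcop : (Nat.card (QX.subgroupOf Y)).Coprime p := by
    obtain ⟨n, hn⟩ := IsPGroup.iff_card.mp (Q.2.map H.subtype)
    rw [Nat.card_congr (subgroupOfEquivOfLe hQY).toEquiv, hQX, hn]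
    exact Nat.Coprime.pow_left _ ((Nat.coprime_primes hq hp.out).mpr hqp)
  have h1 := normal_sylow_case (X := Y) (H := H.subgroupOf Y) (p := p) (by
      rintro ⟨x, hxY⟩ hx
      exact Subtype.ext (hsp x hx)) hYne (Q := QX.subgroupOf Y) (by
      intro x hx
      exact hQH hx) hcop (by
      intro h2
      have h3 : QX = ⊥ := by
        rw [subgroupOf_eq_bot, disjoint_iff, inf_eq_left.mpr hQY] at h2
        exact h2
      have h4 : (Q : Subgroup H) = ⊥ := (map_eq_bot_iff_of_injective _ H.subtype_injective).mp h3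
      have h5 := Q.dvd_card_of_dvd_card hqH
      rw [h4, card_bot] at h5
      exact hq.one_lt.ne' (Nat.dvd_one.mp h5))
  have h2 : H.relIndex (Y ⊔ H) = H.relIndex Y := relIndex_sup_right _ _
  rw [hYH, relIndex_top_right] at h2
  rw [h2]
  exact h1.2

end Cfsg.Agent.H71.Split
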