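import Cfsg.Agent.H71.TwoMix1

/-!
Groups all of whose subgroups of order divisible by `2` and prime to `p` are `2`-groups, with Sylow
2-subgroups of order `p + 1`, `p` a Mersenne prime.
-/

set_option autoImplicit false
set_option linter.unusedSectionVars false

namespace Cfsg.Agent.H71.TwoMix

open Subgroup

variable {G : Type*} [Group G]

structure Hyp (G : Type*) [Group G] (p : ℕ) : Prop where
  hp : p.Prime
  hp2 : p ≠ 2
  mix : Mix G p 2
  abp : ∀ X : Subgroup G, IsPGroup p X → ∀ x ∈ X, ∀ y ∈ X, x * y = y * x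
  ab2 : ∀ X : Subgroup G, IsPGroup 2 X → ∀ x ∈ X, x * x = 1
  cardQ : ∀ Q : Sylow 2 G, Nat.card Q = p + 1
  tr : ∀ Q : Sylow 2 G, ∃ x ∈ normalizer ((Q : Subgroup G) : Set G), PEl p x ∧ (∃ w ∈ Q, x * w ≠ w * x) ∧
    ∀ s ∈ Q, ∀ t ∈ Q, s ≠ 1 → t ≠ 1 → ∃ j : ℤ, x ^ j * s * (x ^ j)⁻¹ = t
  tt : ∀ P : Sylow p G, ∀ v ∈ P, (∀ g ∈ normalizer ((P : Subgroup G) : Set G), g * v = v * g) → v = 1
  hpG : p ∣ Nat.card G

variable {p : ℕ}

theorem Hyp.sq (h : Hyp G p) {s : G} (hs : PEl 2 s) : s * s = 1 :=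
  h.ab2 _ hs.zpowers s (mem_zpowers s)

theorem Hyp.comm2 (h : Hyp G p) {X : Subgroup G} (hX : IsPGroup 2 X) {x y : G} (hx : x ∈ X) (hy : y ∈ X) :
    x * y = y * x := by
  have h1 := h.ab2 X hX x hx
  have h2 := h.ab2 X hX y hy
  have h3 := h.ab2 X hX (x * y) (mul_mem hx hy)
  have hx' : x⁻¹ = x := inv_eq_of_mul_eq_one_left h1
  have hy' : y⁻¹ = y := inv_eq_of_mul_eq_one_left h2
  have hxy' : (x * y)⁻¹ = x * y := inv_eq_of_mul_eq_one_left h3
  rw [mul_inv_rev, hx', hy'] at hxy'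
  exact hxy'.symm

theorem Hyp.fact (h : Hyp G p) : Fact p.Prime := ⟨h.hp⟩

theorem Hyp.cop (h : Hyp G p) : p.Coprime 2 := (Nat.coprime_primes h.hp Nat.prime_two).2 h.hp2

theorem pel_two_of_sq {s : G} (hs : s * s = 1) : PEl 2 s := ⟨1, by rw [pow_one, sq, hs]⟩

theorem Hyp.card_le [Finite G] (h : Hyp G p) {T : Subgroup G} (hT : IsPGroup 2 T) : Nat.card T ≤ p + 1 := by
  obtain ⟨Q, hQ⟩ := hT.exists_le_sylow
  rw [← h.cardQ Q]
  exact Subgroup.card_le_of_le hQ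

theorem Hyp.exists_syl [Finite G] {s : G} (hs : PEl 2 s) : ∃ Q : Sylow 2 G, s ∈ Q := by
  obtain ⟨Q, hQ⟩ := hs.zpowers.exists_le_sylow
  exact ⟨Q, hQ (mem_zpowers s)⟩

/-- all involutions are conjugate -/
theorem Hyp.conj [Finite G] (h : Hyp G p) {s t : G} (hs : PEl 2 s) (ht : PEl 2 t) (hs1 : s ≠ 1) (ht1 : t ≠ 1) :
    ∃ g : G, g * s * g⁻¹ = t := by
  haveI : Fact (Nat.Prime 2) := ⟨Nat.prime_two⟩
  obtain ⟨Q1, h1⟩ := Hyp.exists_syl hs
  obtain ⟨Q2, h2⟩ := Hyp.exists_syl ht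
  obtain ⟨g, hg⟩ := MulAction.exists_smul_eq G Q1 Q2
  have h3 : g * s * g⁻¹ ∈ Q2 := by
    rw [← hg]
    exact Subgroup.smul_mem_pointwise_smul s (MulAut.conj g) (Q1 : Subgroup G) h1
  obtain ⟨x, -, -, -, hx⟩ := h.tr Q2
  obtain ⟨j, hj⟩ := hx _ h3 _ h2 (by
    intro hh
    apply hs1
    have : s = g⁻¹ * (g * s * g⁻¹) * g := by group
    rw [this, hh]; group) ht1
  exact ⟨x ^ j * g, by rw [← hj]; group⟩

/-- an element of odd order normalising a 2-group whose `p`-parts centralise it -/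
theorem Hyp.odd_cent [Finite G] (h : Hyp G p) {T0 : Subgroup G} (hT0 : IsPGroup 2 T0) {g : G}
    (hg : g ∈ normalizer (T0 : Set G)) (hgo : Nat.Coprime (orderOf g) 2)
    (hsm : ∀ z : G, PEl p z → z ∈ zpowers g → ∀ w ∈ T0, z * w = w * z) : ∀ w ∈ T0, g * w = w * g := by
  by_contra hcon
  push Not at hcon
  obtain ⟨w, hw, hgw⟩ := hcon
  haveI : ((centralizer (T0 : Set G)).subgroupOf (normalizer (T0 : Set G))).Normal := by
    infer_instance
  have hnot : (⟨g, hg⟩ : normalizer (T0 : Set G)) ∉ (centralizer (T0 : Set G)).subgroupOf (normalizer (T0 : Set G)) := by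
    intro hh
    rw [mem_subgroupOf, mem_centralizer_iff] at hh
    exact hgw (hh w hw).symm
  obtain ⟨r, a, k, hr, hna, hord⟩ := exists_primary_not_mem _ hnot
  have hcoe : (((⟨g, hg⟩ : normalizer (T0 : Set G)) ^ a : normalizer (T0 : Set G)) : G) = g ^ a := rfl
  have hord' : orderOf (g ^ a) = r ^ k := by
    rw [← hord, ← hcoe, Subgroup.orderOf_coe]
  have hrel : PEl r (g ^ a) := ⟨k, by rw [← hord', pow_orderOf_eq_one]⟩
  have hga : g ^ a ∈ zpowers g := pow_mem (mem_zpowers g) a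
  have hne : g ^ a ≠ 1 := by
    intro hh
    apply hna
    have : (⟨g, hg⟩ : normalizer (T0 : Set G)) ^ a = 1 := Subtype.ext hh
    rw [this]
    exact one_mem _
  by_cases hr2 : r = 2
  · subst hr2
    have h1 : (g ^ a) ^ (orderOf g) = 1 := by
      rw [← pow_mul, mul_comm, pow_mul, pow_orderOf_eq_one, one_pow]
    exact hne (hrel.eq_one h1 hgo.symm)
  by_cases hrp : r = p
  · subst hrp
    apply hna
    rw [mem_subgroupOf, mem_centralizer_iff]
    intro v hv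
    exact (hsm _ hrel hga v hv).symm
  · have hT1 : T0 ≠ ⊥ := by
      rintro rfl
      rw [mem_bot] at hw
      exact hgw (by rw [hw, mul_one, one_mul])
    have h1 := pair h.hp Nat.prime_two hr h.hp2 hrp hr2 h.mix hrel.zpowers hT0 hT1
      (Or.inl (by rw [zpowers_le]; exact pow_mem hg a))
    rw [zpowers_eq_bot] at h1
    exact hne h1

theorem odd_mem [Finite G] {K : Subgroup G} (hK : ¬ 2 ∣ Nat.card K) {k b : G} (hk : k ∈ K) (hb : PEl 2 b)
    (hbK : b ∈ normalizer (K : Set G)) {n : ℕ} (hn : ¬ 2 ∣ n) (hkb : (k * b) ^ n = 1) : b = 1 := by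
  have h1 := mul_pow_mem hk hbK n
  rw [hkb, one_mul] at h1
  have h2 : b ^ n ∈ K := by
    have := inv_mem h1
    rwa [inv_inv] at this
  have h3 : (b ^ n) ^ Nat.card K = 1 :=
    congrArg Subtype.val (pow_card_eq_one' (x := (⟨b ^ n, h2⟩ : K)))
  have h4 : b ^ n = 1 := (hb.pow n).eq_one h3 ((Nat.Prime.coprime_iff_not_dvd Nat.prime_two).2 hK)
  exact hb.eq_one h4 ((Nat.Prime.coprime_iff_not_dvd Nat.prime_two).2 hn)

theorem Hyp.odd_pow (h : Hyp G p) (k : ℕ) : ¬ 2 ∣ p ^ k := by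
  intro hd
  exact h.hp2 ((Nat.prime_dvd_prime_iff_eq Nat.prime_two h.hp).1 (Nat.prime_two.dvd_of_dvd_pow hd)).symm

theorem Hyp.pel_eq_one (h : Hyp G p) {z : G} (h1 : PEl p z) (h2 : PEl 2 z) : z = 1 := by
  obtain ⟨k, hk⟩ := h2
  exact h1.eq_one hk (Nat.Coprime.pow_right k h.cop)

/-- the centralizer of an involution -/
theorem Hyp.cent [Finite G] (h : Hyp G p) (Q : Sylow 2 G) {t : G} (ht : t ∈ Q) (ht1 : t ≠ 1) :
    ∃ K : Subgroup G, IsPGroup p K ∧ (∀ z : G, PEl p z → z * t = t * z → z ∈ K) ∧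
      (∀ k ∈ K, k * t = t * k) ∧ ∀ z : G, z * t = t * z → ∃ k ∈ K, ∃ s ∈ Q, z = k * s := by
  haveI : Fact (Nat.Prime 2) := ⟨Nat.prime_two⟩
  have hQ2 : IsPGroup 2 (Q : Subgroup G) := Q.isPGroup'
  have hQY : (Q : Subgroup G) ≤ centralizer ({t} : Set G) := by
    intro s hs
    rw [mem_centralizer_singleton_iff]
    exact h.comm2 hQ2 hs ht
  have hi : ¬ 2 ∣ (Q : Subgroup G).relIndex (centralizer ({t} : Set G)) := by
    intro hd
    exact Q.not_dvd_index (hd.trans (Subgroup.relIndex_dvd_index_of_le hQY))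
  obtain ⟨K, hKY, hYK, hK2, hKT⟩ := compl hQY hQ2 hi (by
    intro T0 hT0 g hg hgN hgo
    refine h.odd_cent (hQ2.to_le hT0) hgN hgo fun z hz hzg w hw => ?_
    by_contra hzw
    have hzN : z ∈ normalizer (T0 : Set G) := (zpowers_le.2 hgN) hzg
    obtain ⟨h1, h2⟩ := act h.hp hz hzN hw hzw
    have h3 : Nat.card T0 = p + 1 := le_antisymm (h.card_le (hQ2.to_le hT0)) h1
    have h4 : T0 = Q := by
      apply Subgroup.eq_of_le_of_card_ge hT0
      rw [h3]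
      exact (h.cardQ Q).le
    obtain ⟨j, hj⟩ := h2 h3 t (by rw [h4]; exact ht) ht1
    have hzt : Commute z t := by
      have : z ∈ centralizer ({t} : Set G) := (zpowers_le.2 hg) hzg
      rwa [mem_centralizer_singleton_iff] at this
    have h5 : w = t := by
      have h6 : w = (z ^ j)⁻¹ * (z ^ j * w * (z ^ j)⁻¹) * z ^ j := by group
      rw [h6, hj]
      have h7 : Commute (z ^ j) t := hzt.zpow_left j
      rw [mul_assoc, ← h7.eq]; group
    exact hzw (by rw [h5]; exact hzt))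
  have htK : t ∈ normalizer (K : Set G) := hYK (hQY ht)
  have hKp : IsPGroup p K := prime_of_norm h.hp Nat.prime_two h.hp2 h.mix hK2 (pel_of_mem hQ2 ht) ht1 htK
  refine ⟨K, hKp, ?_, ?_, ?_⟩
  · intro z hz hzt
    obtain ⟨k, hk, s, hs, hks⟩ := hKT z (by rw [mem_centralizer_singleton_iff]; exact hzt)
    obtain ⟨m, hm⟩ := hz
    have h1 : s = 1 := odd_mem hK2 hk (pel_of_mem hQ2 hs) (hYK (hQY hs)) (h.odd_pow m) (by rw [← hks]; exact hm)
    rw [hks, h1, mul_one]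
    exact hk
  · intro k hk
    have := hKY hk
    rwa [mem_centralizer_singleton_iff] at this
  · intro z hz
    exact hKT z (by rw [mem_centralizer_singleton_iff]; exact hz)

theorem Hyp.comm_of_cent [Finite G] (h : Hyp G p) {t y z : G} (ht : PEl 2 t) (ht1 : t ≠ 1) (hy : PEl p y)
    (hz : PEl p z) (hyt : y * t = t * y) (hzt : z * t = t * z) : y * z = z * y := by
  obtain ⟨Q, hQ⟩ := Hyp.exists_syl ht
  obtain ⟨K, hK, hK1, -, -⟩ := h.cent Q hQ ht1
  exact h.abp K hK y (hK1 y hy hyt) z (hK1 z hz hzt)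

theorem syl_mem [Finite G] {q : ℕ} (hq : q.Prime) (P : Sylow q G) {x : G} (hx : PEl q x)
    (hxP : x ∈ normalizer ((P : Subgroup G) : Set G)) : x ∈ P := by
  have h1 : IsPGroup q (zpowers x ⊔ (P : Subgroup G) : Subgroup G) :=
    IsPGroup.to_sup_of_normal_right' hx.zpowers P.isPGroup' (by rw [zpowers_le]; exact hxP)
  have h2 := P.is_maximal' h1 le_sup_right
  have h3 : x ∈ (P : Subgroup G) := by
    rw [← h2]
    exact mem_sup_left (mem_zpowers x)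
  exact h3

/-- structure of the centralizer of a `p`-element normalised by a Sylow 2-subgroup -/
theorem Hyp.d1 [Finite G] (h : Hyp G p) (Q : Sylow 2 G) {y s : G} (hy : PEl p y) (hy1 : y ≠ 1) (hs : s ∈ Q)
    (hsy : s * y * s⁻¹ = y⁻¹) (hQ : ∀ t ∈ Q, t * y * t⁻¹ = y ∨ t * y * t⁻¹ = y⁻¹) :
    ∃ P : Sylow p G, y ∈ P ∧ (Q : Subgroup G) ≤ normalizer ((P : Subgroup G) : Set G) ∧
      (∀ z : G, PEl p z → z * y = y * z → z ∈ P) ∧
      (∀ z : G, z * y = y * z → ∃ k ∈ P, ∃ b ∈ Q, b * y = y * b ∧ z = k * b) ∧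
      Nat.card Q ≤ 2 * Nat.card ((Q : Subgroup G) ⊓ centralizer ({y} : Set G) : Subgroup G) := by
  haveI : Fact (Nat.Prime 2) := ⟨Nat.prime_two⟩
  haveI := h.fact
  have hQ2 : IsPGroup 2 (Q : Subgroup G) := Q.isPGroup'
  obtain ⟨Y, hY⟩ : ∃ Y : Subgroup G, Y = centralizer ({y} : Set G) := ⟨_, rfl⟩
  obtain ⟨B, hB⟩ : ∃ B : Subgroup G, B = (Q : Subgroup G) ⊓ Y := ⟨_, rfl⟩
  have hmY : ∀ {z : G}, z ∈ Y ↔ z * y = y * z := by
    intro z; rw [hY, mem_centralizer_singleton_iff]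
  have hBQ : B ≤ (Q : Subgroup G) := by rw [hB]; exact inf_le_left
  have hBY : B ≤ Y := by rw [hB]; exact inf_le_right
  have hyy : y⁻¹ ≠ y := by
    intro hh
    have h1 : y * y = 1 := by
      nth_rewrite 1 [← hh]; exact inv_mul_cancel y
    exact hy1 (h.pel_eq_one hy (pel_two_of_sq h1))
  have hsY : s ∉ Y := by
    intro hh
    rw [hmY] at hh
    apply hyy
    rw [← hsy, hh, mul_inv_cancel_right]
  have hcard : Nat.card Q ≤ 2 * Nat.card B := by
    have h1 : ((Q : Subgroup G) : Set G) ⊆ (B : Set G) ∪ (fun b => s * b) '' (B : Set G) := by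
      intro a ha
      rcases hQ a ha with h1 | h1
      · left
        rw [hB]
        refine Subgroup.mem_inf.2 ⟨ha, hmY.2 ?_⟩
        calc a * y = a * y * a⁻¹ * a := by group
          _ = y * a := by rw [h1]
      · right
        refine ⟨s⁻¹ * a, ?_, by simp⟩
        rw [hB]
        refine Subgroup.mem_inf.2 ⟨mul_mem (inv_mem hs) ha, hmY.2 ?_⟩
        have h2 : s⁻¹ * y⁻¹ * s = y := by rw [← hsy]; group
        calc s⁻¹ * a * y = s⁻¹ * (a * y * a⁻¹) * a := by group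
          _ = s⁻¹ * y⁻¹ * s * (s⁻¹ * a) := by rw [h1]; group
          _ = y * (s⁻¹ * a) := by rw [h2]
    have h2 := (Set.ncard_le_ncard h1 (Set.toFinite _)).trans (Set.ncard_union_le _ _)
    have h3 := Set.ncard_image_le (f := fun b => s * b) (Set.toFinite (B : Set G))
    have h4 : ((Q : Subgroup G) : Set G).ncard = Nat.card Q := rfl
    have h5 : (B : Set G).ncard = Nat.card B := rfl
    omega
  have hi : ¬ 2 ∣ B.relIndex Y := by
    obtain ⟨T, hBT, hTY, hT, hiT⟩ := H32.exists_relSylow hBY (hQ2.to_le hBQ)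
    have h1 : T = B := by
      by_contra hne
      have h2 : 2 * Nat.card B ≤ Nat.card T := by
        have h3 := H32.card_mul_relIndex hBT
        have h4 : B.relIndex T ≠ 1 := by
          intro h5
          rw [Subgroup.relIndex_eq_one] at h5
          exact hne (le_antisymm h5 hBT)
        have h5 : B.relIndex T ≠ 0 := Subgroup.index_ne_zero_of_finite
        have h6 : 2 ≤ B.relIndex T := by omega
        calc 2 * Nat.card B = Nat.card B * 2 := mul_comm _ _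
          _ ≤ Nat.card B * B.relIndex T := Nat.mul_le_mul_left _ h6
          _ = Nat.card T := h3
      obtain ⟨v, hv, hvy, hvT⟩ := inv_norm (R := T) hsy (by rw [← hY]; exact hTY) hT (by rw [← hY]; exact hiT)
      obtain ⟨Q2, hQ2'⟩ := hT.exists_le_sylow
      have h7 : (Q2 : Subgroup G) = T := by
        symm
        apply Subgroup.eq_of_le_of_card_ge hQ2'
        have h8 := h.cardQ Q2
        have h9 := h.cardQ Q
        have h10 : Nat.card (Q2 : Subgroup G) = Nat.card Q2 := rfl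
        omega
      have h8 : v ∈ Q2 := syl_mem Nat.prime_two Q2 hv (by rw [h7]; exact hvT)
      have h9 : v ∈ Y := hTY (by rw [← h7]; exact h8)
      rw [hmY] at h9
      apply hyy
      rw [← hvy, h9, mul_inv_cancel_right]
    rw [← h1]; exact hiT
  obtain ⟨K, hKY, hYK, hK2, hKT⟩ := compl hBY (hQ2.to_le hBQ) hi (by
    intro T0 hT0 g hg hgN hgo
    refine h.odd_cent (hQ2.to_le (hT0.trans hBQ)) hgN hgo fun z hz hzg w hw => ?_
    by_contra hzw
    have hzN : z ∈ normalizer (T0 : Set G) := (zpowers_le.2 hgN) hzg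
    obtain ⟨h1, -⟩ := act h.hp hz hzN hw hzw
    have h3 : T0 = Q := by
      apply Subgroup.eq_of_le_of_card_ge (hT0.trans hBQ)
      exact (h.cardQ Q).le.trans h1
    exact hsY (hBY (hT0 (by rw [h3]; exact hs))))
  have hmemK : ∀ z ∈ Y, ∀ n : ℕ, ¬ 2 ∣ n → z ^ n = 1 → z ∈ K := by
    intro z hz n hn hzn
    obtain ⟨k, hk, b, hb, hkb⟩ := hKT z hz
    have h1 : b = 1 := odd_mem hK2 hk (pel_of_mem hQ2 (hBQ hb)) (hYK (hBY hb)) hn (by rw [← hkb]; exact hzn)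
    rw [hkb, h1, mul_one]; exact hk
  have hKn : ∀ g : G, g ∈ normalizer (Y : Set G) → g ∈ normalizer (K : Set G) := by
    intro g hg
    apply mem_norm
    intro k hk
    refine hmemK _ ((mem_normalizer_iff.1 hg k).1 (hKY hk)) (Nat.card K) hK2 ?_
    rw [conj_pow]
    have : k ^ Nat.card K = 1 := congrArg Subtype.val (pow_card_eq_one' (x := (⟨k, hk⟩ : K)))
    rw [this, mul_one, mul_inv_cancel]
  have hQY : ∀ t ∈ Q, t ∈ normalizer (Y : Set G) := by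
    intro t ht
    rcases hQ t ht with h1 | h1
    · apply Subgroup.le_normalizer
      rw [hmY]
      calc t * y = t * y * t⁻¹ * t := by group
        _ = y * t := by rw [h1]
    · rw [hY]; exact norm_cent_of_inv h1
  have hKp : IsPGroup p K := prime_of_norm h.hp Nat.prime_two h.hp2 h.mix hK2 (pel_of_mem hQ2 hs)
    (by rintro rfl; exact hsY (one_mem _)) (hKn s (hQY s hs))
  have hyK : y ∈ K := by
    obtain ⟨m, hm⟩ := hy
    exact hmemK y (hmY.2 rfl) _ (h.odd_pow m) hm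
  obtain ⟨P, hP⟩ := hKp.exists_le_sylow
  have hPK : (P : Subgroup G) = K := by
    apply le_antisymm _ hP
    intro k hk
    obtain ⟨m, hm⟩ := pel_of_mem P.isPGroup' hk
    exact hmemK k (hmY.2 (h.abp _ P.isPGroup' k hk y (hP hyK))) _ (h.odd_pow m) hm
  refine ⟨P, hP hyK, ?_, ?_, ?_, ?_⟩
  · intro t ht
    rw [hPK]
    exact hKn t (hQY t ht)
  · intro z hz hzy
    obtain ⟨m, hm⟩ := hz
    exact hP (hmemK z (hmY.2 hzy) _ (h.odd_pow m) hm)
  · intro z hzy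
    obtain ⟨k, hk, b, hb, hkb⟩ := hKT z (hmY.2 hzy)
    exact ⟨k, hP hk, b, hBQ hb, hmY.1 (hBY hb), hkb⟩
  · rw [← hY, ← hB]; exact hcard

theorem Hyp.d2 [Finite G] (h : Hyp G p) (Q : Sylow 2 G) (P : Sylow p G) {x y : G}
    (hQP : (Q : Subgroup G) ≤ normalizer ((P : Subgroup G) : Set G))
    (hP : ∀ z : G, PEl p z → z * y = y * z → z ∈ P)
    (hx : PEl p x) (hxQ : x ∈ normalizer ((Q : Subgroup G) : Set G)) (hxne : ∃ w ∈ Q, x * w ≠ w * x)
    (hxy : x * y * x⁻¹ ∈ P) : False := by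
  have h1 : x⁻¹ ∈ normalizer ((P : Subgroup G) : Set G) := by
    apply mem_norm
    intro k hk
    rw [inv_inv]
    have h2 : k * (x * y * x⁻¹) = (x * y * x⁻¹) * k := h.abp _ P.isPGroup' k hk _ hxy
    refine hP _ ((pel_of_mem P.isPGroup' hk).conj' x) ?_
    calc x⁻¹ * k * x * y = x⁻¹ * (k * (x * y * x⁻¹)) * x := by group
      _ = y * (x⁻¹ * k * x) := by rw [h2]; group
  have h2 : x ∈ P := syl_mem h.hp P hx (by
    have := inv_mem h1
    rwa [inv_inv] at this)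
  obtain ⟨w, hw, hne⟩ := hxne
  have h3 : x * w * x⁻¹ * w⁻¹ ∈ (P : Subgroup G) := by
    have h4 : x * w * x⁻¹ * w⁻¹ = x * (w * x⁻¹ * w⁻¹) := by group
    rw [h4]
    exact mul_mem h2 ((mem_normalizer_iff.1 (hQP hw) _).1 (inv_mem h2))
  have h4 : x * w * x⁻¹ * w⁻¹ ∈ (Q : Subgroup G) :=
    mul_mem ((mem_normalizer_iff.1 hxQ _).1 hw) (inv_mem hw)
  have h5 := h.pel_eq_one (pel_of_mem P.isPGroup' h3) (pel_of_mem Q.isPGroup' h4)
  apply hne
  calc x * w = x * w * x⁻¹ * w⁻¹ * (w * x) := by group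
    _ = w * x := by rw [h5, one_mul]

/-- if some `p`-element centralising `t ∈ Q` does not centralise `Q` -/
theorem Hyp.exists_y [Finite G] (h : Hyp G p) (Q : Sylow 2 G) {t y s : G} (ht : t ∈ Q) (ht1 : t ≠ 1)
    (hy : PEl p y) (hyt : y * t = t * y) (hs : s ∈ Q) (hys : y * s ≠ s * y) :
    ∃ y' s' : G, PEl p y' ∧ y' ≠ 1 ∧ y' * t = t * y' ∧ s' ∈ Q ∧ s' * y' * s'⁻¹ = y'⁻¹ ∧
      ∀ a ∈ Q, a * y' * a⁻¹ = y' ∨ a * y' * a⁻¹ = y'⁻¹ := by
  have hQ2 : IsPGroup 2 (Q : Subgroup G) := Q.isPGroup'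
  obtain ⟨K, hK, hK1, hK2, -⟩ := h.cent Q ht ht1
  have hcomm : ∀ {v w : G}, v ∈ K → w ∈ K → v * w = w * v := fun hv hw => h.abp K hK _ hv _ hw
  have hconjK : ∀ {a v : G}, a ∈ Q → v ∈ K → a * v * a⁻¹ ∈ K := by
    intro a v ha hv
    refine hK1 _ ((pel_of_mem hK hv).conj a) ?_
    have h1 : a * t = t * a := h.comm2 hQ2 ha ht
    have h2 : a⁻¹ * t = t * a⁻¹ := h.comm2 hQ2 (inv_mem ha) ht
    calc a * v * a⁻¹ * t = a * v * (a⁻¹ * t) := by group
      _ = a * (v * t) * a⁻¹ := by rw [h2]; group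
      _ = a * (t * v) * a⁻¹ := by rw [hK2 v hv]
      _ = a * t * v * a⁻¹ := by group
      _ = t * (a * v * a⁻¹) := by rw [h1]; group
  have hss : s * s = 1 := h.ab2 _ hQ2 s hs
  have hsi : s⁻¹ = s := inv_eq_of_mul_eq_one_left hss
  obtain ⟨U0, hU0⟩ : ∃ U0 : Subgroup G, ∀ v, v ∈ U0 ↔ v ∈ K ∧ s * v * s⁻¹ = v⁻¹ := by
    refine ⟨⟨⟨⟨{v | v ∈ K ∧ s * v * s⁻¹ = v⁻¹}, ?_⟩, ?_⟩, ?_⟩, fun v => Iff.rfl⟩
    · rintro v w ⟨hv, hv2⟩ ⟨hw, hw2⟩
      refine ⟨mul_mem hv hw, ?_⟩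
      calc s * (v * w) * s⁻¹ = (s * v * s⁻¹) * (s * w * s⁻¹) := by group
        _ = (w * v)⁻¹ := by rw [hv2, hw2]; group
        _ = (v * w)⁻¹ := by rw [hcomm hv hw]
    · exact ⟨one_mem _, by simp⟩
    · rintro v ⟨hv, hv2⟩
      refine ⟨inv_mem hv, ?_⟩
      calc s * v⁻¹ * s⁻¹ = (s * v * s⁻¹)⁻¹ := by group
        _ = v⁻¹⁻¹ := by rw [hv2]
  obtain ⟨S, hS⟩ : ∃ S : Set (Subgroup G), ∀ U, U ∈ S ↔ (U ≤ K ∧ U ≠ ⊥ ∧
      (∀ a ∈ Q, ∀ v ∈ U, a * v * a⁻¹ ∈ U) ∧ ∃ s' ∈ Q, ∀ v ∈ U, s' * v * s'⁻¹ = v⁻¹) :=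
    ⟨{U | _}, fun U => Iff.rfl⟩
  have hne : S.Nonempty := by
    refine ⟨U0, (hS U0).2 ⟨fun v hv => ((hU0 v).1 hv).1, ?_, ?_, s, hs, fun v hv => ((hU0 v).1 hv).2⟩⟩
    · intro hbot
      have hyK : y ∈ K := hK1 y hy hyt
      have h1 : y * (s * y⁻¹ * s⁻¹) ∈ U0 := by
        rw [hU0]
        have h2 : s * y⁻¹ * s⁻¹ ∈ K := hconjK hs (inv_mem hyK)
        refine ⟨mul_mem hyK h2, ?_⟩
        calc s * (y * (s * y⁻¹ * s⁻¹)) * s⁻¹ = s * y * (s * y⁻¹ * s⁻¹) * s⁻¹ := by group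
          _ = s * y * s⁻¹ * (s * s * y⁻¹ * (s⁻¹ * s⁻¹)) := by group
          _ = s * y * s⁻¹ * y⁻¹ := by
              have : s⁻¹ * s⁻¹ = 1 := by rw [hsi, hss]
              rw [hss, this, one_mul, mul_one]
          _ = (y * (s * y⁻¹ * s⁻¹))⁻¹ := by group
      rw [hbot, mem_bot] at h1
      apply hys
      calc y * s = y * (s * y⁻¹ * s⁻¹) * (s * y) := by group
        _ = s * y := by rw [h1, one_mul]
    · intro a ha v hv
      rw [hU0] at hv ⊢
      refine ⟨hconjK ha hv.1, ?_⟩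
      have h1 : s * a = a * s := h.comm2 hQ2 hs ha
      have h2 : a⁻¹ * s⁻¹ = s⁻¹ * a⁻¹ := h.comm2 hQ2 (inv_mem ha) (inv_mem hs)
      calc s * (a * v * a⁻¹) * s⁻¹ = (s * a) * v * (a⁻¹ * s⁻¹) := by group
        _ = a * (s * v * s⁻¹) * a⁻¹ := by rw [h1, h2]; group
        _ = (a * v * a⁻¹)⁻¹ := by rw [hv.2]; group
  obtain ⟨U, hU, hmin⟩ := (wellFounded_lt (α := Subgroup G)).has_min S hne
  obtain ⟨hUK, hU1, hUQ, s', hs', hinv⟩ := (hS U).1 hU
  obtain ⟨y', hy'U, hy'1⟩ : ∃ y' ∈ U, y' ≠ 1 := by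
    by_contra hcon
    push Not at hcon
    exact hU1 ((Subgroup.eq_bot_iff_forall _).2 hcon)
  refine ⟨y', s', pel_of_mem hK (hUK hy'U), hy'1, hK2 _ (hUK hy'U), hs', hinv _ hy'U, ?_⟩
  intro a ha
  have haa : a * a = 1 := h.ab2 _ hQ2 a ha
  have hai : a⁻¹ = a := inv_eq_of_mul_eq_one_left haa
  by_cases hbot : U ⊓ centralizer ({a} : Set G) = ⊥
  · right
    have h1 : y' * (a * y' * a⁻¹) ∈ U ⊓ centralizer ({a} : Set G) := by
      refine Subgroup.mem_inf.2 ⟨mul_mem hy'U (hUQ a ha _ hy'U), ?_⟩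
      rw [mem_centralizer_singleton_iff]
      have h2 : y' * (a * y' * a⁻¹) = (a * y' * a⁻¹) * y' := hcomm (hUK hy'U) (hUK (hUQ a ha _ hy'U))
      have h3 : a * (y' * (a * y' * a⁻¹)) * a⁻¹ = y' * (a * y' * a⁻¹) := by
        calc a * (y' * (a * y' * a⁻¹)) * a⁻¹ = (a * y' * a⁻¹) * (a * a * y' * (a⁻¹ * a⁻¹)) := by group
          _ = (a * y' * a⁻¹) * y' := by
              have : a⁻¹ * a⁻¹ = 1 := by rw [hai, haa]
              rw [haa, this, one_mul, mul_one]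
          _ = y' * (a * y' * a⁻¹) := h2.symm
      calc y' * (a * y' * a⁻¹) * a = a * (y' * (a * y' * a⁻¹)) * a⁻¹ * a := by rw [h3]
        _ = a * (y' * (a * y' * a⁻¹)) := by group
    rw [hbot, mem_bot] at h1
    exact (inv_eq_of_mul_eq_one_right h1).symm
  · left
    have h1 : U ⊓ centralizer ({a} : Set G) ∈ S := by
      rw [hS]
      refine ⟨inf_le_left.trans hUK, hbot, ?_, s', hs', fun v hv => hinv v (Subgroup.mem_inf.1 hv).1⟩
      intro c hc v hv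
      obtain ⟨hv1, hv2⟩ := Subgroup.mem_inf.1 hv
      refine Subgroup.mem_inf.2 ⟨hUQ c hc v hv1, ?_⟩
      rw [mem_centralizer_singleton_iff] at hv2 ⊢
      have h2 : c⁻¹ * a = a * c⁻¹ := h.comm2 hQ2 (inv_mem hc) ha
      have h3 : c * a = a * c := h.comm2 hQ2 hc ha
      calc c * v * c⁻¹ * a = c * v * (c⁻¹ * a) := by group
        _ = c * (v * a) * c⁻¹ := by rw [h2]; group
        _ = (c * a) * v * c⁻¹ := by rw [hv2]; group
        _ = a * (c * v * c⁻¹) := by rw [h3]; group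
    have h2 : U ⊓ centralizer ({a} : Set G) = U := by
      by_contra hne2
      exact hmin _ h1 (lt_of_le_of_ne inf_le_left hne2)
    have h3 : y' ∈ U ⊓ centralizer ({a} : Set G) := by rw [h2]; exact hy'U
    have h4 := (Subgroup.mem_inf.1 h3).2
    rw [mem_centralizer_singleton_iff] at h4
    rw [← h4, mul_inv_cancel_right]

def Alpha (G : Type*) [Group G] (p : ℕ) : Prop :=
  ∀ Q : Sylow 2 G, ∀ t ∈ Q, t ≠ 1 → ∀ y : G, PEl p y → y * t = t * y → ∀ s ∈ Q, y * s = s * y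

theorem Hyp.alpha_of_big [Finite G] (h : Hyp G p) (hbig : 4 < p + 1) : Alpha G p := by
  intro Q t ht ht1 y hy hyt s hs
  by_contra hys
  obtain ⟨y', s', hy', hy'1, hy't, hs', hinv, hall⟩ := h.exists_y Q ht ht1 hy hyt hs hys
  obtain ⟨P, hyP, hQP, hP1, hP2, hcard⟩ := h.d1 Q hy' hy'1 hs' hinv hall
  obtain ⟨x, hxQ, hx, hxne, -⟩ := h.tr Q
  obtain ⟨B, hB⟩ : ∃ B : Subgroup G, B = (Q : Subgroup G) ⊓ centralizer ({y'} : Set G) := ⟨_, rfl⟩
  rw [← hB] at hcard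
  have hBQ : B ≤ (Q : Subgroup G) := by rw [hB]; exact inf_le_left
  obtain ⟨B', hB'⟩ : ∃ B' : Subgroup G, B' = B.map (MulAut.conj x).toMonoidHom := ⟨_, rfl⟩
  have hB'Q : B' ≤ (Q : Subgroup G) := by
    rw [hB']
    rintro _ ⟨b, hb, rfl⟩
    exact (mem_normalizer_iff.1 hxQ b).1 (hBQ hb)
  have hB'c : Nat.card B' = Nat.card B := by rw [hB', H32.card_map_conj]
  have hidx : ∀ C : Subgroup G, C ≤ (Q : Subgroup G) → Nat.card Q ≤ 2 * Nat.card C → C.relIndex (Q : Subgroup G) ≤ 2 := by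
    intro C hC hc
    have h1 := H32.card_mul_relIndex hC
    have h2 : 0 < Nat.card C := Nat.card_pos
    have h3 : Nat.card C * C.relIndex (Q : Subgroup G) ≤ Nat.card C * 2 := by
      rw [h1, mul_comm _ 2]; exact hc
    exact Nat.le_of_mul_le_mul_left h3 h2
  have h1 : (B ⊓ B').relIndex (Q : Subgroup G) ≤ 4 := by
    calc (B ⊓ B').relIndex (Q : Subgroup G) ≤ B.relIndex (Q : Subgroup G) * B'.relIndex (Q : Subgroup G) :=
          Subgroup.relIndex_inf_le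
      _ ≤ 2 * 2 := Nat.mul_le_mul (hidx B hBQ hcard) (hidx B' hB'Q (by rw [hB'c]; exact hcard))
      _ = 4 := rfl
  have h2 : B ⊓ B' ≠ ⊥ := by
    intro hbot
    rw [hbot, Subgroup.relIndex_bot_left] at h1
    have := h.cardQ Q
    have h3 : Nat.card (Q : Subgroup G) = Nat.card Q := rfl
    omega
  obtain ⟨b, hb, hb1⟩ : ∃ b ∈ B ⊓ B', b ≠ 1 := by
    by_contra hcon
    push Not at hcon
    exact h2 ((Subgroup.eq_bot_iff_forall _).2 hcon)
  obtain ⟨hbB, hbB'⟩ := Subgroup.mem_inf.1 hb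
  have hb2 : PEl 2 b := pel_of_mem Q.isPGroup' (hBQ hbB)
  have h3 : y' * b = b * y' := by
    rw [hB] at hbB
    have := (Subgroup.mem_inf.1 hbB).2
    rw [mem_centralizer_singleton_iff] at this
    exact this.symm
  have h4 : (x * y' * x⁻¹) * b = b * (x * y' * x⁻¹) := by
    rw [hB', H32.mem_map_conj, hB] at hbB'
    have := (Subgroup.mem_inf.1 hbB').2
    rw [mem_centralizer_singleton_iff] at this
    calc (x * y' * x⁻¹) * b = x * (y' * (x⁻¹ * b * x)) * x⁻¹ := by group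
      _ = x * ((x⁻¹ * b * x) * y') * x⁻¹ := by rw [this]
      _ = b * (x * y' * x⁻¹) := by group
  have h5 := h.comm_of_cent hb2 hb1 hy' (hy'.conj x) h3 h4
  exact h.d2 Q P hQP hP1 hx hxQ hxne (hP1 _ (hy'.conj x) h5.symm)

end Cfsg.Agent.H71.TwoMix
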