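import Cfsg.Agent.H71.TwoMix2

/-!
The case in which the `p`-elements centralising an involution centralise a Sylow 2-subgroup.
-/

set_option autoImplicit false
set_option linter.unusedSectionVars false

namespace Cfsg.Agent.H71.TwoMix

open Subgroup

variable {G : Type*} [Group G] {p : ℕ}

theorem pel_of_primes [Finite G] {q : ℕ} {w : G}
    (h : ∀ l : ℕ, l.Prime → l ∣ orderOf w → l = q) : PEl q w := by
  have h1 := Nat.eq_prime_pow_of_unique_prime_dvd (n := orderOf w) (p := q) (orderOf_pos w).ne'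
    (fun {d} hd => h d hd)
  exact ⟨_, by rw [← h1, pow_orderOf_eq_one]⟩

theorem inv_conj_pow' {s w : G} (h : s * w * s⁻¹ = w⁻¹) (b : ℕ) :
    s * w ^ b * s⁻¹ = (w ^ b)⁻¹ := by
  rw [← conj_pow, h, inv_pow]

theorem Hyp.prime_of_inv [Finite G] (h : Hyp G p) {s w : G} (hs : PEl 2 s) (hs1 : s ≠ 1)
    (hsw : s * w * s⁻¹ = w⁻¹) {l : ℕ} (hl : l.Prime) (hl2 : l ≠ 2) (hlw : l ∣ orderOf w) : l = p := by
  by_contra hlp
  have h1 : orderOf (w ^ (orderOf w / l)) = l := orderOf_pow_orderOf_div (orderOf_pos _).ne' hlw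
  have h2 : s * w ^ (orderOf w / l) * s⁻¹ = (w ^ (orderOf w / l))⁻¹ := inv_conj_pow' hsw _
  have h3 := pair h.hp Nat.prime_two hl h.hp2 hlp hl2 h.mix (pel_of_order_prime h1).zpowers hs.zpowers
    (by rw [Ne, zpowers_eq_bot]; exact hs1) (Or.inr (by
      rw [zpowers_le]
      apply mem_norm
      rintro _ ⟨j, rfl⟩
      show s * (w ^ (orderOf w / l)) ^ j * s⁻¹ ∈ _
      rw [← conj_zpow, h2]
      exact zpow_mem (inv_mem (mem_zpowers _)) j))
  rw [zpowers_eq_bot] at h3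
  rw [h3, orderOf_one] at h1
  exact hl.ne_one h1.symm

theorem Hyp.exists_invol [Finite G] (h : Hyp G p) : ∃ s : G, PEl 2 s ∧ s ≠ 1 := by
  obtain ⟨Q⟩ : Nonempty (Sylow 2 G) := inferInstance
  have h1 := h.cardQ Q
  have h2 : (Q : Subgroup G) ≠ ⊥ := by
    intro hh
    have h3 : Nat.card (Q : Subgroup G) = p + 1 := h1
    rw [hh, Subgroup.card_bot] at h3
    have := h.hp.two_le
    omega
  obtain ⟨s, hs, hs1⟩ : ∃ s ∈ (Q : Subgroup G), s ≠ 1 := by
    by_contra hcon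
    push Not at hcon
    exact h2 ((Subgroup.eq_bot_iff_forall _).2 hcon)
  exact ⟨s, pel_of_mem Q.isPGroup' hs, hs1⟩

theorem invol_conj {s t : G} (hs : s * s = 1) (ht : t * t = 1) : s * (s * t) * s⁻¹ = (s * t)⁻¹ := by
  have hs' : s⁻¹ = s := inv_eq_of_mul_eq_one_left hs
  have ht' : t⁻¹ = t := inv_eq_of_mul_eq_one_left ht
  rw [mul_inv_rev, hs', ht', ← mul_assoc s s t, hs, one_mul]

theorem Hyp.exists_inv [Finite G] (h : Hyp G p) {r : ℕ} (hr : r.Prime) (hrG : r ∣ Nat.card G)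
    (hrp : r ≠ p) (hr2 : r ≠ 2) : ∃ u y : G, PEl 2 u ∧ PEl p y ∧ y ≠ 1 ∧ u * y * u⁻¹ = y⁻¹ := by
  by_contra hcon
  push Not at hcon
  have hcomm : ∀ s t : G, s * s = 1 → t * t = 1 → s * t = t * s := by
    intro s t hs ht
    by_cases hs1 : s = 1
    · rw [hs1, one_mul, mul_one]
    have hw := invol_conj hs ht
    have hs2 : PEl 2 s := pel_two_of_sq hs
    have h1 : PEl 2 (s * t) := by
      apply pel_of_primes
      intro l hl hlw
      by_contra hl2
      have h2 := h.prime_of_inv hs2 hs1 hw hl hl2 hlw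
      subst h2
      have h3 : orderOf ((s * t) ^ (orderOf (s * t) / l)) = l :=
        orderOf_pow_orderOf_div (orderOf_pos _).ne' hlw
      refine hcon s _ hs2 (pel_of_order_prime h3) ?_ (inv_conj_pow' hw _)
      intro hh
      rw [hh, orderOf_one] at h3
      exact hl.ne_one h3.symm
    have h2 := h.sq h1
    have hs' : s⁻¹ = s := inv_eq_of_mul_eq_one_left hs
    have ht' : t⁻¹ = t := inv_eq_of_mul_eq_one_left ht
    have h3 : (s * t)⁻¹ = s * t := inv_eq_of_mul_eq_one_left h2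
    rw [mul_inv_rev, hs', ht'] at h3
    exact h3.symm
  obtain ⟨I, hI⟩ : ∃ I : Subgroup G, ∀ z, z ∈ I ↔ z * z = 1 := by
    refine ⟨⟨⟨⟨{z | z * z = 1}, ?_⟩, ?_⟩, ?_⟩, fun z => Iff.rfl⟩
    · intro a b ha hb
      show a * b * (a * b) = 1
      have ha' : a * a = 1 := ha
      have hb' : b * b = 1 := hb
      calc a * b * (a * b) = a * (b * a) * b := by group
        _ = a * (a * b) * b := by rw [hcomm a b ha hb]
        _ = (a * a) * (b * b) := by group
        _ = 1 := by rw [ha', hb', one_mul]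
    · show (1 : G) * 1 = 1
      rw [one_mul]
    · intro a ha
      show a⁻¹ * a⁻¹ = 1
      have ha' : a * a = 1 := ha
      rw [← mul_inv_rev, ha', inv_one]
  have hI2 : IsPGroup 2 I := by
    rintro ⟨z, hz⟩
    refine ⟨1, Subtype.ext ?_⟩
    show z ^ (2 ^ 1) = 1
    rw [pow_one, pow_two]
    exact (hI z).1 hz
  obtain ⟨s, hs, hs1⟩ := h.exists_invol
  have hI1 : I ≠ ⊥ := by
    intro hh
    have : s ∈ I := (hI s).2 (h.sq hs)
    rw [hh, mem_bot] at this
    exact hs1 this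
  haveI : Fact r.Prime := ⟨hr⟩
  obtain ⟨g, hg⟩ := exists_prime_orderOf_dvd_card' r hrG
  have h3 := pair h.hp Nat.prime_two hr h.hp2 hrp hr2 h.mix (pel_of_order_prime hg).zpowers hI2 hI1 (Or.inl (by
    rw [zpowers_le]
    apply mem_norm
    intro x hx
    rw [hI] at hx ⊢
    have : g * x * g⁻¹ * (g * x * g⁻¹) = g * (x * x) * g⁻¹ := by group
    rw [this, hx, mul_one, mul_inv_cancel]))
  rw [zpowers_eq_bot] at h3
  rw [h3, orderOf_one] at hg
  exact hr.ne_one hg.symm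

theorem Hyp.exists_P [Finite G] (h : Hyp G p) {u y : G} (hy : PEl p y)
    (huy : u * y * u⁻¹ = y⁻¹) : ∃ P : Sylow p G, y ∈ P ∧ ∃ v : G, PEl 2 v ∧ v * y * v⁻¹ = y⁻¹ ∧
      v ∈ normalizer ((P : Subgroup G) : Set G) := by
  haveI := h.fact
  obtain ⟨P, hP⟩ := hy.zpowers.exists_le_sylow
  have hyP : y ∈ P := hP (mem_zpowers y)
  have hPC : (P : Subgroup G) ≤ centralizer ({y} : Set G) := by
    intro k hk
    rw [mem_centralizer_singleton_iff]
    exact h.abp _ P.isPGroup' k hk y hyP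
  refine ⟨P, hyP, inv_norm huy hPC P.isPGroup' ?_⟩
  intro hd
  exact P.not_dvd_index (hd.trans (Subgroup.relIndex_dvd_index_of_le hPC))

theorem Hyp.y_ne (h : Hyp G p) {y : G} (hy : PEl p y) (hy1 : y ≠ 1) : y⁻¹ ≠ y := by
  intro hh
  have h1 : y * y = 1 := by
    nth_rewrite 1 [← hh]; exact inv_mul_cancel y
  exact hy1 (h.pel_eq_one hy (pel_two_of_sq h1))

theorem Hyp.compl_P [Finite G] (h : Hyp G p) (P : Sylow p G) {v : G} (hv : PEl 2 v) (hv1 : v ≠ 1)
    (hvP : v ∈ normalizer ((P : Subgroup G) : Set G)) :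
    ∃ A : Subgroup G, IsPGroup 2 A ∧ A ≤ normalizer ((P : Subgroup G) : Set G) ∧
      ∀ g ∈ normalizer ((P : Subgroup G) : Set G), ∃ k ∈ P, ∃ a ∈ A, g = k * a := by
  haveI := h.fact
  obtain ⟨N, hN⟩ : ∃ N : Subgroup G, N = normalizer ((P : Subgroup G) : Set G) := ⟨_, rfl⟩
  have hPN : (P : Subgroup G) ≤ N := by rw [hN]; exact le_normalizer
  haveI : ((P : Subgroup G).subgroupOf N).Normal := by
    rw [hN]; exact Subgroup.normal_in_normalizer
  have hcP : Nat.card ((P : Subgroup G).subgroupOf N) = Nat.card P :=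
    Nat.card_congr (Subgroup.subgroupOfEquivOfLe hPN).toEquiv
  have hidx : ¬ p ∣ ((P : Subgroup G).subgroupOf N).index := by
    intro hd
    exact P.not_dvd_index (hd.trans (Subgroup.relIndex_dvd_index_of_le hPN))
  have hcop : (Nat.card ((P : Subgroup G).subgroupOf N)).Coprime ((P : Subgroup G).subgroupOf N).index := by
    rw [hcP]
    obtain ⟨n, hn⟩ := P.isPGroup'.exists_card_eq
    have hn' : Nat.card P = p ^ n := hn
    rw [hn']
    exact Nat.Coprime.pow_left n ((Nat.Prime.coprime_iff_not_dvd h.hp).2 hidx)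
  obtain ⟨A, hA⟩ := Subgroup.exists_right_complement'_of_coprime hcop
  have hcA : Nat.card A = ((P : Subgroup G).subgroupOf N).index := hA.symm.index_eq_card.symm
  have hvN : v ∈ N := by rw [hN]; exact hvP
  have h2A : 2 ∣ Nat.card A := by
    have h1 : 2 ∣ Nat.card N := by
      have h2 : orderOf v = 2 := orderOf_eq_prime (by rw [pow_two]; exact h.sq hv) hv1
      rw [← h2]
      exact Subgroup.orderOf_dvd_natCard N hvN
    rw [← Subgroup.card_mul_index ((P : Subgroup G).subgroupOf N), hcP, ← hcA] at h1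
    rcases Nat.prime_two.dvd_mul.1 h1 with h2 | h2
    · exact absurd (prime_dvd_of_isPGroup h.hp Nat.prime_two P.isPGroup' h2) h.hp2.symm
    · exact h2
  refine ⟨A.map N.subtype, ?_, ?_, ?_⟩
  · apply h.mix
    · rw [Subgroup.card_map_of_injective N.subtype_injective]; exact h2A
    · rw [Subgroup.card_map_of_injective N.subtype_injective, hcA]; exact hidx
  · rw [← hN]; exact Subgroup.map_subtype_le _
  · intro g hg
    rw [← hN] at hg
    have h4 : (⟨g, hg⟩ : N) ∈ ((P : Subgroup G).subgroupOf N) ⊔ A := by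
      rw [hA.sup_eq_top]; exact mem_top _
    rw [Subgroup.mem_sup_of_normal_left] at h4
    obtain ⟨k, hk, a, ha, hka⟩ := h4
    refine ⟨k, hk, a, ⟨a, ha, rfl⟩, ?_⟩
    exact (congrArg Subtype.val hka).symm

theorem Hyp.P_ne [Finite G] (h : Hyp G p) (P : Sylow p G) : ∃ k ∈ P, k ≠ 1 := by
  haveI := h.fact
  by_contra hcon
  push Not at hcon
  have h1 : (P : Subgroup G) = ⊥ := (Subgroup.eq_bot_iff_forall _).2 hcon
  have h2 := P.dvd_card_of_dvd_card h.hpG
  have h3 : Nat.card (P : Subgroup G) = Nat.card P := rfl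
  rw [← h3, h1, Subgroup.card_bot] at h2
  exact h.hp.one_lt.ne' (Nat.dvd_one.1 h2)

/-- the standing assumption: an involution normalises a Sylow `p`-subgroup -/
theorem Hyp.e1 [Finite G] (h : Hyp G p) (hα : Alpha G p) (P : Sylow p G) {v : G} (hv : PEl 2 v) (hv1 : v ≠ 1)
    (hvP : v ∈ normalizer ((P : Subgroup G) : Set G)) :
    (∀ k ∈ P, v * k * v⁻¹ = k⁻¹) ∧
      ∀ g ∈ normalizer ((P : Subgroup G) : Set G), g ∈ P ∨ ∃ k ∈ P, g = k * v := by
  obtain ⟨A, hA, hAN, hdec⟩ := h.compl_P P hv hv1 hvP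
  have hP := P.isPGroup'
  have hainv : ∀ a ∈ A, a ≠ 1 → ∀ k ∈ P, a * k * a⁻¹ = k⁻¹ := by
    intro a ha ha1 k hk
    have haa : a * a = 1 := h.ab2 _ hA a ha
    have hai : a⁻¹ = a := inv_eq_of_mul_eq_one_left haa
    have hak : a * k * a⁻¹ ∈ (P : Subgroup G) := (mem_normalizer_iff.1 (hAN ha) k).1 hk
    have hkk : k * (a * k * a⁻¹) = (a * k * a⁻¹) * k := h.abp _ hP k hk _ hak
    have hw : k * (a * k * a⁻¹) ∈ (P : Subgroup G) := mul_mem hk hak
    have hwa : k * (a * k * a⁻¹) * a = a * (k * (a * k * a⁻¹)) := by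
      have h3 : a * (k * (a * k * a⁻¹)) * a⁻¹ = k * (a * k * a⁻¹) := by
        calc a * (k * (a * k * a⁻¹)) * a⁻¹ = (a * k * a⁻¹) * (a * a * k * (a⁻¹ * a⁻¹)) := by group
          _ = (a * k * a⁻¹) * k := by
              have : a⁻¹ * a⁻¹ = 1 := by rw [hai, haa]
              rw [haa, this, one_mul, mul_one]
          _ = k * (a * k * a⁻¹) := hkk.symm
      calc k * (a * k * a⁻¹) * a = a * (k * (a * k * a⁻¹)) * a⁻¹ * a := by rw [h3]
        _ = a * (k * (a * k * a⁻¹)) := by group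
    obtain ⟨Q, hQ⟩ := hA.exists_le_sylow
    have h1 : k * (a * k * a⁻¹) = 1 := by
      apply h.tt P _ hw
      intro g hg
      obtain ⟨k', hk', a', ha', rfl⟩ := hdec g hg
      have h2 : k' * (k * (a * k * a⁻¹)) = (k * (a * k * a⁻¹)) * k' := h.abp _ hP k' hk' _ hw
      have h3 : (k * (a * k * a⁻¹)) * a' = a' * (k * (a * k * a⁻¹)) :=
        hα Q a (hQ ha) ha1 _ (pel_of_mem hP hw) hwa a' (hQ ha')
      rw [mul_assoc, ← h3, ← mul_assoc, h2, mul_assoc]
    exact (inv_eq_of_mul_eq_one_right h1).symm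
  have huniq : ∀ a ∈ A, ∀ b ∈ A, a ≠ 1 → b ≠ 1 → a = b := by
    intro a ha b hb ha1 hb1
    by_contra hab
    obtain ⟨k, hk, hk1⟩ := h.P_ne P
    have haa : a * a = 1 := h.ab2 _ hA a ha
    have h1 : a * b ≠ 1 := by
      intro hh
      apply hab
      calc a = a * b * b⁻¹ := by group
        _ = b⁻¹ := by rw [hh, one_mul]
        _ = b := inv_eq_of_mul_eq_one_left (h.ab2 _ hA b hb)
    have h2 := hainv (a * b) (mul_mem ha hb) h1 k hk
    have h3 : a * b * k * (a * b)⁻¹ = k := by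
      calc a * b * k * (a * b)⁻¹ = a * (b * k * b⁻¹) * a⁻¹ := by group
        _ = (a * k * a⁻¹)⁻¹ := by rw [hainv b hb hb1 k hk]; group
        _ = k := by rw [hainv a ha ha1 k hk, inv_inv]
    rw [h3] at h2
    exact h.y_ne (pel_of_mem hP hk) hk1 h2.symm
  obtain ⟨k0, hk0, a0, ha0, hv0⟩ := hdec v hvP
  have ha01 : a0 ≠ 1 := by
    rintro rfl
    rw [mul_one] at hv0
    apply hv1
    exact h.pel_eq_one (by rw [hv0]; exact pel_of_mem hP hk0) hv
  refine ⟨fun k hk => ?_, fun g hg => ?_⟩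
  · rw [hv0]
    calc k0 * a0 * k * (k0 * a0)⁻¹ = k0 * (a0 * k * a0⁻¹) * k0⁻¹ := by group
      _ = k0 * k⁻¹ * k0⁻¹ := by rw [hainv a0 ha0 ha01 k hk]
      _ = k⁻¹ := by
        rw [h.abp _ hP k0 hk0 k⁻¹ (inv_mem hk), mul_inv_cancel_right]
  · obtain ⟨k, hk, a, ha, rfl⟩ := hdec g hg
    by_cases ha1 : a = 1
    · left; rw [ha1, mul_one]; exact hk
    · right
      rw [huniq a ha a0 ha0 ha1 ha01]
      refine ⟨k * k0⁻¹, mul_mem hk (inv_mem hk0), ?_⟩
      rw [hv0]; group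

/-- every Sylow `p`-subgroup is normalised by an involution if one is -/
theorem exists_v_all [Finite G] [Fact p.Prime] {P : Sylow p G} {v : G} (hv : PEl 2 v) (hv1 : v ≠ 1)
    (hvP : v ∈ normalizer ((P : Subgroup G) : Set G)) (P' : Sylow p G) :
    ∃ v' : G, PEl 2 v' ∧ v' ≠ 1 ∧ v' ∈ normalizer ((P' : Subgroup G) : Set G) := by
  obtain ⟨g, hg⟩ := MulAction.exists_smul_eq G P P'
  refine ⟨g * v * g⁻¹, hv.conj g, ?_, ?_⟩
  · intro hh
    apply hv1
    have : v = g⁻¹ * (g * v * g⁻¹) * g := by group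
    rw [this, hh]; group
  · have hmem : ∀ x : G, x ∈ (P' : Subgroup G) ↔ g⁻¹ * x * g ∈ (P : Subgroup G) := by
      intro x
      rw [← hg]
      have h1 : ((g • P : Sylow p G) : Subgroup G) = (P : Subgroup G).map (MulAut.conj g).toMonoidHom := rfl
      rw [h1, H32.mem_map_conj]
    apply mem_norm
    intro x hx
    rw [hmem] at hx ⊢
    have h1 : g⁻¹ * (g * v * g⁻¹ * x * (g * v * g⁻¹)⁻¹) * g = v * (g⁻¹ * x * g) * v⁻¹ := by group
    rw [h1]
    exact (mem_normalizer_iff.1 hvP _).1 hx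

theorem Hyp.e2 [Finite G] (h : Hyp G p) (hα : Alpha G p) {P : Sylow p G} {v : G} (hv : PEl 2 v) (hv1 : v ≠ 1)
    (hvP : v ∈ normalizer ((P : Subgroup G) : Set G)) {t y : G} (ht : PEl 2 t) (ht1 : t ≠ 1) (hy : PEl p y)
    (hyt : y * t = t * y) : y = 1 := by
  haveI := h.fact
  haveI : Fact (Nat.Prime 2) := ⟨Nat.prime_two⟩
  by_contra hy1
  obtain ⟨P', hP'⟩ := hy.zpowers.exists_le_sylow
  have hyP : y ∈ P' := hP' (mem_zpowers y)
  obtain ⟨u, hu, hu1, huP⟩ := exists_v_all hv hv1 hvP P'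
  have huy := (h.e1 hα P' hu hu1 huP).1 y hyP
  obtain ⟨Q, hQ⟩ := Hyp.exists_syl ht
  have hQC : (Q : Subgroup G) ≤ centralizer ({y} : Set G) := by
    intro s hs
    rw [mem_centralizer_singleton_iff]
    exact (hα Q t hQ ht1 y hy hyt s hs).symm
  obtain ⟨w, hw, hwy, hwQ⟩ := inv_norm huy hQC Q.isPGroup' (by
    intro hd
    exact Q.not_dvd_index (hd.trans (Subgroup.relIndex_dvd_index_of_le hQC)))
  have h1 : w ∈ Q := syl_mem Nat.prime_two Q hw hwQ
  have h2 := hQC h1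
  rw [mem_centralizer_singleton_iff] at h2
  apply h.y_ne hy hy1
  rw [← hwy, h2, mul_inv_cancel_right]

theorem Hyp.e3 [Finite G] (h : Hyp G p) (hα : Alpha G p) {P : Sylow p G} {v : G} (hv : PEl 2 v) (hv1 : v ≠ 1)
    (hvP : v ∈ normalizer ((P : Subgroup G) : Set G)) (Q : Sylow 2 G) {t z : G} (ht : t ∈ Q) (ht1 : t ≠ 1)
    (hzt : z * t = t * z) : z ∈ Q := by
  obtain ⟨K, hK, -, hK2, hK3⟩ := h.cent Q ht ht1
  obtain ⟨k, hk, s, hs, rfl⟩ := hK3 z hzt
  have h1 : k = 1 := h.e2 hα hv hv1 hvP (pel_of_mem Q.isPGroup' ht) ht1 (pel_of_mem hK hk) (hK2 k hk)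
  rw [h1, one_mul]; exact hs

theorem Hyp.e4 [Finite G] (h : Hyp G p) (hα : Alpha G p) {P : Sylow p G} {v : G} (hv : PEl 2 v) (hv1 : v ≠ 1)
    (hvP : v ∈ normalizer ((P : Subgroup G) : Set G)) (P' : Sylow p G) {y : G} (hy : y ∈ P') (hy1 : y ≠ 1) :
    centralizer ({y} : Set G) = P' := by
  haveI := h.fact
  haveI : Fact (Nat.Prime 2) := ⟨Nat.prime_two⟩
  have hyp : PEl p y := pel_of_mem P'.isPGroup' hy
  obtain ⟨u, hu, hu1, huP⟩ := exists_v_all hv hv1 hvP P'
  have huy := (h.e1 hα P' hu hu1 huP).1 y hy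
  have h2 : ¬ 2 ∣ Nat.card (centralizer ({y} : Set G)) := by
    intro hd
    obtain ⟨⟨t, ht⟩, hto⟩ := exists_prime_orderOf_dvd_card' 2 hd
    rw [Subgroup.orderOf_mk] at hto
    rw [mem_centralizer_singleton_iff] at ht
    exact hy1 (h.e2 hα hv hv1 hvP (pel_of_order_prime hto) (by
      rintro rfl
      rw [orderOf_one] at hto
      omega) hyp ht.symm)
  have h3 : IsPGroup p (centralizer ({y} : Set G)) :=
    prime_of_norm h.hp Nat.prime_two h.hp2 h.mix h2 hu hu1 (norm_cent_of_inv huy)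
  apply P'.is_maximal' h3
  intro k hk
  rw [mem_centralizer_singleton_iff]
  exact h.abp _ P'.isPGroup' k hk y hy

end Cfsg.Agent.H71.TwoMix
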