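import Cfsg.Agent.H71.TwoMix3

/-!
The counting argument.
-/

set_option autoImplicit false
set_option linter.unusedSectionVars false

namespace Cfsg.Agent.H71.TwoMix

open Subgroup

variable {G : Type*} [Group G] {p : ℕ}

theorem mem_smul_syl [Finite G] [Fact p.Prime] (g : G) (P : Sylow p G) (x : G) :
    x ∈ ((g • P : Sylow p G) : Subgroup G) ↔ g⁻¹ * x * g ∈ (P : Subgroup G) := by
  have h1 : ((g • P : Sylow p G) : Subgroup G) = (P : Subgroup G).map (MulAut.conj g).toMonoidHom := rfl
  rw [h1, H32.mem_map_conj]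

theorem mem_norm_smul_syl [Finite G] [Fact p.Prime] (g : G) (P : Sylow p G) (x : G)
    (hx : x ∈ normalizer ((P : Subgroup G) : Set G)) :
    g * x * g⁻¹ ∈ normalizer (((g • P : Sylow p G) : Subgroup G) : Set G) := by
  apply mem_norm
  intro y hy
  rw [mem_smul_syl] at hy ⊢
  have h1 : g⁻¹ * (g * x * g⁻¹ * y * (g * x * g⁻¹)⁻¹) * g = x * (g⁻¹ * y * g) * x⁻¹ := by group
  rw [h1]
  exact (mem_normalizer_iff.1 hx _).1 hy

theorem Hyp.p_dvd_inv [Finite G] (h : Hyp G p) (hα : Alpha G p) {P : Sylow p G} {u : G} (hu : PEl 2 u)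
    (hu1 : u ≠ 1) (huP : u ∈ normalizer ((P : Subgroup G) : Set G)) :
    p ∣ Nat.card {s : G // s * s = 1 ∧ s ≠ 1} := by
  haveI := h.fact
  letI : MulAction (P : Subgroup G) {s : G // s * s = 1 ∧ s ≠ 1} :=
    { smul := fun k s => ⟨k * s.1 * (k : G)⁻¹, by
        have : (k : G) * s.1 * (k : G)⁻¹ * ((k : G) * s.1 * (k : G)⁻¹) = k * (s.1 * s.1) * (k : G)⁻¹ := by group
        rw [this, s.2.1, mul_one, mul_inv_cancel], by
        intro hh
        apply s.2.2
        have : s.1 = (k : G)⁻¹ * ((k : G) * s.1 * (k : G)⁻¹) * k := by group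
        rw [this, hh]; group⟩
      one_smul := fun s => Subtype.ext (by
        show ((1 : (P : Subgroup G)) : G) * s.1 * ((1 : (P : Subgroup G)) : G)⁻¹ = s.1
        simp)
      mul_smul := fun a b s => Subtype.ext (by
        show ((a * b : (P : Subgroup G)) : G) * s.1 * ((a * b : (P : Subgroup G)) : G)⁻¹
          = (a : G) * ((b : G) * s.1 * (b : G)⁻¹) * (a : G)⁻¹
        rw [Subgroup.coe_mul]; group) }
  have h1 := P.isPGroup'.card_modEq_card_fixedPoints {s : G // s * s = 1 ∧ s ≠ 1}
  have h2 : Nat.card (MulAction.fixedPoints (P : Subgroup G) {s : G // s * s = 1 ∧ s ≠ 1}) = 0 := by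
    rw [Nat.card_eq_zero]
    left
    rw [Set.isEmpty_coe_sort, Set.eq_empty_iff_forall_notMem]
    intro s hs
    obtain ⟨k, hk, hk1⟩ := h.P_ne P
    have h3 : k * s.1 * k⁻¹ = s.1 := congrArg Subtype.val (hs ⟨k, hk⟩)
    exact hk1 (h.e2 hα hu hu1 huP (pel_two_of_sq s.2.1) s.2.2 (pel_of_mem P.isPGroup' hk) (by
      calc k * s.1 = k * s.1 * k⁻¹ * k := by group
        _ = s.1 * k := by rw [h3]))
  rw [h2] at h1
  exact (Nat.modEq_zero_iff_dvd).1 h1

theorem Hyp.orbit_card [Finite G] (h : Hyp G p) (hα : Alpha G p) {P : Sylow p G} {u : G} (hu : PEl 2 u)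
    (hu1 : u ≠ 1) (huP : u ∈ normalizer ((P : Subgroup G) : Set G)) :
    {P' : Sylow p G | u ∈ normalizer ((P' : Subgroup G) : Set G)}.ncard ∣ p + 1 := by
  haveI := h.fact
  obtain ⟨Q, hQ⟩ := Hyp.exists_syl hu
  have hQC : centralizer ({u} : Set G) = Q := by
    apply le_antisymm
    · intro z hz
      rw [mem_centralizer_singleton_iff] at hz
      exact h.e3 hα hu hu1 huP Q hQ hu1 hz
    · intro z hz
      rw [mem_centralizer_singleton_iff]
      exact h.comm2 Q.isPGroup' hz hQ
  have horb : MulAction.orbit (centralizer ({u} : Set G)) P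
      = {P' : Sylow p G | u ∈ normalizer ((P' : Subgroup G) : Set G)} := by
    ext P'
    constructor
    · rintro ⟨⟨c, hc⟩, rfl⟩
      have h1 := mem_norm_smul_syl c P u huP
      rw [mem_centralizer_singleton_iff] at hc
      rw [hc, mul_inv_cancel_right] at h1
      exact h1
    · intro hP'
      obtain ⟨g, hg⟩ := MulAction.exists_smul_eq G P P'
      have h1 := mem_norm_smul_syl g P u huP
      rw [hg] at h1
      have hg1 : g * u * g⁻¹ ≠ 1 := by
        intro hh
        apply hu1
        have : u = g⁻¹ * (g * u * g⁻¹) * g := by group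
        rw [this, hh]; group
      obtain ⟨hinv, hdec⟩ := h.e1 hα P' hu hu1 hP'
      rcases hdec _ h1 with h2 | ⟨k, hk, hk2⟩
      · exact absurd (h.pel_eq_one (pel_of_mem P'.isPGroup' h2) (hu.conj g)) hg1
      · -- find `c ∈ P'` with `c * k * c = 1`
        obtain ⟨m, hm⟩ := pel_of_mem P'.isPGroup' hk
        obtain ⟨j, hj⟩ : ∃ j, p ^ m = 2 * j + 1 := ⟨p ^ m / 2, by have := h.odd_pow m; omega⟩
        have hc : k ^ j ∈ (P' : Subgroup G) := pow_mem hk j
        have hck : k ^ j * k * k ^ j = 1 := by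
          rw [← pow_succ, ← pow_add, ← hm, hj]
          congr 1
          omega
        refine ⟨⟨k ^ j * g, ?_⟩, ?_⟩
        · rw [mem_centralizer_singleton_iff]
          have h3 : u * (k ^ j)⁻¹ * u⁻¹ = k ^ j := by
            rw [hinv _ (inv_mem hc), inv_inv]
          have h4 : k ^ j * g * u * (k ^ j * g)⁻¹ = u := by
            calc k ^ j * g * u * (k ^ j * g)⁻¹ = k ^ j * (g * u * g⁻¹) * (k ^ j)⁻¹ := by group
              _ = k ^ j * k * (u * (k ^ j)⁻¹ * u⁻¹) * u := by rw [hk2]; group
              _ = u := by rw [h3, hck, one_mul]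
          calc k ^ j * g * u = k ^ j * g * u * (k ^ j * g)⁻¹ * (k ^ j * g) := by group
            _ = u * (k ^ j * g) := by rw [h4]
        · show (k ^ j * g) • P = P'
          rw [mul_smul, hg]
          exact Sylow.smul_eq_iff_mem_normalizer.2 (Subgroup.le_normalizer hc)
  rw [← horb, ← MulAction.index_stabilizer]
  have h5 : Nat.card (centralizer ({u} : Set G)) = p + 1 := by
    rw [hQC]; exact h.cardQ Q
  rw [← h5]
  exact Subgroup.index_dvd_card _

theorem Hyp.e5 [Finite G] (h : Hyp G p) (hα : Alpha G p) {P : Sylow p G} {u : G} (hu : PEl 2 u)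
    (hu1 : u ≠ 1) (huP : u ∈ normalizer ((P : Subgroup G) : Set G)) : False := by
  classical
  haveI := h.fact
  haveI : Fintype G := Fintype.ofFinite G
  haveI : Fintype (Sylow p G) := Fintype.ofFinite _
  obtain ⟨Q, hQ⟩ := Hyp.exists_syl hu
  have huu : u * u = 1 := h.sq hu
  have hui : u⁻¹ = u := inv_eq_of_mul_eq_one_left huu
  -- the Sylow subgroup of a `p`-element
  have hf : ∀ y : G, ∃ P' : Sylow p G, PEl p y → y ∈ P' := by
    intro y
    by_cases hy : PEl p y
    · obtain ⟨P', hP'⟩ := hy.zpowers.exists_le_sylow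
      exact ⟨P', fun _ => hP' (mem_zpowers y)⟩
    · exact ⟨P, fun hh => absurd hh hy⟩
  choose f hf using hf
  obtain ⟨Inv, hInv⟩ : ∃ S : Finset G, S = Finset.univ.filter (fun s => s * s = 1 ∧ s ≠ 1) := ⟨_, rfl⟩
  obtain ⟨Iu, hIu⟩ : ∃ S : Finset G,
      S = Finset.univ.filter (fun y => PEl p y ∧ y ≠ 1 ∧ u * y * u⁻¹ = y⁻¹) := ⟨_, rfl⟩
  obtain ⟨Su, hSu⟩ : ∃ S : Finset (Sylow p G),
      S = Finset.univ.filter (fun P' : Sylow p G => u ∈ normalizer ((P' : Subgroup G) : Set G)) := ⟨_, rfl⟩
  have mIu : ∀ y, y ∈ Iu ↔ (PEl p y ∧ y ≠ 1 ∧ u * y * u⁻¹ = y⁻¹) := by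
    intro y; rw [hIu, Finset.mem_filter]; simp
  have mSu : ∀ P' : Sylow p G, P' ∈ Su ↔ u ∈ normalizer ((P' : Subgroup G) : Set G) := by
    intro y; rw [hSu, Finset.mem_filter]; simp
  have mInv : ∀ y, y ∈ Inv ↔ (y * y = 1 ∧ y ≠ 1) := by
    intro y; rw [hInv, Finset.mem_filter]; simp
  -- (1)
  have h1 : p ∣ Inv.card := by
    have := h.p_dvd_inv hα hu hu1 huP
    rw [Nat.card_eq_fintype_card, Fintype.card_subtype] at this
    rw [hInv]; exact this
  -- (4)
  have h4 : Su.card ∣ p + 1 := by
    have := h.orbit_card hα hu hu1 huP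
    rw [Set.ncard_eq_toFinset_card'] at this
    rw [hSu]
    convert this using 2
    ext P'
    simp
  -- (2)
  have h2 : Inv.card = p + Iu.card := by
    have hdec : Inv = ((Finset.univ.filter (fun s => s ∈ Q)).erase 1) ∪ Iu.image (fun y => u * y) := by
      ext s
      rw [mInv, Finset.mem_union, Finset.mem_erase, Finset.mem_filter, Finset.mem_image]
      constructor
      · rintro ⟨hss, hs1⟩
        have hsi : s⁻¹ = s := inv_eq_of_mul_eq_one_left hss
        by_cases hsu : s * u = u * s
        · left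
          exact ⟨hs1, Finset.mem_univ _, h.e3 hα hu hu1 huP Q hQ hu1 hsu⟩
        · right
          have hw := invol_conj huu hss
          refine ⟨u * s, (mIu _).2 ⟨?_, ?_, hw⟩, by rw [← mul_assoc, huu, one_mul]⟩
          · apply pel_of_primes
            intro l hl hlw
            by_cases hl2 : l = 2
            · exfalso
              subst hl2
              have h5 : orderOf ((u * s) ^ (orderOf (u * s) / 2)) = 2 :=
                orderOf_pow_orderOf_div (orderOf_pos _).ne' hlw
              obtain ⟨z, hz⟩ : ∃ z, z = (u * s) ^ (orderOf (u * s) / 2) := ⟨_, rfl⟩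
              rw [← hz] at h5
              have hz2 : PEl 2 z := pel_of_order_prime h5
              have hz1 : z ≠ 1 := by
                rintro rfl
                rw [orderOf_one] at h5
                omega
              have hzu : u * z * u⁻¹ = z⁻¹ := by rw [hz]; exact inv_conj_pow' hw _
              have hzi : z⁻¹ = z := inv_eq_of_mul_eq_one_left (h.sq hz2)
              rw [hzi] at hzu
              have hzu' : u * z = z * u := by
                calc u * z = u * z * u⁻¹ * u := by group
                  _ = z * u := by rw [hzu]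
              have hzw : (u * s) * z = z * (u * s) := by
                rw [hz, ← pow_succ, ← pow_succ']
              obtain ⟨Q', hQ'⟩ := Hyp.exists_syl hz2
              have h6 : u ∈ Q' := h.e3 hα hu hu1 huP Q' hQ' hz1 hzu'
              have h7 : u * s ∈ Q' := h.e3 hα hu hu1 huP Q' hQ' hz1 hzw
              have h8 : u * (u * s) = (u * s) * u := h.comm2 Q'.isPGroup' h6 h7
              apply hsu
              rw [← mul_assoc, huu, one_mul] at h8
              calc s * u = (u * s) * u * u := by rw [← h8]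
                _ = u * s * (u * u) := by group
                _ = u * s := by rw [huu, mul_one]
            · exact h.prime_of_inv hu hu1 hw hl hl2 hlw
          · intro hh
            apply hsu
            have : s = u := by
              calc s = u⁻¹ * (u * s) := by group
                _ = u := by rw [hh, mul_one, hui]
            rw [this]
      · rintro (⟨hs1, -, hsQ⟩ | ⟨y, hy, rfl⟩)
        · exact ⟨h.ab2 _ Q.isPGroup' s hsQ, hs1⟩
        · obtain ⟨hy, hy1, hinv⟩ := (mIu y).1 hy
          refine ⟨?_, ?_⟩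
          · have h5 : u * y = y⁻¹ * u := by
              calc u * y = u * y * u⁻¹ * u := by group
                _ = y⁻¹ * u := by rw [hinv]
            calc u * y * (u * y) = y⁻¹ * (u * u) * y := by
                  nth_rewrite 1 [h5]; group
              _ = 1 := by rw [huu]; group
          · intro hh
            have h5 : y = u := by
              calc y = u⁻¹ * (u * y) := by group
                _ = u := by rw [hh, mul_one, hui]
            exact hy1 (h.pel_eq_one hy (by rw [h5]; exact hu))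
    have hdisj : Disjoint ((Finset.univ.filter (fun s => s ∈ Q)).erase 1) (Iu.image (fun y => u * y)) := by
      rw [Finset.disjoint_left]
      intro s hs hs'
      rw [Finset.mem_erase, Finset.mem_filter] at hs
      rw [Finset.mem_image] at hs'
      obtain ⟨y, hy, rfl⟩ := hs'
      obtain ⟨hy, hy1, hinv⟩ := (mIu y).1 hy
      have h5 : y ∈ (Q : Subgroup G) := by
        have : y = u⁻¹ * (u * y) := by group
        rw [this]
        exact mul_mem (inv_mem hQ) hs.2.2
      exact hy1 (h.pel_eq_one hy (pel_of_mem Q.isPGroup' h5))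
    rw [hdec, Finset.card_union_of_disjoint hdisj, Finset.card_image_of_injective _ (mul_right_injective u)]
    congr 1
    have hm : (1 : G) ∈ Finset.univ.filter (fun s => s ∈ Q) := by
      rw [Finset.mem_filter]; exact ⟨Finset.mem_univ _, (Q : Subgroup G).one_mem⟩
    rw [Finset.card_erase_of_mem hm]
    have h5 : (Finset.univ.filter (fun s => s ∈ Q)).card = Nat.card Q := by
      rw [Nat.card_eq_fintype_card, Fintype.card_subtype]; rfl
    rw [h5, h.cardQ Q]
    rfl
  -- (3)
  have hcent : ∀ y : G, PEl p y → y ≠ 1 → ∀ P' : Sylow p G, y ∈ P' → P' = f y := by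
    intro y hy hy1 P' hP'
    apply Sylow.ext
    rw [← h.e4 hα hu hu1 huP P' hP' hy1, ← h.e4 hα hu hu1 huP (f y) (hf y hy) hy1]
  have h3 : Iu.card = Su.card * (Nat.card P - 1) := by
    have h5 : ∀ y ∈ Iu, f y ∈ Su := by
      intro y hy
      obtain ⟨hy, hy1, hinv⟩ := (mIu y).1 hy
      rw [mSu, ← h.e4 hα hu hu1 huP (f y) (hf y hy) hy1]
      exact norm_cent_of_inv hinv
    rw [Finset.card_eq_sum_card_fiberwise h5]
    rw [Finset.sum_const_nat (m := Nat.card P - 1)]
    intro b hb
    have hb' := (mSu b).1 hb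
    have h6 : Iu.filter (fun y => f y = b) = (Finset.univ.filter (fun y => y ∈ b)).erase 1 := by
      ext y
      rw [Finset.mem_filter, mIu, Finset.mem_erase, Finset.mem_filter]
      constructor
      · rintro ⟨⟨hy, hy1, -⟩, rfl⟩
        exact ⟨hy1, Finset.mem_univ _, hf y hy⟩
      · rintro ⟨hy1, -, hyb⟩
        have hy : PEl p y := pel_of_mem b.isPGroup' hyb
        exact ⟨⟨hy, hy1, (h.e1 hα b hu hu1 hb').1 y hyb⟩, (hcent y hy hy1 b hyb).symm⟩
    have hm : (1 : G) ∈ Finset.univ.filter (fun y => y ∈ b) := by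
      rw [Finset.mem_filter]; exact ⟨Finset.mem_univ _, (b : Subgroup G).one_mem⟩
    rw [h6, Finset.card_erase_of_mem hm]
    have h7 : (Finset.univ.filter (fun y => y ∈ b)).card = Nat.card b := by
      rw [Nat.card_eq_fintype_card, Fintype.card_subtype]; rfl
    rw [h7]
    congr 1
    exact Nat.card_congr (Sylow.equiv b P).toEquiv
  -- conclusion
  have h5 : p ∣ Iu.card := by
    rw [h2] at h1
    exact (Nat.dvd_add_right (dvd_refl p)).1 h1
  have h6 : p ∣ Nat.card P := P.dvd_card_of_dvd_card h.hpG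
  have h7 : ¬ p ∣ (Nat.card P - 1) := by
    intro hd
    have h8 : 0 < Nat.card P := Nat.card_pos
    have h9 : p ∣ Nat.card P - (Nat.card P - 1) := Nat.dvd_sub h6 hd
    have h10 : Nat.card P - (Nat.card P - 1) = 1 := by omega
    rw [h10] at h9
    exact h.hp.one_lt.ne' (Nat.dvd_one.1 h9)
  rw [h3] at h5
  rcases h.hp.dvd_mul.1 h5 with h8 | h8
  · have h9 := (Nat.dvd_add_right (dvd_refl p)).1 (h8.trans h4)
    exact h.hp.one_lt.ne' (Nat.dvd_one.1 h9)
  · exact h7 h8

end Cfsg.Agent.H71.TwoMix
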