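import Cfsg.Agent.H71.TwoMix4

/-!
The case of Sylow 2-subgroups of order 4.
-/

set_option autoImplicit false
set_option linter.unusedSectionVars false

namespace Cfsg.Agent.H71.TwoMix

open Subgroup

variable {G : Type*} [Group G] {p : ℕ}

structure C3 (p : ℕ) (Q : Sylow 2 G) (P : Sylow p G) (t s : G) : Prop where
  h : Hyp G p
  p3 : p = 3
  tQ : t ∈ Q
  t1 : t ≠ 1
  sQ : s ∈ Q
  s1 : s ≠ 1
  st : s ≠ t
  sinv : ∀ k ∈ P, s * k * s⁻¹ = k⁻¹
  tcent : ∀ k ∈ P, t * k = k * t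
  cent : ∀ z : G, z * t = t * z → ∃ k ∈ P, ∃ q ∈ Q, z = k * q
  centy : ∀ y ∈ P, y ≠ 1 → ∀ z : G, z * y = y * z → ∃ k ∈ P, z = k ∨ z = k * t

theorem Hyp.q_elems [Finite G] (h : Hyp G p) (p3 : p = 3) (Q : Sylow 2 G) {t s : G} (ht : t ∈ Q) (ht1 : t ≠ 1)
    (hs : s ∈ Q) (hs1 : s ≠ 1) (hst : s ≠ t) : ∀ b ∈ Q, b = 1 ∨ b = t ∨ b = s ∨ b = t * s := by
  classical
  have htt : t * t = 1 := h.ab2 _ Q.isPGroup' t ht
  have hss : s * s = 1 := h.ab2 _ Q.isPGroup' s hs
  have hti : t⁻¹ = t := inv_eq_of_mul_eq_one_left htt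
  have hts1 : t * s ≠ 1 := by
    intro hh
    apply hst
    calc s = t⁻¹ * (t * s) := by group
      _ = t := by rw [hh, mul_one, hti]
  have hts2 : t * s ≠ t := by
    intro hh
    exact hs1 (mul_eq_left.1 hh)
  have hts3 : t * s ≠ s := by
    intro hh
    exact ht1 (mul_eq_right.1 hh)
  have hsub : ((({1, t, s, t * s} : Finset G) : Set G)) ⊆ ((Q : Subgroup G) : Set G) := by
    intro b hb
    simp only [Finset.coe_insert, Finset.coe_singleton, Set.mem_insert_iff, Set.mem_singleton_iff] at hb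
    rcases hb with rfl | rfl | rfl | rfl
    · exact one_mem _
    · exact ht
    · exact hs
    · exact mul_mem (show t ∈ (Q : Subgroup G) from ht) hs
  have hcard : (({1, t, s, t * s} : Finset G)).card = 4 := by
    rw [Finset.card_insert_of_notMem, Finset.card_insert_of_notMem, Finset.card_insert_of_notMem,
      Finset.card_singleton]
    · rw [Finset.mem_singleton]; exact hts3.symm
    · rw [Finset.mem_insert, Finset.mem_singleton]
      rintro (hh | hh)
      · exact hst hh.symm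
      · exact hts2 hh.symm
    · rw [Finset.mem_insert, Finset.mem_insert, Finset.mem_singleton]
      rintro (hh | hh | hh)
      · exact ht1 hh.symm
      · exact hs1 hh.symm
      · exact hts1 hh.symm
  have heq := Set.eq_of_subset_of_ncard_le hsub (by
    rw [Set.ncard_coe_finset, hcard]
    have h1 := h.cardQ Q
    rw [p3] at h1
    exact h1.le)
  intro b hb
  have : b ∈ ((({1, t, s, t * s} : Finset G) : Set G)) := by rw [heq]; exact hb
  simpa using this

theorem Hyp.norm_eq [Finite G] (h : Hyp G p) (Q : Sylow 2 G) (P : Sylow p G) {v : G} (hv : v ∈ Q) (hv1 : v ≠ 1)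
    (hQP : (Q : Subgroup G) ≤ normalizer ((P : Subgroup G) : Set G)) :
    ∀ g ∈ normalizer ((P : Subgroup G) : Set G), ∃ k ∈ P, ∃ q ∈ Q, g = k * q := by
  haveI := h.fact
  obtain ⟨A, hA, hAN, hdec⟩ := h.compl_P P (pel_of_mem Q.isPGroup' hv) hv1 (hQP hv)
  have hcop : ∀ B : Subgroup G, IsPGroup 2 B → (P : Subgroup G) ⊓ B = ⊥ := by
    intro B hB
    apply (Subgroup.eq_bot_iff_forall _).2
    intro x hx
    obtain ⟨h1, h2⟩ := Subgroup.mem_inf.1 hx
    exact h.pel_eq_one (pel_of_mem P.isPGroup' h1) (pel_of_mem hB h2)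
  have hcardA : Nat.card A ≤ Nat.card (Q : Subgroup G) := (h.card_le hA).trans (h.cardQ Q).ge
  have h1 := H32.card_sup_mul_card_inf hAN
  have h2 := H32.card_sup_mul_card_inf hQP
  rw [hcop A hA, Subgroup.card_bot, mul_one] at h1
  rw [hcop _ Q.isPGroup', Subgroup.card_bot, mul_one] at h2
  have h3 : normalizer ((P : Subgroup G) : Set G) ≤ (P : Subgroup G) ⊔ A := by
    intro g hg
    obtain ⟨k, hk, a, ha, rfl⟩ := hdec g hg
    exact mul_mem (mem_sup_left hk) (mem_sup_right ha)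
  have h4 : (P : Subgroup G) ⊔ (Q : Subgroup G) = normalizer ((P : Subgroup G) : Set G) := by
    apply Subgroup.eq_of_le_of_card_ge (sup_le le_normalizer hQP)
    calc Nat.card (normalizer ((P : Subgroup G) : Set G)) ≤ Nat.card ((P : Subgroup G) ⊔ A : Subgroup G) :=
          Subgroup.card_le_of_le h3
      _ = Nat.card (P : Subgroup G) * Nat.card A := h1
      _ ≤ Nat.card (P : Subgroup G) * Nat.card (Q : Subgroup G) := Nat.mul_le_mul_left _ hcardA
      _ = Nat.card ((P : Subgroup G) ⊔ (Q : Subgroup G) : Subgroup G) := h2.symm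
  intro g hg
  rw [← h4, H32.mem_sup_of_le_normalizer hQP] at hg
  obtain ⟨k, hk, q, hq, hkq⟩ := hg
  exact ⟨k, hk, q, hq, hkq.symm⟩

theorem Hyp.conj_comm (h : Hyp G p) {X : Subgroup G} (hX : IsPGroup p X) {a k : G}
    (haa : a * a = 1) (hk : k ∈ X) (hak : a * k * a⁻¹ ∈ X) :
    k * (a * k * a⁻¹) * a = a * (k * (a * k * a⁻¹)) := by
  have hai : a⁻¹ = a := inv_eq_of_mul_eq_one_left haa
  have hkk : k * (a * k * a⁻¹) = (a * k * a⁻¹) * k := h.abp _ hX k hk _ hak
  have h3 : a * (k * (a * k * a⁻¹)) * a⁻¹ = k * (a * k * a⁻¹) := by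
    calc a * (k * (a * k * a⁻¹)) * a⁻¹ = (a * k * a⁻¹) * (a * a * k * (a⁻¹ * a⁻¹)) := by group
      _ = (a * k * a⁻¹) * k := by
          have : a⁻¹ * a⁻¹ = 1 := by rw [hai, haa]
          rw [haa, this, one_mul, mul_one]
      _ = k * (a * k * a⁻¹) := hkk.symm
  calc k * (a * k * a⁻¹) * a = a * (k * (a * k * a⁻¹)) * a⁻¹ * a := by rw [h3]
    _ = a * (k * (a * k * a⁻¹)) := by group

theorem Hyp.c3 [Finite G] (h : Hyp G p) (p3 : p = 3) (Q : Sylow 2 G) {t y s : G} (ht : t ∈ Q) (ht1 : t ≠ 1)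
    (hy : PEl p y) (hy1 : y ≠ 1) (hyt : y * t = t * y) (hs : s ∈ Q) (hsy : s * y * s⁻¹ = y⁻¹)
    (hall : ∀ a ∈ Q, a * y * a⁻¹ = y ∨ a * y * a⁻¹ = y⁻¹) :
    ∃ P : Sylow p G, C3 p Q P t s ∧ y ∈ P := by
  have hQ2 : IsPGroup 2 (Q : Subgroup G) := Q.isPGroup'
  obtain ⟨P, hyP, hQP, hP1, hP2, -⟩ := h.d1 Q hy hy1 hs hsy hall
  have hPp : IsPGroup p (P : Subgroup G) := P.isPGroup'
  have hs1 : s ≠ 1 := by
    rintro rfl
    rw [one_mul, inv_one, mul_one] at hsy
    exact h.y_ne hy hy1 hsy.symm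
  have hst : s ≠ t := by
    rintro rfl
    rw [← hyt, mul_inv_cancel_right] at hsy
    exact h.y_ne hy hy1 hsy.symm
  have hnorm := h.norm_eq Q P ht ht1 hQP
  -- an element of `P` centralised by `Q` is trivial
  have hfix : ∀ w ∈ P, (∀ q ∈ Q, q * w = w * q) → w = 1 := by
    intro w hw hwQ
    apply h.tt P w hw
    intro g hg
    obtain ⟨k, hk, q, hq, rfl⟩ := hnorm g hg
    have h1 : k * w = w * k := h.abp _ hPp k hk w hw
    rw [mul_assoc, hwQ q hq, ← mul_assoc, h1, mul_assoc]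
  -- the main claim
  have claim : ∀ a ∈ Q, a ≠ 1 → a ≠ t → ∀ k ∈ P, k * a = a * k → k = 1 := by
    intro a ha ha1 hat k hk hka
    by_contra hk1
    have hkp : PEl p k := pel_of_mem hPp hk
    have helem := h.q_elems p3 Q ht ht1 ha ha1 hat
    have htt : t * t = 1 := h.ab2 _ hQ2 t ht
    have htk : t * k * t⁻¹ ∈ (P : Subgroup G) := (mem_normalizer_iff.1 (hQP ht) k).1 hk
    have hta : t * a = a * t := h.comm2 hQ2 ht ha
    have hta' : t⁻¹ * a = a * t⁻¹ := h.comm2 hQ2 (inv_mem ht) ha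
    have h1 : k * (t * k * t⁻¹) = 1 := by
      apply hfix _ (mul_mem hk htk)
      have h2 : k * (t * k * t⁻¹) * t = t * (k * (t * k * t⁻¹)) := h.conj_comm hPp htt hk htk
      have h3 : k * (t * k * t⁻¹) * a = a * (k * (t * k * t⁻¹)) := by
        calc k * (t * k * t⁻¹) * a = k * (t * k * (t⁻¹ * a)) := by group
          _ = k * (t * (k * a) * t⁻¹) := by rw [hta']; group
          _ = k * ((t * a) * k * t⁻¹) := by rw [hka]; group
          _ = (k * a) * (t * k * t⁻¹) := by rw [hta]; group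
          _ = a * (k * (t * k * t⁻¹)) := by rw [hka]; group
      intro q hq
      rcases helem q hq with rfl | rfl | rfl | rfl
      · rw [one_mul, mul_one]
      · exact h2.symm
      · exact h3.symm
      · rw [mul_assoc t a, ← h3, ← mul_assoc, ← h2, mul_assoc]
    have hinv : t * k * t⁻¹ = k⁻¹ := (inv_eq_of_mul_eq_one_right h1).symm
    have haka : a * k * a⁻¹ = k := by rw [← hka, mul_inv_cancel_right]
    obtain ⟨P', hkP', -, hP'1, -, -⟩ := h.d1 Q hkp hk1 ht hinv (by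
      intro q hq
      rcases helem q hq with rfl | rfl | rfl | rfl
      · left; group
      · right; exact hinv
      · left; exact haka
      · right
        calc t * a * k * (t * a)⁻¹ = t * (a * k * a⁻¹) * t⁻¹ := by group
          _ = k⁻¹ := by rw [haka, hinv])
    have hPP : (P' : Subgroup G) = P := by
      apply P.is_maximal' P'.isPGroup'
      intro z hz
      exact hP'1 z (pel_of_mem hPp hz) (h.abp _ hPp z hz k hk)
    obtain ⟨x, hxQ, hx, -, hxtr⟩ := h.tr Q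
    obtain ⟨j, hj⟩ := hxtr t ht a ha ht1 ha1
    have hxj : PEl p (x ^ j) := pel_of_mem hx.zpowers (zpow_mem (mem_zpowers x) j)
    have hxjQ : x ^ j ∈ normalizer ((Q : Subgroup G) : Set G) := zpow_mem hxQ j
    have hne : ∃ w ∈ Q, x ^ j * w ≠ w * x ^ j := by
      refine ⟨t, ht, fun hh => hat ?_⟩
      rw [← hj, hh, mul_inv_cancel_right]
    have h5 : (x ^ j * y * (x ^ j)⁻¹) * a = a * (x ^ j * y * (x ^ j)⁻¹) := by
      rw [← hj]
      calc (x ^ j * y * (x ^ j)⁻¹) * (x ^ j * t * (x ^ j)⁻¹) = x ^ j * (y * t) * (x ^ j)⁻¹ := by group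
        _ = (x ^ j * t * (x ^ j)⁻¹) * (x ^ j * y * (x ^ j)⁻¹) := by rw [hyt]; group
    have h6 := h.comm_of_cent (pel_of_mem hQ2 ha) ha1 (hy.conj (x ^ j)) hkp h5 hka
    have h7 : x ^ j * y * (x ^ j)⁻¹ ∈ P := by
      have := hP'1 _ (hy.conj (x ^ j)) h6
      have h8 : x ^ j * y * (x ^ j)⁻¹ ∈ (P' : Subgroup G) := this
      rw [hPP] at h8
      exact h8
    exact h.d2 Q P hQP hP1 hxj hxjQ hne h7
  have hinvP : ∀ a ∈ Q, a ≠ 1 → a ≠ t → ∀ k ∈ P, a * k * a⁻¹ = k⁻¹ := by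
    intro a ha ha1 hat k hk
    have haa : a * a = 1 := h.ab2 _ hQ2 a ha
    have hak : a * k * a⁻¹ ∈ (P : Subgroup G) := (mem_normalizer_iff.1 (hQP ha) k).1 hk
    have h1 : k * (a * k * a⁻¹) = 1 :=
      claim a ha ha1 hat _ (mul_mem hk hak) (h.conj_comm hPp haa hk hak)
    exact (inv_eq_of_mul_eq_one_right h1).symm
  have hts : t * s ∈ Q := mul_mem (show t ∈ (Q : Subgroup G) from ht) hs
  have hts1 : t * s ≠ 1 := by
    intro hh
    apply hst
    have htt : t * t = 1 := h.ab2 _ hQ2 t ht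
    calc s = t⁻¹ * (t * s) := by group
      _ = t := by rw [hh, mul_one]; exact inv_eq_of_mul_eq_one_left htt
  have hts2 : t * s ≠ t := by
    intro hh
    exact hs1 (mul_eq_left.1 hh)
  have htc : ∀ k ∈ P, t * k = k * t := by
    intro k hk
    have h1 := hinvP s hs hs1 hst k⁻¹ (inv_mem hk)
    have h2 := hinvP (t * s) hts hts1 hts2 k⁻¹ (inv_mem hk)
    rw [inv_inv] at h1 h2
    have h3 : t * k * t⁻¹ = k := by
      calc t * k * t⁻¹ = t * (s * k⁻¹ * s⁻¹) * t⁻¹ := by rw [h1]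
        _ = t * s * k⁻¹ * (t * s)⁻¹ := by group
        _ = k := h2
    calc t * k = t * k * t⁻¹ * t := by group
      _ = k * t := by rw [h3]
  refine ⟨P, ⟨h, p3, ht, ht1, hs, hs1, hst, hinvP s hs hs1 hst, htc, ?_, ?_⟩, hyP⟩
  · intro z hz
    obtain ⟨K, hK, -, hK2, hK3⟩ := h.cent Q ht ht1
    obtain ⟨k, hk, q, hq, rfl⟩ := hK3 z hz
    refine ⟨k, hP1 k (pel_of_mem hK hk) ?_, q, hq, rfl⟩
    exact h.comm_of_cent (pel_of_mem hQ2 ht) ht1 (pel_of_mem hK hk) hy (hK2 k hk) hyt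
  · intro y' hy' hy'1 z hz
    have hall' : ∀ a ∈ Q, a * y' * a⁻¹ = y' ∨ a * y' * a⁻¹ = y'⁻¹ := by
      intro a ha
      by_cases ha1 : a = 1
      · left; rw [ha1]; group
      by_cases hat : a = t
      · left; rw [hat, htc y' hy', mul_inv_cancel_right]
      · right; exact hinvP a ha ha1 hat y' hy'
    obtain ⟨P', hkP', -, hP'1, hP'2, -⟩ := h.d1 Q (pel_of_mem hPp hy') hy'1 hs (hinvP s hs hs1 hst y' hy') hall'
    have hPP : (P' : Subgroup G) = P := by
      apply P.is_maximal' P'.isPGroup'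
      intro z hz
      exact hP'1 z (pel_of_mem hPp hz) (h.abp _ hPp z hz y' hy')
    obtain ⟨k, hk, b, hb, hby, hkb⟩ := hP'2 z hz
    have hk' : k ∈ P := by
      have h8 : k ∈ (P' : Subgroup G) := hk
      rw [hPP] at h8
      exact h8
    refine ⟨k, hk', ?_⟩
    by_cases hb1 : b = 1
    · left; rw [hkb, hb1, mul_one]
    by_cases hbt : b = t
    · right; rw [hkb, hbt]
    · exfalso
      have h9 := hinvP b hb hb1 hbt y' hy'
      rw [hby, mul_inv_cancel_right] at h9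
      exact h.y_ne (pel_of_mem hPp hy') hy'1 h9.symm

end Cfsg.Agent.H71.TwoMix
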