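import Cfsg.Agent.H71.TwoMix5
import Cfsg.Agent.S3282
import Cfsg.Agent.CharBase.Column

/-!
The case of Sylow 2-subgroups of order 4: the final contradiction with the Brauer-Suzuki-Wall theorem.
-/

set_option autoImplicit false
set_option linter.unusedSectionVars false

namespace Cfsg.Agent.H71.TwoMix

open Subgroup

variable {G : Type*} [Group G] {p : ℕ}

theorem eq_one_or_of_sq {t z : G} (ht : t * t = 1) (hz : z ∈ zpowers t) : z = 1 ∨ z = t := by
  obtain ⟨j, rfl⟩ := hz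
  obtain ⟨m, hm⟩ := Int.even_or_odd' j
  have h1 : t ^ (2 * m) = 1 := by
    rw [zpow_mul]
    have : t ^ (2 : ℤ) = 1 := by rw [zpow_two, ht]
    rw [this, one_zpow]
  rcases hm with hm | hm
  · left; show t ^ j = 1; rw [hm, h1]
  · right; show t ^ j = t; rw [hm, zpow_add_one, h1, one_mul]

namespace C3

variable {Q : Sylow 2 G} {P : Sylow p G} {t s : G}

theorem tt (c : C3 p Q P t s) : t * t = 1 := c.h.ab2 _ Q.isPGroup' t c.tQ
theorem ss (c : C3 p Q P t s) : s * s = 1 := c.h.ab2 _ Q.isPGroup' s c.sQ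
theorem ts (c : C3 p Q P t s) : t * s = s * t := c.h.comm2 Q.isPGroup' c.tQ c.sQ
theorem t2 (c : C3 p Q P t s) : PEl 2 t := pel_two_of_sq c.tt
theorem s2 (c : C3 p Q P t s) : PEl 2 s := pel_two_of_sq c.ss
theorem ti (c : C3 p Q P t s) : t⁻¹ = t := inv_eq_of_mul_eq_one_left c.tt

theorem invol_K (c : C3 p Q P t s) {v k : G} (hv : PEl 2 v) (hv1 : v ≠ 1) (hk : k ∈ P)
    (h : v = k ∨ v = k * t) : v = t := by
  rcases h with rfl | rfl
  · exact absurd (c.h.pel_eq_one (pel_of_mem P.isPGroup' hk) hv) hv1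
  · have h1 := c.h.sq hv
    have h2 : k * k = 1 := by
      calc k * k = k * (t * k) * t⁻¹ := by rw [c.tcent k hk]; group
        _ = k * t * (k * t) * (t⁻¹ * t⁻¹) := by group
        _ = 1 := by
          have : t⁻¹ * t⁻¹ = 1 := by rw [c.ti, c.tt]
          rw [h1, this, one_mul]
    rw [c.h.pel_eq_one (pel_of_mem P.isPGroup' hk) (pel_two_of_sq h2), one_mul]

theorem mem_K [Finite G] (c : C3 p Q P t s) {z : G} :
    z ∈ (P : Subgroup G) ⊔ zpowers t ↔ ∃ k ∈ P, z = k ∨ z = k * t := by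
  have hN : zpowers t ≤ normalizer ((P : Subgroup G) : Set G) := by
    rw [zpowers_le]
    apply mem_norm
    intro k hk
    rw [c.tcent k hk, mul_inv_cancel_right]
    exact hk
  rw [H32.mem_sup_of_le_normalizer hN]
  constructor
  · rintro ⟨k, hk, a, ha, rfl⟩
    rcases eq_one_or_of_sq c.tt ha with rfl | rfl
    · exact ⟨k, hk, Or.inl (mul_one _)⟩
    · exact ⟨k, hk, Or.inr rfl⟩
  · rintro ⟨k, hk, rfl | rfl⟩
    · exact ⟨z, hk, 1, one_mem _, mul_one _⟩
    · exact ⟨k, hk, t, mem_zpowers t, rfl⟩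

theorem q_norm [Finite G] (c : C3 p Q P t s) : (Q : Subgroup G) ≤ normalizer ((P : Subgroup G) : Set G) := by
  have ht : t ∈ normalizer ((P : Subgroup G) : Set G) := by
    apply mem_norm
    intro k hk
    rw [c.tcent k hk, mul_inv_cancel_right]
    exact hk
  have hs : s ∈ normalizer ((P : Subgroup G) : Set G) := by
    apply mem_norm
    intro k hk
    rw [c.sinv k hk]
    exact inv_mem hk
  intro q hq
  rcases c.h.q_elems c.p3 Q c.tQ c.t1 c.sQ c.s1 c.st q hq with rfl | rfl | rfl | rfl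
  · exact one_mem _
  · exact ht
  · exact hs
  · exact mul_mem ht hs

theorem P_cent (c : C3 p Q P t s) {k : G} (hk : k ∈ P) : k ∈ centralizer ({t} : Set G) := by
  rw [mem_centralizer_singleton_iff]
  exact (c.tcent k hk).symm

theorem Q_cent (c : C3 p Q P t s) {q : G} (hq : q ∈ Q) : q ∈ centralizer ({t} : Set G) := by
  rw [mem_centralizer_singleton_iff]
  exact c.h.comm2 Q.isPGroup' hq c.tQ

theorem cent_eq [Finite G] (c : C3 p Q P t s) :
    centralizer ({t} : Set G) = (P : Subgroup G) ⊔ (Q : Subgroup G) := by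
  apply le_antisymm
  · intro z hz
    rw [mem_centralizer_singleton_iff] at hz
    obtain ⟨k, hk, q, hq, rfl⟩ := c.cent z hz
    exact mul_mem (mem_sup_left hk) (mem_sup_right hq)
  · exact sup_le (fun k hk => c.P_cent hk) (fun q hq => c.Q_cent hq)

theorem cardC [Finite G] (c : C3 p Q P t s) : Nat.card (centralizer ({t} : Set G)) = 4 * Nat.card P := by
  have h2 := H32.card_sup_mul_card_inf c.q_norm
  have h3 : (P : Subgroup G) ⊓ (Q : Subgroup G) = ⊥ := by
    apply (Subgroup.eq_bot_iff_forall _).2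
    intro x hx
    obtain ⟨h1, h2⟩ := Subgroup.mem_inf.1 hx
    exact c.h.pel_eq_one (pel_of_mem P.isPGroup' h1) (pel_of_mem Q.isPGroup' h2)
  rw [h3, Subgroup.card_bot, mul_one] at h2
  have h4 := c.h.cardQ Q
  rw [c.p3] at h4
  rw [c.cent_eq, h2]
  have h5 : Nat.card (Q : Subgroup G) = 4 := h4
  rw [h5, mul_comm]

theorem exists_conj_mem [Finite G] (c : C3 p Q P t s) {y : G} (hy : PEl p y) : ∃ g : G, g⁻¹ * y * g ∈ P := by
  haveI := c.h.fact
  obtain ⟨P', hP'⟩ := hy.zpowers.exists_le_sylow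
  obtain ⟨g, hg⟩ := MulAction.exists_smul_eq G P P'
  refine ⟨g, ?_⟩
  have h1 : y ∈ (P' : Subgroup G) := hP' (mem_zpowers y)
  rw [← hg, mem_smul_syl] at h1
  exact h1

theorem conj_ne {g x : G} (hx : x ≠ 1) : g⁻¹ * x * g ≠ 1 := by
  intro h
  apply hx
  have : x = g * (g⁻¹ * x * g) * g⁻¹ := by group
  rw [this, h]; group

theorem conj_ne' {g x : G} (hx : x ≠ 1) : g * x * g⁻¹ ≠ 1 := by
  intro h
  apply hx
  have : x = g⁻¹ * (g * x * g⁻¹) * g := by group
  rw [this, h]; group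

/-- every two involutions commute with a common involution -/
theorem cover [Finite G] (c : C3 p Q P t s) {x : G} (hx : PEl 2 x) (hx1 : x ≠ 1) :
    ∃ z : G, PEl 2 z ∧ z ≠ 1 ∧ z * t = t * z ∧ x * z = z * x := by
  by_cases hxt : x * t = t * x
  · exact ⟨t, c.t2, c.t1, rfl, hxt⟩
  have hxx := c.h.sq hx
  have hw := invol_conj c.tt hxx
  by_cases h2 : 2 ∣ orderOf (t * x)
  · have h5 : orderOf ((t * x) ^ (orderOf (t * x) / 2)) = 2 :=
      orderOf_pow_orderOf_div (orderOf_pos _).ne' h2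
    obtain ⟨z, hz⟩ : ∃ z, z = (t * x) ^ (orderOf (t * x) / 2) := ⟨_, rfl⟩
    rw [← hz] at h5
    have hz2 : PEl 2 z := pel_of_order_prime h5
    have hz1 : z ≠ 1 := by
      rintro rfl
      rw [orderOf_one] at h5
      omega
    have hzu : t * z * t⁻¹ = z⁻¹ := by rw [hz]; exact inv_conj_pow' hw _
    have hzi : z⁻¹ = z := inv_eq_of_mul_eq_one_left (c.h.sq hz2)
    rw [hzi] at hzu
    have hzu' : t * z = z * t := by
      calc t * z = t * z * t⁻¹ * t := by group
        _ = z * t := by rw [hzu]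
    have hzw : (t * x) * z = z * (t * x) := by
      rw [hz, ← pow_succ, ← pow_succ']
    refine ⟨z, hz2, hz1, hzu'.symm, ?_⟩
    calc x * z = t⁻¹ * ((t * x) * z) := by group
      _ = t⁻¹ * (z * t) * x := by rw [hzw]; group
      _ = z * x := by rw [← hzu']; group
  · have hw1 : orderOf (t * x) ≠ 1 := by
      intro hh
      rw [orderOf_eq_one_iff] at hh
      apply hxt
      have : x = t := by
        calc x = t⁻¹ * (t * x) := by group
          _ = t := by rw [hh, mul_one, c.ti]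
      rw [this]
    obtain ⟨l, hl, hlw⟩ := Nat.exists_prime_and_dvd hw1
    have hl2 : l ≠ 2 := by rintro rfl; exact h2 hlw
    have hlp := c.h.prime_of_inv c.t2 c.t1 hw hl hl2 hlw
    have h5 : orderOf ((t * x) ^ (orderOf (t * x) / l)) = l :=
      orderOf_pow_orderOf_div (orderOf_pos _).ne' hlw
    obtain ⟨y, hy⟩ : ∃ z, z = (t * x) ^ (orderOf (t * x) / l) := ⟨_, rfl⟩
    rw [← hy] at h5
    have hyp : PEl p y := by rw [← hlp]; exact pel_of_order_prime h5
    have hy1 : y ≠ 1 := by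
      rintro rfl
      rw [orderOf_one] at h5
      exact hl.ne_one h5.symm
    have hty : t * y * t⁻¹ = y⁻¹ := by rw [hy]; exact inv_conj_pow' hw _
    have hyw : (t * x) * y = y * (t * x) := by
      rw [hy, ← pow_succ, ← pow_succ']
    obtain ⟨g, hg⟩ := c.exists_conj_mem hyp
    -- elements centralising `y` commute with `g * t * g⁻¹`
    have hcc : ∀ a : G, a * y = y * a → ∃ k ∈ P, g⁻¹ * a * g = k ∨ g⁻¹ * a * g = k * t := by
      intro a ha
      apply c.centy _ hg (conj_ne hy1)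
      calc g⁻¹ * a * g * (g⁻¹ * y * g) = g⁻¹ * (a * y) * g := by group
        _ = g⁻¹ * y * g * (g⁻¹ * a * g) := by rw [ha]; group
    have hcz : ∀ a : G, a * y = y * a → a * (g * t * g⁻¹) = (g * t * g⁻¹) * a := by
      intro a ha
      obtain ⟨k, hk, hka⟩ := hcc a ha
      have h6 : (g⁻¹ * a * g) * t = t * (g⁻¹ * a * g) := by
        rcases hka with hka | hka
        · rw [hka, c.tcent k hk]
        · rw [hka, ← mul_assoc, c.tcent k hk]
      calc a * (g * t * g⁻¹) = g * ((g⁻¹ * a * g) * t) * g⁻¹ := by group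
        _ = (g * t * g⁻¹) * a := by rw [h6]; group
    have hzy : (g * t * g⁻¹) * y = y * (g * t * g⁻¹) := by
      have h6 := c.tcent _ hg
      calc (g * t * g⁻¹) * y = g * (t * (g⁻¹ * y * g)) * g⁻¹ := by group
        _ = y * (g * t * g⁻¹) := by rw [h6]; group
    have htz : t * (g * t * g⁻¹) * t⁻¹ = g * t * g⁻¹ := by
      have h6 : (t * (g * t * g⁻¹) * t⁻¹) * y = y * (t * (g * t * g⁻¹) * t⁻¹) := by
        have h7 : y = t * y⁻¹ * t⁻¹ := by
          have : t * y⁻¹ * t⁻¹ = (t * y * t⁻¹)⁻¹ := by group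
          rw [this, hty, inv_inv]
        have h8 : (g * t * g⁻¹) * y⁻¹ = y⁻¹ * (g * t * g⁻¹) := by
          have : Commute (g * t * g⁻¹) y := hzy
          exact this.inv_right.eq
        calc (t * (g * t * g⁻¹) * t⁻¹) * y = (t * (g * t * g⁻¹) * t⁻¹) * (t * y⁻¹ * t⁻¹) := by rw [← h7]
          _ = t * ((g * t * g⁻¹) * y⁻¹) * t⁻¹ := by group
          _ = (t * y⁻¹ * t⁻¹) * (t * (g * t * g⁻¹) * t⁻¹) := by rw [h8]; group
          _ = y * (t * (g * t * g⁻¹) * t⁻¹) := by rw [← h7]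
      obtain ⟨k, hk, hka⟩ := hcc _ h6
      have h7 := c.invol_K (((c.t2.conj g).conj t).conj' g) (conj_ne (conj_ne' (conj_ne' c.t1))) hk hka
      calc t * (g * t * g⁻¹) * t⁻¹ = g * (g⁻¹ * (t * (g * t * g⁻¹) * t⁻¹) * g) * g⁻¹ := by group
        _ = g * t * g⁻¹ := by rw [h7]
    have htz' : t * (g * t * g⁻¹) = (g * t * g⁻¹) * t := by
      calc t * (g * t * g⁻¹) = t * (g * t * g⁻¹) * t⁻¹ * t := by group
        _ = (g * t * g⁻¹) * t := by rw [htz]
    refine ⟨g * t * g⁻¹, c.t2.conj g, conj_ne' c.t1, htz'.symm, ?_⟩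
    have h9 := hcz _ hyw
    calc x * (g * t * g⁻¹) = t⁻¹ * ((t * x) * (g * t * g⁻¹)) := by group
      _ = t⁻¹ * ((g * t * g⁻¹) * t) * x := by rw [h9]; group
      _ = (g * t * g⁻¹) * x := by rw [← htz']; group

theorem ncard_t [Finite G] (c : C3 p Q P t s) : {x : G | PEl 2 x ∧ x ≠ 1 ∧ x * t = t * x}.ncard ≤ 2 * Nat.card P + 1 := by
  have h1 : {x : G | PEl 2 x ∧ x ≠ 1 ∧ x * t = t * x} ⊆
      {t} ∪ ((fun k => k * s) '' ((P : Subgroup G) : Set G) ∪ (fun k => k * (t * s)) '' ((P : Subgroup G) : Set G)) := by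
    rintro x ⟨hx, hx1, hxt⟩
    obtain ⟨k, hk, q, hq, hkq⟩ := c.cent x hxt
    rcases c.h.q_elems c.p3 Q c.tQ c.t1 c.sQ c.s1 c.st q hq with rfl | rfl | rfl | rfl
    · left
      exact c.invol_K hx hx1 hk (Or.inl (by rw [hkq, mul_one]))
    · left
      exact c.invol_K hx hx1 hk (Or.inr hkq)
    · right; left
      exact ⟨k, hk, hkq.symm⟩
    · right; right
      exact ⟨k, hk, hkq.symm⟩
  have h2 := (Set.ncard_le_ncard h1 (Set.toFinite _)).trans (Set.ncard_union_le _ _)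
  have h3 := Set.ncard_union_le ((fun k => k * s) '' ((P : Subgroup G) : Set G))
    ((fun k => k * (t * s)) '' ((P : Subgroup G) : Set G))
  have h4 := Set.ncard_image_le (f := fun k => k * s) (Set.toFinite ((P : Subgroup G) : Set G))
  have h5 := Set.ncard_image_le (f := fun k => k * (t * s)) (Set.toFinite ((P : Subgroup G) : Set G))
  have h6 : ((P : Subgroup G) : Set G).ncard = Nat.card P := rfl
  rw [Set.ncard_singleton] at h2
  omega

theorem ncard_z [Finite G] (c : C3 p Q P t s) {z : G} (hz : PEl 2 z) (hz1 : z ≠ 1) :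
    {x : G | PEl 2 x ∧ x ≠ 1 ∧ x * z = z * x}.ncard ≤ 2 * Nat.card P + 1 := by
  obtain ⟨g, hg⟩ := c.h.conj c.t2 hz c.t1 hz1
  refine le_trans ?_ c.ncard_t
  have h1 : {x : G | PEl 2 x ∧ x ≠ 1 ∧ x * z = z * x} ⊆
      (fun x => g * x * g⁻¹) '' {x : G | PEl 2 x ∧ x ≠ 1 ∧ x * t = t * x} := by
    rintro x ⟨hx, hx1, hxz⟩
    refine ⟨g⁻¹ * x * g, ⟨hx.conj' g, conj_ne hx1, ?_⟩, by group⟩
    rw [← hg] at hxz
    calc g⁻¹ * x * g * t = g⁻¹ * (x * (g * t * g⁻¹)) * g := by group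
      _ = t * (g⁻¹ * x * g) := by rw [hxz]; group
  exact (Set.ncard_le_ncard h1 (Set.toFinite _)).trans (Set.ncard_image_le (Set.toFinite _))

theorem ncard_inv [Finite G] (c : C3 p Q P t s) :
    {x : G | PEl 2 x ∧ x ≠ 1}.ncard ≤ (2 * Nat.card P + 1) * (2 * Nat.card P + 1) := by
  classical
  haveI : Fintype G := Fintype.ofFinite G
  have h1 : {x : G | PEl 2 x ∧ x ≠ 1}.toFinset ⊆
      ({x : G | PEl 2 x ∧ x ≠ 1 ∧ x * t = t * x}.toFinset).biUnion
        (fun z => {x : G | PEl 2 x ∧ x ≠ 1 ∧ x * z = z * x}.toFinset) := by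
    intro x hx
    rw [Set.mem_toFinset] at hx
    obtain ⟨z, hz, hz1, hzt, hxz⟩ := c.cover hx.1 hx.2
    rw [Finset.mem_biUnion]
    exact ⟨z, Set.mem_toFinset.2 ⟨hz, hz1, hzt⟩, Set.mem_toFinset.2 ⟨hx.1, hx.2, hxz⟩⟩
  have h2 := Finset.card_le_card h1
  have h3 : (({x : G | PEl 2 x ∧ x ≠ 1 ∧ x * t = t * x}.toFinset).biUnion
        (fun z => {x : G | PEl 2 x ∧ x ≠ 1 ∧ x * z = z * x}.toFinset)).card ≤
        {x : G | PEl 2 x ∧ x ≠ 1 ∧ x * t = t * x}.toFinset.card * (2 * Nat.card P + 1) := by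
    apply Finset.card_biUnion_le_card_mul
    intro z hz
    rw [Set.mem_toFinset] at hz
    have := c.ncard_z hz.1 hz.2.1
    rwa [Set.ncard_eq_toFinset_card'] at this
  have h4 := c.ncard_t
  rw [Set.ncard_eq_toFinset_card'] at h4 ⊢
  exact (h2.trans h3).trans (Nat.mul_le_mul_right _ h4)

theorem card_eq [Finite G] (c : C3 p Q P t s) :
    {x : G | PEl 2 x ∧ x ≠ 1}.ncard * (4 * Nat.card P) = Nat.card G := by
  have h1 := Subgroup.index_mul_card (centralizer ({t} : Set G))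
  rw [← CharBase.card_isConj_eq_index, c.cardC] at h1
  rw [← h1]
  congr 1
  have h2 : {x : G | PEl 2 x ∧ x ≠ 1} = {x : G | IsConj t x} := by
    ext x
    constructor
    · rintro ⟨hx, hx1⟩
      obtain ⟨g, hg⟩ := c.h.conj c.t2 hx c.t1 hx1
      exact isConj_iff.2 ⟨g, hg⟩
    · intro hx
      obtain ⟨g, hg⟩ := isConj_iff.1 hx
      rw [← hg]
      exact ⟨c.t2.conj g, conj_ne' c.t1⟩
  rw [h2]
  rfl

end C3

end Cfsg.Agent.H71.TwoMix
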