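import Cfsg.Agent.H71.TwoMix6

set_option autoImplicit false
set_option linter.unusedSectionVars false

namespace Cfsg.Agent.H71.TwoMix

open Subgroup

variable {G : Type*} [Group G] {p : ℕ}

namespace C3

variable {Q : Sylow 2 G} {P : Sylow p G} {t s : G}

theorem orderOf_two {x : G} (hx : x * x = 1) (hx1 : x ≠ 1) : orderOf x = 2 :=
  orderOf_eq_prime (by rw [pow_two]; exact hx) hx1

theorem comm_K (c : C3 p Q P t s) {a b : G} (ha : ∃ k ∈ P, a = k ∨ a = k * t) (hb : ∃ k ∈ P, b = k ∨ b = k * t) :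
    a * b = b * a := by
  have hab : ∀ k ∈ P, ∀ l ∈ P, k * l = l * k := fun k hk l hl => c.h.abp _ P.isPGroup' k hk l hl
  have ht : ∀ x : G, (∃ k ∈ P, x = k ∨ x = k * t) → t * x = x * t := by
    rintro x ⟨k, hk, rfl | rfl⟩
    · exact c.tcent _ hk
    · rw [← mul_assoc, c.tcent k hk]
  have hP : ∀ l ∈ P, ∀ x : G, (∃ k ∈ P, x = k ∨ x = k * t) → l * x = x * l := by
    rintro l hl x ⟨k, hk, rfl | rfl⟩
    · exact hab l hl _ hk
    · rw [← mul_assoc, hab l hl k hk, mul_assoc, ← c.tcent l hl, mul_assoc]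
  obtain ⟨k, hk, rfl | rfl⟩ := ha
  · exact hP _ hk b hb
  · rw [mul_assoc, ht b hb, ← mul_assoc, hP k hk b hb, mul_assoc]

theorem k_comm_s (c : C3 p Q P t s) {k : G} (hk : k ∈ P) (h : k * s = s * k) : k = 1 := by
  by_contra hk1
  have h1 := c.sinv k hk
  rw [← h, mul_inv_cancel_right] at h1
  exact c.h.y_ne (pel_of_mem P.isPGroup' hk) hk1 h1.symm

theorem false [Finite G] (c : C3 p Q P t s) {y : G} (hyP : y ∈ P) (hy1 : y ≠ 1) : False := by
  have hP := P.isPGroup'
  have hp := c.h.hp
  have htt := c.tt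
  have hti := c.ti
  obtain ⟨K, hK⟩ : ∃ K : Subgroup G, K = (P : Subgroup G) ⊔ zpowers t := ⟨_, rfl⟩
  have mK : ∀ {z : G}, z ∈ K ↔ ∃ k ∈ P, z = k ∨ z = k * t := by
    intro z; rw [hK]; exact c.mem_K
  have hsC : s ∈ centralizer ({t} : Set G) := by
    rw [mem_centralizer_singleton_iff]; exact c.ts.symm
  have htC : t ∈ centralizer ({t} : Set G) := by
    rw [mem_centralizer_singleton_iff]
  have hKC : K ≤ centralizer ({t} : Set G) := by
    rw [hK]
    refine sup_le (fun k hk => c.P_cent hk) ?_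
    rw [zpowers_le]; exact htC
  have htK : t ∈ K := by rw [hK]; exact mem_sup_right (mem_zpowers t)
  have hsK : s ∉ K := by
    intro hh
    obtain ⟨k, hk, h1⟩ := mK.1 hh
    exact c.st (c.invol_K c.s2 c.s1 hk h1)
  have hKcomm : IsMulCommutative K :=
    ⟨⟨fun a b => Subtype.ext (c.comm_K (mK.1 a.2) (mK.1 b.2))⟩⟩
  have hH : K ⊔ zpowers s = centralizer ({t} : Set G) := by
    apply le_antisymm
    · refine sup_le hKC ?_
      rw [zpowers_le]; exact hsC
    · intro z hz
      rw [mem_centralizer_singleton_iff] at hz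
      obtain ⟨k, hk, q, hq, rfl⟩ := c.cent z hz
      have hkK : k ∈ K ⊔ zpowers s := mem_sup_left (mK.2 ⟨k, hk, Or.inl rfl⟩)
      have htK' : t ∈ K ⊔ zpowers s := mem_sup_left htK
      have hsK' : s ∈ K ⊔ zpowers s := mem_sup_right (mem_zpowers s)
      rcases c.h.q_elems c.p3 Q c.tQ c.t1 c.sQ c.s1 c.st q hq with rfl | rfl | rfl | rfl
      · rw [mul_one]; exact hkK
      · exact mul_mem hkK htK'
      · exact mul_mem hkK hsK'
      · exact mul_mem hkK (mul_mem htK' hsK')
  have hCK : K ⊓ centralizer ({s} : Set G) = zpowers t := by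
    apply le_antisymm
    · intro z hz
      obtain ⟨h1, h2⟩ := Subgroup.mem_inf.1 hz
      rw [mem_centralizer_singleton_iff] at h2
      obtain ⟨k, hk, rfl | rfl⟩ := mK.1 h1
      · rw [c.k_comm_s hk h2]; exact one_mem _
      · have h3 : k * s = s * k := by
          calc k * s = k * (t * s) * t⁻¹ := by rw [c.ts]; group
            _ = k * t * s * t⁻¹ := by group
            _ = s * k := by rw [h2]; group
        rw [c.k_comm_s hk h3, one_mul]
        exact mem_zpowers t
    · rw [zpowers_le]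
      refine Subgroup.mem_inf.2 ⟨htK, ?_⟩
      rw [mem_centralizer_singleton_iff]
      exact c.ts
  have hinv : ∀ x ∈ K, s * x * s⁻¹ = x⁻¹ := by
    intro x hx
    obtain ⟨k, hk, rfl | rfl⟩ := mK.1 hx
    · exact c.sinv _ hk
    · have h1 : s * t * s⁻¹ = t := by rw [← c.ts, mul_inv_cancel_right]
      calc s * (k * t) * s⁻¹ = (s * k * s⁻¹) * (s * t * s⁻¹) := by group
        _ = k⁻¹ * t := by rw [c.sinv k hk, h1]
        _ = t * k⁻¹ := (c.tcent _ (inv_mem hk)).symm
        _ = (k * t)⁻¹ := by rw [mul_inv_rev, hti]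
  have hsq : ∀ x ∈ K, x * x ∈ P ∧ (x * x = 1 → x = 1 ∨ x = t) := by
    intro x hx
    obtain ⟨k, hk, h1⟩ := mK.1 hx
    have h2 : x * x = k * k := by
      rcases h1 with rfl | rfl
      · rfl
      · calc k * t * (k * t) = k * (t * k) * t := by group
          _ = k * k * (t * t) := by rw [c.tcent k hk]; group
          _ = k * k := by rw [htt, mul_one]
    refine ⟨by rw [h2]; exact mul_mem (show k ∈ (P : Subgroup G) from hk) hk, fun h3 => ?_⟩
    rw [h2] at h3
    have h4 : k = 1 := c.h.pel_eq_one (pel_of_mem hP hk) (pel_two_of_sq h3)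
    rcases h1 with rfl | rfl
    · left; exact h4
    · right; rw [h4, one_mul]
  have hTI : ∀ g : G, g ∉ centralizer ({t} : Set G) → K ⊓ K.map (MulAut.conj g).toMonoidHom = ⊥ := by
    intro g hg
    apply (Subgroup.eq_bot_iff_forall _).2
    intro z hz
    obtain ⟨h1, h2⟩ := Subgroup.mem_inf.1 hz
    rw [H32.mem_map_conj] at h2
    by_contra hz1
    have hcontr : ∀ a : G, a = t → g⁻¹ * a * g = t → False := by
      intro a ha hga
      apply hg
      rw [mem_centralizer_singleton_iff]
      rw [ha] at hga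
      calc g * t = g * (g⁻¹ * t * g) := by rw [hga]
        _ = t * g := by group
    have hz' : g⁻¹ * z * g ≠ 1 := conj_ne hz1
    by_cases hzz : z * z = 1
    · have h3 : z = t := ((hsq z h1).2 hzz).resolve_left hz1
      have h4 : g⁻¹ * z * g * (g⁻¹ * z * g) = 1 := by
        calc g⁻¹ * z * g * (g⁻¹ * z * g) = g⁻¹ * (z * z) * g := by group
          _ = 1 := by rw [hzz]; group
      exact hcontr z h3 (((hsq _ h2).2 h4).resolve_left hz')
    · have h3 : z * z ∈ P := (hsq z h1).1
      have h4 : g⁻¹ * (z * z) * g ∈ P := by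
        have := (hsq _ h2).1
        have h5 : g⁻¹ * z * g * (g⁻¹ * z * g) = g⁻¹ * (z * z) * g := by group
        rwa [h5] at this
      have h5 : (g * t * g⁻¹) * (z * z) = (z * z) * (g * t * g⁻¹) := by
        have h6 := c.tcent _ h4
        calc (g * t * g⁻¹) * (z * z) = g * (t * (g⁻¹ * (z * z) * g)) * g⁻¹ := by group
          _ = (z * z) * (g * t * g⁻¹) := by rw [h6]; group
      obtain ⟨k, hk, hk2⟩ := c.centy _ h3 hzz _ h5
      have h6 := c.invol_K (c.t2.conj g) (conj_ne' c.t1) hk hk2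
      refine hcontr t rfl ?_
      calc g⁻¹ * t * g = g⁻¹ * (g * t * g⁻¹) * g := by rw [h6]
        _ = t := by group
  have hpel2 : ∀ x : G, orderOf x = 2 → PEl 2 x ∧ x ≠ 1 := by
    intro x hx
    refine ⟨pel_of_order_prime hx, ?_⟩
    rintro rfl
    rw [orderOf_one] at hx
    omega
  have hconj : ∀ x y : G, orderOf x = 2 → orderOf y = 2 → IsConj x y := by
    intro x y hx hy
    obtain ⟨g, hg⟩ := c.h.conj (hpel2 x hx).1 (hpel2 y hy).1 (hpel2 x hx).2 (hpel2 y hy).2
    exact isConj_iff.2 ⟨g, hg⟩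
  obtain ⟨U, D, hG, -, -, hD, -, -, hDX⟩ := S3282.result t (orderOf_two htt c.t1) K hKcomm hKC htK s
    (orderOf_two c.ss c.s1) hsC hsK hH hCK hinv hTI hconj
  obtain ⟨k, hk⟩ : ∃ k, k = Nat.card P := ⟨_, rfl⟩
  obtain ⟨i, hi⟩ : ∃ i, i = {x : G | PEl 2 x ∧ x ≠ 1}.ncard := ⟨_, rfl⟩
  have hcG := c.card_eq
  have hle := c.ncard_inv
  rw [← hi, ← hk] at hcG hle
  have hk3 : 3 ≤ k := by
    have h1 : orderOf y ∣ k := by
      rw [hk]; exact Subgroup.orderOf_dvd_natCard (P : Subgroup G) hyP
    have h2 : p ∣ orderOf y := (pel_of_mem hP hyP).p_dvd hp hy1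
    have h3 : 0 < k := by rw [hk]; exact Nat.card_pos
    have h4 := Nat.le_of_dvd h3 (h2.trans h1)
    rw [c.p3] at h4
    exact h4
  have hi2 : 2 ≤ i := by
    have h1 : ({t, s} : Set G) ⊆ {x : G | PEl 2 x ∧ x ≠ 1} := by
      intro x hx
      rcases hx with rfl | hx
      · exact ⟨c.t2, c.t1⟩
      · rw [Set.mem_singleton_iff] at hx
        rw [hx]; exact ⟨c.s2, c.s1⟩
    have h2 := Set.ncard_le_ncard h1 (Set.toFinite _)
    rw [Set.ncard_pair c.st.symm, ← hi] at h2
    exact h2
  by_cases hDbot : D = ⊥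
  · rw [hDbot, Subgroup.card_bot] at hD
    have hU : Nat.card U = 3 := by omega
    rw [hU] at hG
    have h1 : Nat.card G = 12 := by omega
    rw [h1] at hcG
    have h2 : 2 * (4 * 3) ≤ i * (4 * k) := Nat.mul_le_mul hi2 (Nat.mul_le_mul_left 4 hk3)
    omega
  · have h2D : 2 ∣ Nat.card D := by
      by_contra h2
      have h1 : Nat.card D ≠ 1 := by
        intro hh
        exact hDbot (Subgroup.eq_bot_of_card_eq _ hh)
      obtain ⟨l, hl, hlD⟩ := Nat.exists_prime_and_dvd h1
      haveI : Fact l.Prime := ⟨hl⟩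
      obtain ⟨⟨z, hzD⟩, hz⟩ := exists_prime_orderOf_dvd_card' l hlD
      rw [Subgroup.orderOf_mk] at hz
      have hz1 : z ≠ 1 := by
        rintro rfl
        rw [orderOf_one] at hz
        exact hl.ne_one hz.symm
      obtain ⟨hN, u, hu, huD, hudinv, hND⟩ := hDX (zpowers z) (by rw [zpowers_le]; exact hzD)
        (by rw [Ne, zpowers_eq_bot]; exact hz1)
      have hl2 : l ≠ 2 := by rintro rfl; exact h2 hlD
      have hlp : l = p := c.h.prime_of_inv (hpel2 u hu).1 (hpel2 u hu).2 (hudinv z hzD) hl hl2 (by rw [hz])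
      have hzp : PEl p z := by rw [← hlp]; exact pel_of_order_prime hz
      obtain ⟨g, hg⟩ := c.exists_conj_mem hzp
      -- `g Q g⁻¹` normalises `⟨z⟩`
      have h3 : (Q : Subgroup G).map (MulAut.conj g).toMonoidHom ≤ normalizer ((zpowers z : Subgroup G) : Set G) := by
        rintro _ ⟨q, hq, rfl⟩
        have h4 : q * (g⁻¹ * z * g) * q⁻¹ = g⁻¹ * z * g ∨ q * (g⁻¹ * z * g) * q⁻¹ = (g⁻¹ * z * g)⁻¹ := by
          have h5 : s * (g⁻¹ * z * g) * s⁻¹ = (g⁻¹ * z * g)⁻¹ := c.sinv _ hg
          have h6 : t * (g⁻¹ * z * g)⁻¹ = (g⁻¹ * z * g)⁻¹ * t := c.tcent _ (inv_mem hg)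
          rcases c.h.q_elems c.p3 Q c.tQ c.t1 c.sQ c.s1 c.st q hq with rfl | rfl | rfl | rfl
          · left; group
          · left; rw [c.tcent _ hg, mul_inv_cancel_right]
          · right; exact h5
          · right
            have h7 : t * s * (g⁻¹ * z * g) * (t * s)⁻¹ = t * (s * (g⁻¹ * z * g) * s⁻¹) * t⁻¹ := by group
            rw [h7, h5, h6, mul_inv_cancel_right]
        have h5 : (MulAut.conj g) q * z * ((MulAut.conj g) q)⁻¹ = g * (q * (g⁻¹ * z * g) * q⁻¹) * g⁻¹ := by
          rw [MulAut.conj_apply]; group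
        apply mem_norm
        rintro _ ⟨j, rfl⟩
        show (MulAut.conj g) q * z ^ j * ((MulAut.conj g) q)⁻¹ ∈ _
        rw [← conj_zpow, h5]
        rcases h4 with h4 | h4
        · rw [h4]
          have : g * (g⁻¹ * z * g) * g⁻¹ = z := by group
          rw [this]
          exact zpow_mem (mem_zpowers z) j
        · rw [h4]
          have : g * (g⁻¹ * z * g)⁻¹ * g⁻¹ = z⁻¹ := by group
          rw [this]
          exact zpow_mem (inv_mem (mem_zpowers z)) j
      have h4 : 4 ∣ Nat.card (normalizer ((zpowers z : Subgroup G) : Set G)) := by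
        have h5 := Subgroup.card_dvd_of_le h3
        rw [H32.card_map_conj] at h5
        have h6 : Nat.card (Q : Subgroup G) = 4 := by
          have := c.h.cardQ Q
          rw [c.p3] at this
          exact this
        rwa [h6] at h5
      rw [hN, hND] at h4
      have h5 : zpowers u ≤ normalizer (D : Set G) := by
        rw [hND]; exact le_sup_right
      have h6 := H32.card_sup_mul_card_inf h5
      have h7 : Nat.card (D ⊔ zpowers u : Subgroup G) ∣ Nat.card D * 2 := by
        have h8 : Nat.card (zpowers u) = 2 := by rw [Nat.card_zpowers, hu]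
        rw [h8] at h6
        rw [← h6]
        exact dvd_mul_right _ _
      have h8 := h4.trans h7
      omega
    obtain ⟨⟨t', ht'D⟩, ht'⟩ := exists_prime_orderOf_dvd_card' 2 h2D
    rw [Subgroup.orderOf_mk] at ht'
    obtain ⟨hN, u, hu, huD, hudinv, hND⟩ := hDX (zpowers t') (by rw [zpowers_le]; exact ht'D)
      (by rw [Ne, zpowers_eq_bot]; exact (hpel2 t' ht').2)
    have h3 : normalizer ((zpowers t' : Subgroup G) : Set G) = centralizer ({t'} : Set G) := by
      have ht2 : t' * t' = 1 := c.h.sq (hpel2 t' ht').1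
      apply le_antisymm
      · intro g hg
        have h4 : g * t' * g⁻¹ ∈ zpowers t' := (mem_normalizer_iff.1 hg t').1 (mem_zpowers t')
        rw [mem_centralizer_singleton_iff]
        rcases eq_one_or_of_sq ht2 h4 with h5 | h5
        · exact absurd h5 (conj_ne' (hpel2 t' ht').2)
        · calc g * t' = g * t' * g⁻¹ * g := by group
            _ = t' * g := by rw [h5]
      · intro g hg
        rw [mem_centralizer_singleton_iff] at hg
        apply mem_norm
        rintro _ ⟨j, rfl⟩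
        show g * t' ^ j * g⁻¹ ∈ _
        rw [← conj_zpow, hg, mul_inv_cancel_right]
        exact zpow_mem (mem_zpowers t') j
    have h4 : Nat.card (centralizer ({t'} : Set G)) = 4 * k := by
      obtain ⟨g, hg⟩ := c.h.conj c.t2 (hpel2 t' ht').1 c.t1 (hpel2 t' ht').2
      rw [hk, ← c.cardC, ← hg]
      have h5 : centralizer ({g * t * g⁻¹} : Set G) = (centralizer ({t} : Set G)).map (MulAut.conj g).toMonoidHom := by
        ext x
        rw [H32.mem_map_conj, mem_centralizer_singleton_iff, mem_centralizer_singleton_iff]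
        constructor
        · intro h6
          calc g⁻¹ * x * g * t = g⁻¹ * (x * (g * t * g⁻¹)) * g := by group
            _ = t * (g⁻¹ * x * g) := by rw [h6]; group
        · intro h6
          calc x * (g * t * g⁻¹) = g * ((g⁻¹ * x * g) * t) * g⁻¹ := by group
            _ = (g * t * g⁻¹) * x := by rw [h6]; group
      rw [h5, H32.card_map_conj]
    have h5 : zpowers u ≤ normalizer (D : Set G) := by
      rw [hND]; exact le_sup_right
    have h6 := H32.card_sup_mul_card_inf h5
    have h7 : D ⊓ zpowers u = ⊥ := by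
      apply (Subgroup.eq_bot_iff_forall _).2
      intro x hx
      obtain ⟨hx1, hx2⟩ := Subgroup.mem_inf.1 hx
      rcases eq_one_or_of_sq (c.h.sq (hpel2 u hu).1) hx2 with h8 | h8
      · exact h8
      · rw [h8] at hx1; exact absurd hx1 huD
    have h8 : Nat.card (zpowers u) = 2 := by rw [Nat.card_zpowers, hu]
    rw [h7, Subgroup.card_bot, mul_one, h8, ← hND, ← hN, h3, h4] at h6
    have h9 : Nat.card U = 4 * k + 1 := by omega
    rw [h9] at hG
    have h10 : 2 * Nat.card G = 2 * ((4 * k + 1) * (2 * k + 1) * (4 * k)) := by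
      rw [hG]
      have : 4 * k + 1 - 1 = 4 * k := by omega
      rw [this]; ring
    have h11 : Nat.card G = (4 * k + 1) * (2 * k + 1) * (4 * k) := by omega
    rw [← hcG] at h11
    have h12 : i = (4 * k + 1) * (2 * k + 1) := by
      have h13 : 0 < 4 * k := by omega
      exact Nat.eq_of_mul_eq_mul_right h13 h11
    rw [h12] at hle
    have h14 : (2 * k + 1) * (2 * k + 1) < (4 * k + 1) * (2 * k + 1) := by
      apply Nat.mul_lt_mul_of_pos_right
      · omega
      · omega
    omega

end C3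

theorem Hyp.final [Finite G] (h : Hyp G p) : ∀ r : ℕ, r.Prime → r ∣ Nat.card G → r = p ∨ r = 2 := by
  intro r hr hrG
  by_contra hcon
  push Not at hcon
  obtain ⟨u, y, hu, hy, hy1, huy⟩ := h.exists_inv hr hrG hcon.1 hcon.2
  obtain ⟨P, hyP, v, hv, hvy, hvP⟩ := h.exists_P hy huy
  have hv1 : v ≠ 1 := by
    rintro rfl
    rw [one_mul, inv_one, mul_one] at hvy
    exact h.y_ne hy hy1 hvy.symm
  by_cases hα : Alpha G p
  · exact h.e5 hα hv hv1 hvP
  · have hbig : ¬ 4 < p + 1 := fun hb => hα (h.alpha_of_big hb)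
    have h3 : p = 3 := by
      have h1 := h.hp.two_le
      have h2 := h.hp2
      omega
    unfold Alpha at hα
    push Not at hα
    obtain ⟨Q, t, ht, ht1, y0, hy0, hy0t, s, hs, hys⟩ := hα
    obtain ⟨y', s', hy', hy'1, hy't, hs', hinv, hall⟩ := h.exists_y Q ht ht1 hy0 hy0t hs hys
    obtain ⟨P', c, hyP'⟩ := h.c3 h3 Q ht ht1 hy' hy'1 hy't hs' hinv hall
    exact c.false hyP' hy'1

end Cfsg.Agent.H71.TwoMix
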